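import Cfsg.Agent.H121.Cyc.Base
import Cfsg.Agent.H121.Wt
import Cfsg.Agent.H189.FeitTits
import Cfsg.Prelude.Def_Classical

/-!
# The alternating row of S2351

* `klein_trivial` : `A₄` acting on a space of dimension at most two: the four group acts trivially;
* `minDeg_three`, `minDeg_five` : lower bounds for simple groups containing `A₄`, `(A₄ × 3):2`;
* `row_alt`.
-/

set_option autoImplicit false
set_option linter.unusedSectionVars false

namespace Cfsg.Agent.H123.AltRow

open Module Cfsg.Agent.H122 Cfsg.Agent.H121.Wt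

section

variable {V : Type*} [AddCommGroup V] [Module ℂ V] [FiniteDimensional ℂ V]

/-- the four group acts trivially -/
theorem klein_trivial {A B T S : Module.End ℂ V} (hA : A * A = 1) (hB : B * B = 1) (hAB : A * B = B * A)
    (hTA : T * A = B * T) (hTB : T * B = A * B * T) (hST : S * T = 1) (hd : finrank ℂ V ≤ 2) : A = 1 := by
  by_contra hA1
  -- a vector with `A v = -v`
  obtain ⟨v, hv, hv0⟩ : ∃ v, A v = -v ∧ v ≠ 0 := by
    by_contra hcon
    push Not at hcon
    apply hA1
    ext v
    have h1 : A (v - A v) = -(v - A v) := by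
      rw [map_sub, ← Module.End.mul_apply, hA, Module.End.one_apply]; abel
    have h2 := hcon _ h1
    rw [Module.End.one_apply]
    exact (sub_eq_zero.1 h2).symm
  -- a common eigenvector
  obtain ⟨w, e, hw0, hAw, hBw, he⟩ : ∃ (w : V) (e : ℂ), w ≠ 0 ∧ A w = -w ∧ B w = e • w ∧ (e = 1 ∨ e = -1) := by
    have hBv : A (B v) = -(B v) := by
      rw [← Module.End.mul_apply, hAB, Module.End.mul_apply, hv, map_neg]
    by_cases h1 : v + B v = 0
    · refine ⟨v, -1, hv0, hv, ?_, Or.inr rfl⟩
      rw [neg_smul, one_smul]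
      exact (neg_eq_of_add_eq_zero_right h1).symm
    · refine ⟨v + B v, 1, h1, ?_, ?_, Or.inl rfl⟩
      · rw [map_add, hv, hBv]; abel
      · rw [map_add, ← Module.End.mul_apply, hB, Module.End.one_apply, one_smul, add_comm]
  -- transport by `T`
  have hT0 : ∀ {x : V}, x ≠ 0 → T x ≠ 0 := by
    intro x hx h
    apply hx
    have h1 : S (T x) = x := by rw [← Module.End.mul_apply, hST, Module.End.one_apply]
    rw [← h1, h, map_zero]
  have hstep : ∀ {x : V} {a b : ℂ}, A x = a • x → B x = b • x → a * a = 1 →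
      A (T x) = (a * b) • T x ∧ B (T x) = a • T x := by
    intro x a b hax hbx haa
    have h1 : B (T x) = a • T x := by
      rw [← Module.End.mul_apply, ← hTA, Module.End.mul_apply, hax, map_smul]
    have h2 : A (B (T x)) = b • T x := by
      have : (A * B * T) x = (T * B) x := by rw [hTB]
      rw [Module.End.mul_apply, Module.End.mul_apply, Module.End.mul_apply, hbx, map_smul] at this
      exact this
    rw [h1, map_smul] at h2
    refine ⟨?_, h1⟩
    have h3 : a • a • A (T x) = a • b • T x := by rw [h2]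
    rw [smul_smul, haa, one_smul, smul_smul] at h3
    exact h3
  -- the operator `A + 2 B`
  have hlin : ∀ {x : V} {a b : ℂ}, A x = a • x → B x = b • x → (A + (2 : ℂ) • B) x = (a + 2 * b) • x := by
    intro x a b h1 h2
    rw [LinearMap.add_apply, LinearMap.smul_apply, h1, h2, smul_smul, add_smul]
  have hAw' : A w = (-1 : ℂ) • w := by rw [hAw, neg_smul, one_smul]
  have s1 := hstep hAw' hBw (by norm_num)
  have s2 : A (T (T w)) = ((-1 * e) * -1) • T (T w) ∧ B (T (T w)) = (-1 * e) • T (T w) := by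
    refine hstep s1.1 s1.2 ?_
    rcases he with rfl | rfl <;> norm_num
  have e0 := hlin hAw' hBw
  have e1 := hlin s1.1 s1.2
  have e2 := hlin s2.1 s2.2
  have hli : LinearIndependent ℂ ![w, T w, T (T w)] := by
    refine Module.End.eigenvectors_linearIndependent' (A + (2 : ℂ) • B)
      ![-1 + 2 * e, -1 * e + 2 * -1, (-1 * e) * -1 + 2 * (-1 * e)] ?_ _ ?_
    · intro i j hij
      rcases he with rfl | rfl <;> fin_cases i <;> fin_cases j <;> simp at hij ⊢ <;> norm_num at hij
    · intro i
      fin_cases i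
      · exact ⟨Module.End.mem_eigenspace_iff.2 e0, hw0⟩
      · exact ⟨Module.End.mem_eigenspace_iff.2 e1, hT0 hw0⟩
      · exact ⟨Module.End.mem_eigenspace_iff.2 e2, hT0 (hT0 hw0)⟩
  have h3 := hli.fintype_card_le_finrank
  rw [Fintype.card_fin] at h3
  omega

end

section

variable {G : Type*} [Group G] [IsSimpleGroup G]

/-- `A₄` in a simple group -/
theorem minDeg_three {a b t : G} (ha : a ≠ 1) (haa : a * a = 1) (hbb : b * b = 1) (hab : a * b = b * a)
    (hta : t * a = b * t) (htb : t * b = a * b * t) : MinDeg G 3 := by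
  intro M _ _ _ ρ hρ
  by_contra hcon
  refine Cfsg.Agent.H121.Chr.faithful ρ hρ ha ?_
  exact klein_trivial (A := ρ a) (B := ρ b) (T := ρ t) (S := ρ t⁻¹) (by rw [← map_mul, haa, map_one])
    (by rw [← map_mul, hbb, map_one]) (by rw [← map_mul, hab, map_mul]) (by rw [← map_mul, hta, map_mul])
    (by rw [← map_mul, htb, map_mul, map_mul]) (by rw [← map_mul, inv_mul_cancel, map_one]) (by omega)

/-- `(A₄ × 3):2` in a simple group -/
theorem minDeg_five {a b t c g : G} (ha : a ≠ 1) (haa : a * a = 1) (hbb : b * b = 1) (hab : a * b = b * a)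
    (hta : t * a = b * t) (htb : t * b = a * b * t) (hc : c ≠ 1) (hc3 : c * c * c = 1) (hca : c * a = a * c)
    (hcb : c * b = b * c) (hct : c * t = t * c) (hg : g * c = c⁻¹ * g) : MinDeg G 5 := by
  intro M _ _ _ ρ hρ
  by_contra hcon
  have hcp : c ^ 3 = 1 := by rw [pow_succ, pow_two, hc3]
  let x : ZMod 3 → G := fun k => c ^ k.val
  have hx : ∀ k l : ZMod 3, x (k + l) = x k * x l := by
    intro k l
    show c ^ (k + l).val = c ^ k.val * c ^ l.val
    rw [ZMod.val_add, ← pow_add, ← pow_mod_orderOf]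
    nth_rw 2 [← pow_mod_orderOf]
    congr 1
    have h1 : orderOf c ∣ 3 := orderOf_dvd_of_pow_eq_one hcp
    exact Nat.mod_mod_of_dvd _ h1
  have hact := isAct_of ρ hx
  have hsum := sum_finrank hact
  have hinv : ∀ k, x (-k) = (x k)⁻¹ := by
    intro k
    rw [eq_inv_iff_mul_eq_one, ← hx, neg_add_cancel]
    show c ^ (0 : ZMod 3).val = 1
    simp
  have hgx : ∀ k, g * x k = x (-k) * g := by
    intro k
    rw [hinv]
    show g * c ^ k.val = (c ^ k.val)⁻¹ * g
    have h1 : g * c * g⁻¹ = c⁻¹ := by rw [hg, mul_inv_cancel_right]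
    have h2 : g * c ^ k.val * g⁻¹ = (c ^ k.val)⁻¹ := by rw [← conj_pow, h1, inv_pow]
    rw [← h2, inv_mul_cancel_right]
  have hdim : ∀ χ : AddChar (ZMod 3) ℂ, finrank ℂ (wt (fun k => ρ (x k)) χ) = finrank ℂ (wt (fun k => ρ (x k)) χ⁻¹) := by
    intro χ
    refine finrank_wt_eq ρ hgx (neg_involutive.bijective) ?_
    intro k
    rw [AddChar.inv_apply, neg_neg]
  -- two different characters
  have hne : ∀ χ : AddChar (ZMod 3) ℂ, χ ≠ 1 → χ ≠ χ⁻¹ := by
    intro χ h1 h2
    apply h1
    rw [eq_comm, inv_eq_iff_mul_eq_one] at h2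
    ext k
    have h3 : χ k * χ k = 1 := by
      have := DFunLike.congr_fun h2 k
      simpa using this
    have h4 : χ k * χ k * χ k = 1 := by
      rw [← AddChar.map_add_eq_mul, ← AddChar.map_add_eq_mul]
      have h5 : ∀ k : ZMod 3, k + k + k = 0 := by decide
      rw [h5, AddChar.map_zero_eq_one]
    rw [h3, one_mul] at h4
    rw [h4]; rfl
  -- the weight spaces are at most two-dimensional
  have hle : ∀ χ : AddChar (ZMod 3) ℂ, finrank ℂ (wt (fun k => ρ (x k)) χ) ≤ 2 := by
    classical
    intro χ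
    by_cases hχ : χ = 1
    · subst hχ
      have h1 : ρ (x 1) ≠ 1 := by
        refine Cfsg.Agent.H121.Chr.faithful ρ hρ ?_
        show c ^ (1 : ZMod 3).val ≠ 1
        simpa [ZMod.val_one] using hc
      obtain ⟨φ, hφ, hφ1⟩ := Cfsg.Agent.H121.Chr.exists_wt hact h1
      have hφ' : φ ≠ 1 := by rintro rfl; exact hφ1 rfl
      have h2 : 0 < finrank ℂ (wt (fun k => ρ (x k)) φ) := by
        rw [Nat.pos_iff_ne_zero]
        intro h0
        exact hφ (Submodule.finrank_eq_zero.1 h0)
      have h3 : ∑ ψ ∈ ({1, φ, φ⁻¹} : Finset (AddChar (ZMod 3) ℂ)), finrank ℂ (wt (fun k => ρ (x k)) ψ) ≤ finrank ℂ M := by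
        rw [← hsum]
        exact Finset.sum_le_sum_of_subset (Finset.subset_univ _)
      rw [Finset.sum_insert, Finset.sum_insert, Finset.sum_singleton, ← hdim φ] at h3
      · omega
      · simpa using hne φ hφ'
      · simp only [Finset.mem_insert, Finset.mem_singleton, not_or]
        refine ⟨hφ'.symm, fun h => hφ' ?_⟩
        rw [eq_comm, inv_eq_one] at h
        exact h
    · have h3 : ∑ ψ ∈ ({χ, χ⁻¹} : Finset (AddChar (ZMod 3) ℂ)), finrank ℂ (wt (fun k => ρ (x k)) ψ) ≤ finrank ℂ M := by
        rw [← hsum]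
        exact Finset.sum_le_sum_of_subset (Finset.subset_univ _)
      rw [Finset.sum_insert, Finset.sum_singleton, ← hdim χ] at h3
      · omega
      · simpa using hne χ hχ
  -- `a` is trivial on the weight spaces
  have hinvt : ∀ {y : G}, c * y = y * c → ∀ (χ : AddChar (ZMod 3) ℂ), ∀ v ∈ wt (fun k => ρ (x k)) χ,
      ρ y v ∈ wt (fun k => ρ (x k)) χ := by
    intro y hy χ v hv
    refine map_wt ρ (f := id) (fun k => ?_) Function.surjective_id (fun _ => rfl) hv
    exact ((show Commute c y from hy).pow_left k.val).eq.symm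
  refine Cfsg.Agent.H121.Chr.faithful ρ hρ ha ?_
  have hfix : ∀ (χ : AddChar (ZMod 3) ℂ), ∀ v ∈ wt (fun k => ρ (x k)) χ, ρ a v = v := by
    intro χ v hv
    have hti : c * t⁻¹ = t⁻¹ * c := ((show Commute c t from hct).inv_right).eq
    have h1 := klein_trivial (V := ↥(wt (fun k => ρ (x k)) χ)) (A := (ρ a).restrict (hinvt hca χ))
      (B := (ρ b).restrict (hinvt hcb χ)) (T := (ρ t).restrict (hinvt hct χ)) (S := (ρ t⁻¹).restrict (hinvt hti χ))
      (by
        ext ⟨w, hw⟩
        show ρ a (ρ a w) = w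
        rw [← Module.End.mul_apply, ← map_mul, haa, map_one, Module.End.one_apply])
      (by
        ext ⟨w, hw⟩
        show ρ b (ρ b w) = w
        rw [← Module.End.mul_apply, ← map_mul, hbb, map_one, Module.End.one_apply])
      (by
        ext ⟨w, hw⟩
        show ρ a (ρ b w) = ρ b (ρ a w)
        rw [← Module.End.mul_apply, ← Module.End.mul_apply, ← map_mul, ← map_mul, hab])
      (by
        ext ⟨w, hw⟩
        show ρ t (ρ a w) = ρ b (ρ t w)
        rw [← Module.End.mul_apply, ← Module.End.mul_apply, ← map_mul, ← map_mul, hta])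
      (by
        ext ⟨w, hw⟩
        show ρ t (ρ b w) = ρ a (ρ b (ρ t w))
        rw [← Module.End.mul_apply, ← Module.End.mul_apply, ← Module.End.mul_apply, ← map_mul, ← map_mul, ← map_mul,
          htb, mul_assoc])
      (by
        ext ⟨w, hw⟩
        show ρ t⁻¹ (ρ t w) = w
        rw [← Module.End.mul_apply, ← map_mul, inv_mul_cancel, map_one, Module.End.one_apply])
      (hle χ)
    have h2 := LinearMap.congr_fun h1 ⟨v, hv⟩
    exact congrArg Subtype.val h2
  ext v
  have h1 : v = ∑ χ : AddChar (ZMod 3) ℂ, pr (fun k => ρ (x k)) χ v := by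
    have := LinearMap.congr_fun (sum_pr hact) v
    rw [LinearMap.sum_apply] at this
    exact this.symm
  rw [Module.End.one_apply]
  nth_rw 1 [h1]
  rw [map_sum]
  nth_rw 2 [h1]
  exact Finset.sum_congr rfl fun χ _ => hfix χ _ (pr_mem hact χ v)

end

/-- the order of a `p`-element of `S_r` -/
theorem pow_le {r p a : ℕ} [hp : Fact p.Prime] (σ : Equiv.Perm (Fin r)) (h : orderOf σ = p ^ a) (hr : 1 ≤ r) :
    p ^ a ≤ r := by
  rw [← Equiv.Perm.lcm_cycleType] at h
  by_cases ha : a = 0
  · rw [ha, pow_zero]; exact hr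
  -- some cycle has length `p ^ a`
  obtain ⟨m, hm, hm'⟩ : ∃ m ∈ σ.cycleType, p ^ a ∣ m := by
    by_contra hcon
    push Not at hcon
    have h1 : σ.cycleType.lcm ∣ p ^ (a - 1) := by
      rw [Multiset.lcm_dvd]
      intro m hm
      have h2 : m ∣ p ^ a := by rw [← h]; exact Multiset.dvd_lcm hm
      obtain ⟨b, hb, rfl⟩ := (Nat.dvd_prime_pow hp.out).1 h2
      refine pow_dvd_pow p ?_
      by_contra h3
      have h4 : b = a := by omega
      exact hcon _ hm (by rw [h4])
    rw [h] at h1
    have h2 := (Nat.pow_dvd_pow_iff_le_right hp.out.one_lt).1 h1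
    omega
  have h1 : m ≤ σ.cycleType.sum := Multiset.le_sum_of_mem hm
  have h2 : σ.cycleType.sum ≤ r := by
    rw [Equiv.Perm.sum_cycleType]
    simpa using Finset.card_le_univ σ.support
  have h3 : 0 < m := by
    have := Equiv.Perm.two_le_of_mem_cycleType hm
    omega
  exact (Nat.le_of_dvd h3 hm').trans (h1.trans h2)

theorem simple {n : ℕ} (hn : 5 ≤ n) : IsSimpleGroup (alternatingGroup (Fin n)) := by
  have := alternatingGroup.isSimpleGroup (α := Fin n) (by rw [Nat.card_eq_fintype_card, Fintype.card_fin]; exact hn)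
  exact this

open Equiv in
theorem mem2 {n : ℕ} {a b c d : Fin n} (h1 : a ≠ b) (h2 : c ≠ d) : swap a b * swap c d ∈ alternatingGroup (Fin n) := by
  rw [Equiv.Perm.mem_alternatingGroup, map_mul, Equiv.Perm.sign_swap h1, Equiv.Perm.sign_swap h2]
  rfl

open Equiv in
theorem alt_five : MinDeg (alternatingGroup (Fin 5)) 3 := by
  have := simple (n := 5) le_rfl
  exact minDeg_three (a := ⟨swap 0 1 * swap 2 3, mem2 (by decide) (by decide)⟩) (b := ⟨swap 0 2 * swap 1 3, mem2 (by decide) (by decide)⟩)
    (t := ⟨swap 1 2 * swap 2 3, mem2 (by decide) (by decide)⟩) (by decide) (by decide) (by decide) (by decide) (by decide) (by decide)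

open Equiv in
theorem alt_six : MinDeg (alternatingGroup (Fin 6)) 3 := by
  have := simple (n := 6) (by norm_num)
  exact minDeg_three (a := ⟨swap 0 1 * swap 2 3, mem2 (by decide) (by decide)⟩) (b := ⟨swap 0 2 * swap 1 3, mem2 (by decide) (by decide)⟩)
    (t := ⟨swap 1 2 * swap 2 3, mem2 (by decide) (by decide)⟩) (by decide) (by decide) (by decide) (by decide) (by decide) (by decide)

open Equiv in
theorem alt_seven : MinDeg (alternatingGroup (Fin 7)) 5 := by
  have := simple (n := 7) (by norm_num)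
  exact minDeg_five (a := ⟨swap 0 1 * swap 2 3, mem2 (by decide) (by decide)⟩) (b := ⟨swap 0 2 * swap 1 3, mem2 (by decide) (by decide)⟩)
    (t := ⟨swap 1 2 * swap 2 3, mem2 (by decide) (by decide)⟩) (c := ⟨swap 4 5 * swap 5 6, mem2 (by decide) (by decide)⟩)
    (g := ⟨swap 4 5 * swap 0 1, mem2 (by decide) (by decide)⟩) (by decide) (by decide) (by decide) (by decide) (by decide) (by decide)
    (by decide) (by decide) (by decide) (by decide) (by decide) (by decide)

open Equiv in
theorem alt_eight : MinDeg (alternatingGroup (Fin 8)) 5 := by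
  have := simple (n := 8) (by norm_num)
  exact minDeg_five (a := ⟨swap 0 1 * swap 2 3, mem2 (by decide) (by decide)⟩) (b := ⟨swap 0 2 * swap 1 3, mem2 (by decide) (by decide)⟩)
    (t := ⟨swap 1 2 * swap 2 3, mem2 (by decide) (by decide)⟩) (c := ⟨swap 4 5 * swap 5 6, mem2 (by decide) (by decide)⟩)
    (g := ⟨swap 4 5 * swap 0 1, mem2 (by decide) (by decide)⟩) (by decide) (by decide) (by decide) (by decide) (by decide) (by decide)
    (by decide) (by decide) (by decide) (by decide) (by decide) (by decide)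

theorem alt_big {r : ℕ} (hr : 9 ≤ r) : MinDeg (alternatingGroup (Fin r)) (r - 1) := by
  have := simple (n := r) (by omega)
  intro M _ _ _ ρ hρ
  have h1 := Cfsg.Agent.H189.FeitTits.feit_tits (k := ℂ) 0 (V := M) hr (MonoidHom.id (alternatingGroup (Fin r)))
    Function.surjective_id ρ (fun g hg => by
      by_contra h
      exact Cfsg.Agent.H121.Chr.faithful ρ hρ h hg)
  rw [if_neg (by rw [zero_dvd_iff]; omega)] at h1
  omega

/-- **The alternating row.** -/
theorem row_alt {p : ℕ} [hp : Fact p.Prime] (hp2 : p ≠ 2) {G : Type*} [Group G] (h : Cfsg.IsAlternating G) :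
    Cfsg.Agent.H121.Cyc.Row p G := by
  obtain ⟨r, hr, ⟨e⟩⟩ := h
  refine Cfsg.Agent.H121.Cyc.Row.congr ?_ e.symm
  have key : ∀ (g : alternatingGroup (Fin r)) (a : ℕ), orderOf g = p ^ a → p ^ a ≤ r := by
    intro g a hg
    refine pow_le (g : Equiv.Perm (Fin r)) ?_ (by omega)
    rw [Subgroup.orderOf_coe, hg]
  have hodd : ∀ a, ¬ 2 ∣ p ^ a := by
    intro a h2
    have h3 := Nat.prime_two.dvd_of_dvd_pow h2
    exact hp2 ((Nat.prime_dvd_prime_iff_eq Nat.prime_two hp.out).1 h3).symm
  by_cases h9 : 9 ≤ r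
  · refine Cfsg.Agent.H121.Cyc.Row.of_pelt (alt_big h9) fun g a hg => ?_
    have := key g a hg
    omega
  · have h8 : r < 9 := by omega
    interval_cases r
    · refine Cfsg.Agent.H121.Cyc.Row.of_pelt alt_five fun g a hg => ?_
      have := key g a hg
      omega
    · refine Cfsg.Agent.H121.Cyc.Row.of_pelt alt_six fun g a hg => ?_
      have := key g a hg
      have := hodd a
      omega
    · refine Cfsg.Agent.H121.Cyc.Row.of_pelt alt_seven fun g a hg => ?_
      have := key g a hg
      omega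
    · refine Cfsg.Agent.H121.Cyc.Row.of_pelt alt_eight fun g a hg => ?_
      have := key g a hg
      have := hodd a
      omega

end Cfsg.Agent.H123.AltRow
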