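import Mathlib

/-!
# Cyclic Sylow subgroups: the predicate (S2348)

* `CycTI p G` : for a cyclic Sylow `p`-subgroup `P` and `s ∈ P` of order `p`, `C_G(s)` normalises `P`;
* `CycTI.ti` : then `P` is a trivial intersection set;
* `CycTI.congr`, `CycTI.of_not_sq_dvd`, `CycTI.of_not_isCyclic`, `CycTI.of_injective` (a subgroup of a group with cyclic
  Sylow `p`-subgroups), `CycTI.of_index` (a subgroup of index prime to `p`), `CycTI.of_surjective` (a quotient by a central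
  `p'`-subgroup).
-/

set_option autoImplicit false
set_option linter.unusedSectionVars false

namespace Cfsg.Agent.H123

open scoped Pointwise

/-- The centraliser of an element of order `p` of a cyclic Sylow `p`-subgroup normalises it. -/
def CycTI (p : ℕ) (G : Type*) [Group G] : Prop :=
  ∀ P : Sylow p G, IsCyclic ↥(P : Subgroup G) → ∀ s ∈ P, s ^ p = 1 → s ≠ 1 → ∀ c, c * s = s * c → ∀ y ∈ P,
    c * y * c⁻¹ ∈ P

theorem CycTI.congr {p : ℕ} {G H : Type*} [Group G] [Group H] (h : CycTI p G) (e : G ≃* H) : CycTI p H := by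
  intro P hP s hs hsp hs1 c hcs y hy
  have hrange : (P : Subgroup H) ≤ e.toMonoidHom.range := fun y _ => ⟨e.symm y, e.apply_symm_apply y⟩
  obtain ⟨P', hP'⟩ : ∃ P' : Sylow p G, ∀ y, y ∈ P' ↔ e y ∈ P :=
    ⟨P.comapOfInjective e.toMonoidHom e.injective hrange, fun _ => Iff.rfl⟩
  have hcyc : IsCyclic ↥(P' : Subgroup G) := by
    let f : ↥(P' : Subgroup G) →* ↥(P : Subgroup H) :=
      { toFun := fun y => ⟨e y, (hP' y).1 y.2⟩
        map_one' := Subtype.ext (map_one e)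
        map_mul' := fun a b => Subtype.ext (map_mul e _ _) }
    exact isCyclic_of_injective f fun a b hab => Subtype.ext (e.injective (congrArg Subtype.val hab))
  have hmem : ∀ z ∈ P, e.symm z ∈ P' := fun z hz => (hP' _).2 (by rwa [MulEquiv.apply_symm_apply])
  have h1 := h P' hcyc (e.symm s) (hmem s hs) (by rw [← map_pow, hsp, map_one])
    (by rwa [Ne, MulEquiv.map_eq_one_iff]) (e.symm c) (by rw [← map_mul, hcs, map_mul]) (e.symm y) (hmem y hy)
  have h2 := (hP' _).1 h1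
  rw [map_mul, map_mul, map_inv, MulEquiv.apply_symm_apply, MulEquiv.apply_symm_apply] at h2
  exact h2

section TI

variable {p : ℕ} {G : Type*} [Group G] [Finite G]

/-- a nontrivial subgroup of a cyclic `p`-group contains the elements of order `p` -/
theorem mem_of_cyclic [hp : Fact p.Prime] {P Q : Subgroup G} (hP : IsPGroup p ↥P) (hc : IsCyclic ↥P) (hQP : Q ≤ P)
    (hQ : Q ≠ ⊥) {s : G} (hs : s ∈ P) (hsp : s ^ p = 1) : s ∈ Q := by
  obtain ⟨q, hqQ, hq1⟩ : ∃ q ∈ Q, q ≠ 1 := by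
    by_contra hcon
    push Not at hcon
    exact hQ ((Subgroup.eq_bot_iff_forall _).2 hcon)
  -- an element of order `p` of `Q`
  obtain ⟨m, hm⟩ := (IsPGroup.iff_orderOf.1 hP) ⟨q, hQP hqQ⟩
  rw [Subgroup.orderOf_mk] at hm
  have hm0 : m ≠ 0 := by
    rintro rfl
    rw [pow_zero, orderOf_eq_one_iff] at hm
    exact hq1 hm
  obtain ⟨m, rfl⟩ := Nat.exists_eq_succ_of_ne_zero hm0
  have hu : q ^ p ^ m ≠ 1 := by
    intro h1
    have h2 := orderOf_dvd_of_pow_eq_one h1
    rw [hm] at h2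
    exact absurd ((Nat.pow_dvd_pow_iff_le_right hp.out.one_lt).1 h2) (by omega)
  have hup : (q ^ p ^ m) ^ p = 1 := by
    rw [← pow_mul, ← pow_succ, ← hm, pow_orderOf_eq_one]
  have huo : orderOf (q ^ p ^ m) = p := orderOf_eq_prime hup hu
  by_cases hs1 : s = 1
  · rw [hs1]; exact one_mem _
  have hso : orderOf s = p := orderOf_eq_prime hsp hs1
  -- the elements with `a ^ p = 1` are the powers of one of them
  have huQ : q ^ p ^ m ∈ Q := Q.pow_mem hqQ _
  classical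
  have := Fintype.ofFinite ↥P
  have h1 : (Finset.univ.filter fun a : ↥P => a ^ p = 1).card ≤ p := IsCyclic.card_pow_eq_one_le hp.out.pos
  have h2 : (⟨s, hs⟩ : ↥P) ∈ Subgroup.zpowers (⟨q ^ p ^ m, hQP huQ⟩ : ↥P) := by
    have h3 : ((Subgroup.zpowers (⟨q ^ p ^ m, hQP huQ⟩ : ↥P) : Set ↥P).toFinset) ⊆
        Finset.univ.filter fun a : ↥P => a ^ p = 1 := by
      intro a ha
      rw [Set.mem_toFinset, SetLike.mem_coe] at ha
      obtain ⟨i, rfl⟩ := ha
      refine Finset.mem_filter.2 ⟨Finset.mem_univ _, Subtype.ext ?_⟩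
      show ((q ^ p ^ m) ^ i) ^ p = 1
      rw [← zpow_natCast, ← zpow_mul, mul_comm, zpow_mul, zpow_natCast, hup, one_zpow]
    have h4 : ((Subgroup.zpowers (⟨q ^ p ^ m, hQP huQ⟩ : ↥P) : Set ↥P).toFinset).card = p := by
      rw [Set.toFinset_card, ← Nat.card_eq_fintype_card]
      show Nat.card ↥(Subgroup.zpowers (⟨q ^ p ^ m, hQP huQ⟩ : ↥P)) = p
      rw [Nat.card_zpowers, Subgroup.orderOf_mk, huo]
    have h5 := Finset.eq_of_subset_of_card_le h3 (by rw [h4]; exact h1)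
    have h6 : (⟨s, hs⟩ : ↥P) ∈ Finset.univ.filter fun a : ↥P => a ^ p = 1 :=
      Finset.mem_filter.2 ⟨Finset.mem_univ _, Subtype.ext hsp⟩
    rw [← h5, Set.mem_toFinset] at h6
    exact h6
  obtain ⟨i, hi⟩ := h2
  have h3 : (q ^ p ^ m) ^ i = s := congrArg Subtype.val hi
  rw [← h3]
  exact Q.zpow_mem huQ i

/-- **The trivial intersection property.** -/
theorem ti_of [hp : Fact p.Prime] (P : Sylow p G) (hP : IsCyclic ↥(P : Subgroup G))
    (h : ∀ s ∈ P, s ^ p = 1 → s ≠ 1 → ∀ c, c * s = s * c → ∀ y ∈ P, c * y * c⁻¹ ∈ P) (g : G) :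
    (P : Subgroup G).map (MulAut.conj g).toMonoidHom = (P : Subgroup G) ∨
      (P : Subgroup G).map (MulAut.conj g).toMonoidHom ⊓ (P : Subgroup G) = ⊥ := by
  by_cases hbot : (P : Subgroup G).map (MulAut.conj g).toMonoidHom ⊓ (P : Subgroup G) = ⊥
  · exact Or.inr hbot
  left
  -- an element of order `p` in the intersection
  have hPne : (P : Subgroup G) ≠ ⊥ := by
    intro h1
    apply hbot
    rw [h1, inf_bot_eq]
  obtain ⟨s, hs, hsp, hs1⟩ : ∃ s ∈ P, s ^ p = 1 ∧ s ≠ 1 := by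
    have hd : p ∣ Nat.card ↥(P : Subgroup G) := by
      rcases P.2.card_eq_or_dvd with h1 | h1
      · exact absurd (Subgroup.card_eq_one.1 h1) hPne
      · exact h1
    obtain ⟨⟨s, hs⟩, h1⟩ := exists_prime_orderOf_dvd_card' p hd
    rw [Subgroup.orderOf_mk] at h1
    refine ⟨s, hs, by rw [← h1]; exact pow_orderOf_eq_one s, ?_⟩
    rintro rfl
    rw [orderOf_one] at h1
    exact hp.out.one_lt.ne h1
  have hsI := mem_of_cyclic P.2 hP inf_le_right hbot hs hsp
  -- `g⁻¹ s g ∈ P` is of order `p`, hence a power of `s`, and conversely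
  obtain ⟨s', hs', hss⟩ := hsI.1
  have hss' : g * s' * g⁻¹ = s := hss
  have hs'p : s' ^ p = 1 := by
    have h1 : s' = g⁻¹ * s * g⁻¹⁻¹ := by rw [← hss']; group
    rw [h1, conj_pow, hsp, mul_one, mul_inv_cancel]
  have hs'1 : s' ≠ 1 := by
    rintro rfl
    apply hs1
    rw [← hss', mul_one, mul_inv_cancel]
  -- the Sylow subgroup `g P g⁻¹`
  obtain ⟨Q, hQ⟩ : ∃ Q : Sylow p G, Q = g • P := ⟨_, rfl⟩
  have hP2 : ∀ y ∈ P, g * y * g⁻¹ ∈ Q := by
    intro y hy
    rw [hQ, Sylow.smul_def]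
    exact Subgroup.smul_mem_pointwise_smul y (MulAut.conj g) _ hy
  have hQ2 : ∀ z ∈ Q, ∃ y ∈ P, g * y * g⁻¹ = z := by
    intro z hz
    rw [hQ, Sylow.smul_def] at hz
    obtain ⟨y, hy, e⟩ := hz
    exact ⟨y, hy, e⟩
  have hcomm : ∀ y ∈ P, y * s = s * y := by
    intro y hy
    have h1 : IsMulCommutative ↥(P : Subgroup G) := inferInstance
    exact congrArg Subtype.val (mul_comm' (⟨y, hy⟩ : ↥(P : Subgroup G)) ⟨s, hs⟩)
  have hcomm' : ∀ y ∈ P, (g * y * g⁻¹) * s = s * (g * y * g⁻¹) := by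
    intro y hy
    have h1 : IsMulCommutative ↥(P : Subgroup G) := inferInstance
    have h2 : y * s' = s' * y := congrArg Subtype.val (mul_comm' (⟨y, hy⟩ : ↥(P : Subgroup G)) ⟨s', hs'⟩)
    rw [← hss']
    calc g * y * g⁻¹ * (g * s' * g⁻¹) = g * (y * s') * g⁻¹ := by group
      _ = g * (s' * y) * g⁻¹ := by rw [h2]
      _ = _ := by group
  -- both are Sylow subgroups of `C_G(s)`, and `P` is normal there
  have hle : (Q : Subgroup G) ≤ (P : Subgroup G) := by
    -- `g P g⁻¹` normalises `P`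
    have h1 : (Q : Subgroup G) ≤ Subgroup.normalizer ((P : Subgroup G) : Set G) := by
      intro z₀ hz₀
      obtain ⟨y, hy, rfl⟩ := hQ2 z₀ hz₀
      have hn : ∀ c, c * s = s * c → ∀ z ∈ P, c * z * c⁻¹ ∈ P := fun c hc z hz => h s hs hsp hs1 c hc z hz
      have h2 := hcomm' y hy
      rw [Subgroup.mem_normalizer_iff]
      intro z
      refine ⟨fun hz => hn _ h2 z hz, fun hz => ?_⟩
      have h3 : (g * y * g⁻¹)⁻¹ * s = s * (g * y * g⁻¹)⁻¹ := (SemiconjBy.inv_symm_left h2 : _)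
      have h4 := hn _ h3 _ hz
      have h5 : (g * y * g⁻¹)⁻¹ * (g * y * g⁻¹ * z * (g * y * g⁻¹)⁻¹) * (g * y * g⁻¹)⁻¹⁻¹ = z := by group
      rwa [h5] at h4
    have h7 := Q.2.to_sup_of_normal_right' P.2 h1
    have h8 : (Q : Subgroup G) ⊔ (P : Subgroup G) = (P : Subgroup G) := P.3 h7 le_sup_right
    rw [← h8]
    exact le_sup_left
  have hcard : Nat.card ↥((P : Subgroup G).map (MulAut.conj g).toMonoidHom) = Nat.card ↥(P : Subgroup G) :=
    (Nat.card_congr ((P : Subgroup G).equivMapOfInjective _ (MulAut.conj g).injective).toEquiv).symm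
  refine Subgroup.eq_of_le_of_card_ge ?_ hcard.ge
  rintro _ ⟨y, hy, rfl⟩
  exact hle (hP2 y hy)

theorem CycTI.ti [hp : Fact p.Prime] (h : CycTI p G) (P : Sylow p G) (hP : IsCyclic ↥(P : Subgroup G)) (g : G) :
    (P : Subgroup G).map (MulAut.conj g).toMonoidHom = (P : Subgroup G) ∨
      (P : Subgroup G).map (MulAut.conj g).toMonoidHom ⊓ (P : Subgroup G) = ⊥ :=
  ti_of P hP (h P hP) g

/-- the converse -/
theorem mem_of_ti (P : Sylow p G)
    (h : ∀ g : G, (P : Subgroup G).map (MulAut.conj g).toMonoidHom = (P : Subgroup G) ∨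
      (P : Subgroup G).map (MulAut.conj g).toMonoidHom ⊓ (P : Subgroup G) = ⊥) {s : G} (hs : s ∈ P) (hs1 : s ≠ 1)
    {c : G} (hc : c * s = s * c) {y : G} (hy : y ∈ P) : c * y * c⁻¹ ∈ P := by
  rcases h c with h1 | h1
  · have h2 : c * y * c⁻¹ ∈ (P : Subgroup G).map (MulAut.conj c).toMonoidHom := ⟨y, hy, rfl⟩
    rwa [h1] at h2
  · exfalso
    apply hs1
    rw [← Subgroup.mem_bot, ← h1]
    exact ⟨⟨s, hs, by show c * s * c⁻¹ = s; rw [hc, mul_inv_cancel_right]⟩, hs⟩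

end TI

/-! ### inheritance -/

section Inherit

variable {p : ℕ}

/-- In a cyclic group an element whose order divides the order of `b` is a power of `b`. -/
theorem mem_zpowers_of_cyclic {G : Type*} [Group G] [Finite G] [IsCyclic G] {a b : G}
    (h : orderOf a ∣ orderOf b) : a ∈ Subgroup.zpowers b := by
  classical
  have := Fintype.ofFinite G
  have h1 : (Finset.univ.filter fun y : G => y ^ orderOf b = 1).card ≤ orderOf b :=
    IsCyclic.card_pow_eq_one_le (orderOf_pos b)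
  have h3 : ((Subgroup.zpowers b : Set G).toFinset) ⊆ Finset.univ.filter fun y : G => y ^ orderOf b = 1 := by
    intro y hy
    rw [Set.mem_toFinset, SetLike.mem_coe] at hy
    obtain ⟨i, rfl⟩ := hy
    refine Finset.mem_filter.2 ⟨Finset.mem_univ _, ?_⟩
    show (b ^ i) ^ orderOf b = 1
    rw [← zpow_natCast, ← zpow_mul, mul_comm, zpow_mul, zpow_natCast, pow_orderOf_eq_one, one_zpow]
  have h4 : ((Subgroup.zpowers b : Set G).toFinset).card = orderOf b := by
    rw [Set.toFinset_card, ← Nat.card_eq_fintype_card]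
    exact Nat.card_zpowers b
  have h5 := Finset.eq_of_subset_of_card_le h3 (by rw [h4]; exact h1)
  have h6 : a ∈ Finset.univ.filter fun y : G => y ^ orderOf b = 1 :=
    Finset.mem_filter.2 ⟨Finset.mem_univ _, orderOf_dvd_iff_pow_eq_one.1 h⟩
  rw [← h5, Set.mem_toFinset] at h6
  exact h6

theorem CycTI.of_not_isCyclic {G : Type*} [Group G] (h : ∀ P : Sylow p G, ¬ IsCyclic ↥(P : Subgroup G)) :
    CycTI p G := fun P hP => absurd hP (h P)

theorem CycTI.of_fix {G : Type*} [Group G] [Finite G] [hp : Fact p.Prime]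
    (h : ∀ S : Sylow p G, IsMulCommutative ↥(S : Subgroup G) → ∀ c : G,
      (∀ x ∈ (S : Subgroup G), x ^ p = 1 → c * x * c⁻¹ = x) →
      c ∈ Subgroup.normalizer ((S : Subgroup G) : Set G)) : CycTI p G := by
  intro P hP s hs hsp hs1 c hcs y hy
  have h1 := h P inferInstance c fun x hx hxp => by
    have h2 : x ∈ Subgroup.zpowers s := by
      refine mem_of_cyclic P.2 hP (Q := Subgroup.zpowers s) ?_ ?_ hx hxp
      · rw [Subgroup.zpowers_le]; exact hs
      · rwa [Ne, Subgroup.zpowers_eq_bot]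
    obtain ⟨i, rfl⟩ := h2
    have h3 : Commute c s := hcs
    have h4 : c * s ^ i = s ^ i * c := h3.zpow_right i
    show c * s ^ i * c⁻¹ = s ^ i
    rw [h4, mul_inv_cancel_right]
  exact (Subgroup.mem_normalizer_iff.1 h1 y).1 hy

/-- `|P| ∣ p`. -/
theorem CycTI.of_card {G : Type*} [Group G] [Finite G] [hp : Fact p.Prime]
    (h : ∀ P : Sylow p G, Nat.card ↥(P : Subgroup G) ∣ p) : CycTI p G := by
  intro P hP s hs hsp hs1 c hcs y hy
  have h1 : (⟨y, hy⟩ : ↥(P : Subgroup G)) ∈ Subgroup.zpowers (⟨s, hs⟩ : ↥(P : Subgroup G)) := by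
    refine mem_zpowers_of_cyclic ((orderOf_dvd_natCard _).trans ?_)
    rw [Subgroup.orderOf_mk, orderOf_eq_prime hsp hs1]
    exact h P
  obtain ⟨i, hi⟩ := h1
  have h2 : s ^ i = y := congrArg Subtype.val hi
  have h3 : Commute c s := hcs
  have h4 : c * s ^ i = s ^ i * c := h3.zpow_right i
  rw [← h2, h4, mul_inv_cancel_right]
  exact Subgroup.zpow_mem _ hs i

theorem CycTI.of_not_sq_dvd {G : Type*} [Group G] [Finite G] [hp : Fact p.Prime] (h : ¬ p ^ 2 ∣ Nat.card G) :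
    CycTI p G := by
  refine CycTI.of_card fun P => ?_
  rw [P.card_eq_multiplicity]
  have h1 : (Nat.card G).factorization p ≤ 1 := by
    by_contra hcon
    exact h ((hp.out.pow_dvd_iff_le_factorization Nat.card_pos.ne').2 (by omega))
  calc p ^ (Nat.card G).factorization p ∣ p ^ 1 := pow_dvd_pow p h1
    _ = p := pow_one p

/-- a subgroup of a group with cyclic Sylow `p`-subgroups -/
theorem CycTI.of_injective {G K : Type*} [Group G] [Group K] [Finite G] [Fact p.Prime] (h : CycTI p G)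
    (hc : ∀ Q : Sylow p G, IsCyclic ↥(Q : Subgroup G)) {f : K →* G} (hf : Function.Injective f) : CycTI p K := by
  intro P hP s hs hsp hs1 c hcs y hy
  have hfP : IsPGroup p ↥((P : Subgroup K).map f) := P.2.map f
  obtain ⟨Q, hQ⟩ := hfP.exists_le_sylow
  have hmem : ∀ z ∈ P, f z ∈ Q := fun z hz => hQ ⟨z, hz, rfl⟩
  have h1 := h Q (hc Q) (f s) (hmem s hs) (by rw [← map_pow, hsp, map_one])
    (by rwa [Ne, map_eq_one_iff f hf]) (f c) (by rw [← map_mul, hcs, map_mul]) (f y) (hmem y hy)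
  have := hc Q
  have h2 : (⟨_, h1⟩ : ↥(Q : Subgroup G)) ∈ Subgroup.zpowers (⟨f y, hmem y hy⟩ : ↥(Q : Subgroup G)) := by
    refine mem_zpowers_of_cyclic (dvd_of_eq ?_)
    rw [Subgroup.orderOf_mk, Subgroup.orderOf_mk]
    exact orderOf_injective (MulAut.conj (f c)).toMonoidHom (MulAut.conj (f c)).injective (f y)
  obtain ⟨i, hi⟩ := h2
  have h3 : f y ^ i = f c * f y * (f c)⁻¹ := congrArg Subtype.val hi
  rw [← map_zpow, ← map_mul, ← map_inv, ← map_mul] at h3
  rw [← hf h3]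
  exact Subgroup.zpow_mem _ hy i

/-- a subgroup of index prime to `p` -/
theorem CycTI.of_index {G K : Type*} [Group G] [Group K] [Finite G] [hp : Fact p.Prime] (h : CycTI p G) {f : K →* G}
    (hf : Function.Injective f) (hi : ¬ p ∣ f.range.index) : CycTI p K := by
  intro P hP s hs hsp hs1 c hcs y hy
  have : Finite K := Finite.of_injective f hf
  have hfP : IsPGroup p ↥((P : Subgroup K).map f) := P.2.map f
  have hcard : Nat.card ↥((P : Subgroup K).map f) = Nat.card ↥(P : Subgroup K) :=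
    (Nat.card_congr ((P : Subgroup K).equivMapOfInjective f hf).toEquiv).symm
  have hidx : ¬ p ∣ ((P : Subgroup K).map f).index := by
    rw [Subgroup.index_map, (MonoidHom.ker_eq_bot_iff f).2 hf, sup_bot_eq]
    exact hp.out.not_dvd_mul P.not_dvd_index hi
  obtain ⟨Q, hQ⟩ : ∃ Q : Sylow p G, (Q : Subgroup G) = (P : Subgroup K).map f := ⟨hfP.toSylow hidx, rfl⟩
  have hQ' : ∀ z, z ∈ Q ↔ z ∈ (P : Subgroup K).map f := fun z => by rw [← hQ]; rfl
  have hcyc : IsCyclic ↥(Q : Subgroup G) := by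
    rw [hQ]
    have e := (P : Subgroup K).equivMapOfInjective f hf
    exact isCyclic_of_surjective e.toMonoidHom e.surjective
  have h1 := h Q hcyc (f s) ((hQ' _).2 ⟨s, hs, rfl⟩) (by rw [← map_pow, hsp, map_one])
    (by rwa [Ne, map_eq_one_iff f hf]) (f c) (by rw [← map_mul, hcs, map_mul]) (f y) ((hQ' _).2 ⟨y, hy, rfl⟩)
  obtain ⟨z, hz, hz'⟩ := (hQ' _).1 h1
  rw [← map_inv, ← map_mul, ← map_mul] at hz'
  rw [← hf hz']
  exact hz

/-- a quotient by a central `p'`-subgroup -/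
theorem CycTI.of_surjective {G K : Type*} [Group G] [Group K] [Finite G] [hp : Fact p.Prime] (h : CycTI p G)
    {f : G →* K} (hf : Function.Surjective f) (hk : f.ker ≤ Subgroup.center G) (hpk : ¬ p ∣ Nat.card ↥f.ker) :
    CycTI p K := by
  intro P hP s hs hsp hs1 c hcs y hy
  obtain ⟨Q, rfl⟩ := Sylow.mapSurjective_surjective hf p P
  have hmem : ∀ z, z ∈ Q.mapSurjective hf ↔ ∃ w ∈ Q, f w = z := fun z => Iff.rfl
  have hQk : ∀ z ∈ Q, f z = 1 → z = 1 := by
    intro z hz h1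
    obtain ⟨m, hm⟩ := Q.2 ⟨z, hz⟩
    have hm' : z ^ p ^ m = 1 := congrArg Subtype.val hm
    have h2 : orderOf (⟨z, MonoidHom.mem_ker.2 h1⟩ : ↥f.ker) ∣ Nat.card ↥f.ker := orderOf_dvd_natCard _
    rw [Subgroup.orderOf_mk] at h2
    have h3 : (p ^ m).Coprime (Nat.card ↥f.ker) :=
      Nat.Coprime.pow_left m ((Nat.Prime.coprime_iff_not_dvd hp.out).2 hpk)
    have h4 := Nat.dvd_gcd (orderOf_dvd_of_pow_eq_one hm') h2
    rw [h3] at h4
    exact orderOf_eq_one_iff.1 (Nat.dvd_one.1 h4)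
  have hinj : ∀ z ∈ Q, ∀ w ∈ Q, f z = f w → z = w := by
    intro z hz w hw h1
    have h2 := hQk (z * w⁻¹) (mul_mem hz (inv_mem hw)) (by rw [map_mul, map_inv, h1, mul_inv_cancel])
    exact mul_inv_eq_one.1 h2
  have hcyc : IsCyclic ↥(Q : Subgroup G) := by
    let φ : ↥(Q : Subgroup G) →* ↥((Q.mapSurjective hf : Sylow p K) : Subgroup K) :=
      { toFun := fun y => ⟨f y, (hmem _).2 ⟨y, y.2, rfl⟩⟩
        map_one' := Subtype.ext (map_one f)
        map_mul' := fun a b => Subtype.ext (map_mul f _ _) }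
    exact isCyclic_of_injective φ fun a b hab => Subtype.ext (hinj _ a.2 _ b.2 (congrArg Subtype.val hab))
  obtain ⟨s, hsQ, rfl⟩ := (hmem _).1 hs
  obtain ⟨y, hyQ, rfl⟩ := (hmem _).1 hy
  obtain ⟨c, rfl⟩ := hf c
  have hsp' : s ^ p = 1 := hQk _ (pow_mem hsQ p) (by rw [map_pow, hsp])
  have hs1' : s ≠ 1 := by
    rintro rfl
    exact hs1 (map_one f)
  have hz : c * s * c⁻¹ * s⁻¹ ∈ f.ker := by
    rw [MonoidHom.mem_ker, map_mul, map_mul, map_mul, map_inv, map_inv, hcs, mul_inv_cancel_right, mul_inv_cancel]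
  have hzc : ∀ w, w * (c * s * c⁻¹ * s⁻¹) = (c * s * c⁻¹ * s⁻¹) * w := fun w =>
    (Subgroup.mem_center_iff.1 (hk hz)) w
  have hzp : (c * s * c⁻¹ * s⁻¹) ^ p = 1 := by
    have h1 : c * s * c⁻¹ = (c * s * c⁻¹ * s⁻¹) * s := by group
    have h2 : (c * s * c⁻¹) ^ p = 1 := by rw [conj_pow, hsp', mul_one, mul_inv_cancel]
    rw [h1] at h2
    have h3 : Commute (c * s * c⁻¹ * s⁻¹) s := (hzc s).symm
    rw [h3.mul_pow, hsp', mul_one] at h2
    exact h2
  have hz1 : c * s * c⁻¹ * s⁻¹ = 1 := by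
    have h2 : orderOf (⟨_, hz⟩ : ↥f.ker) ∣ Nat.card ↥f.ker := orderOf_dvd_natCard _
    rw [Subgroup.orderOf_mk] at h2
    rcases (Nat.dvd_prime hp.out).1 (orderOf_dvd_of_pow_eq_one hzp) with h3 | h3
    · exact orderOf_eq_one_iff.1 h3
    · rw [h3] at h2
      exact absurd h2 hpk
  have hcs' : c * s = s * c := by
    have h1 : c * s * c⁻¹ = s := mul_inv_eq_one.1 hz1
    calc c * s = c * s * c⁻¹ * c := by group
      _ = s * c := by rw [h1]
  have h1 := h Q hcyc s hsQ hsp' hs1' c hcs' y hyQ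
  exact (hmem _).2 ⟨_, h1, by rw [map_mul, map_mul, map_inv]⟩

/-- one Sylow subgroup is enough -/
theorem CycTI.of_exists {G : Type*} [Group G] [Finite G] [hp : Fact p.Prime] (Q : Sylow p G)
    (h : IsCyclic ↥(Q : Subgroup G) → ∀ s ∈ Q, s ^ p = 1 → s ≠ 1 → ∀ c, c * s = s * c → ∀ y ∈ Q,
      c * y * c⁻¹ ∈ Q) : CycTI p G := by
  intro P hP s hs hsp hs1 c hcs y hy
  obtain ⟨g, rfl⟩ := MulAction.exists_smul_eq G Q P
  have hmem : ∀ y, y ∈ (g • Q : Sylow p G) ↔ g⁻¹ * y * g ∈ Q := by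
    intro y
    show y ∈ ((g • Q : Sylow p G) : Subgroup G) ↔ _
    rw [Sylow.coe_subgroup_smul, Subgroup.mem_pointwise_smul_iff_inv_smul_mem, ← map_inv, MulAut.smul_def,
      MulAut.conj_apply, inv_inv]
    rfl
  have hQ : IsCyclic ↥(Q : Subgroup G) :=
    isCyclic_of_surjective ((g • Q).equiv Q).toMonoidHom ((g • Q).equiv Q).surjective
  rw [hmem] at hs hy ⊢
  have h1 := h hQ (g⁻¹ * s * g) hs (by
    have h2 : g⁻¹ * s * g = g⁻¹ * s * g⁻¹⁻¹ := by rw [inv_inv]
    rw [h2, conj_pow, hsp, mul_one, mul_inv_cancel]) (by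
    intro h2
    apply hs1
    calc s = g * (g⁻¹ * s * g) * g⁻¹ := by group
      _ = 1 := by rw [h2, mul_one, mul_inv_cancel]) (g⁻¹ * c * g) (by
    calc g⁻¹ * c * g * (g⁻¹ * s * g) = g⁻¹ * (c * s) * g := by group
      _ = g⁻¹ * (s * c) * g := by rw [hcs]
      _ = _ := by group) (g⁻¹ * y * g) hy
  have h2 : g⁻¹ * c * g * (g⁻¹ * y * g) * (g⁻¹ * c * g)⁻¹ = g⁻¹ * (c * y * c⁻¹) * g := by group
  rwa [h2] at h1

/-- an element of order `p` with an abelian centraliser -/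
theorem CycTI.of_centralizer {G : Type*} [Group G] [Finite G] [hp : Fact p.Prime] {y : G} (hy : orderOf y = p)
    (hc : ∀ a b, a * y = y * a → b * y = y * b → a * b = b * a) : CycTI p G := by
  have hyp : y ^ p = 1 := by rw [← hy]; exact pow_orderOf_eq_one y
  obtain ⟨Q, hQ⟩ := (IsPGroup.of_card (p := p) (n := 1) (G := ↥(Subgroup.zpowers y))
    (by rw [Nat.card_zpowers, hy, pow_one])).exists_le_sylow
  have hyQ : y ∈ Q := hQ (Subgroup.mem_zpowers y)
  refine CycTI.of_exists Q fun hQc s hs hsp hs1 c hcs z hz => ?_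
  have h1 : y ∈ Subgroup.zpowers s := by
    refine mem_of_cyclic Q.2 hQc (Q := Subgroup.zpowers s) ?_ ?_ hyQ hyp
    · rw [Subgroup.zpowers_le]; exact hs
    · rwa [Ne, Subgroup.zpowers_eq_bot]
  obtain ⟨i, rfl⟩ := h1
  have h3 : Commute c s := hcs
  have h4 : c * s ^ i = s ^ i * c := h3.zpow_right i
  have hcomm : IsMulCommutative ↥(Q : Subgroup G) := inferInstance
  have h5 : z * s ^ i = s ^ i * z := congrArg Subtype.val (mul_comm' (⟨z, hz⟩ : ↥(Q : Subgroup G)) ⟨s ^ i, hyQ⟩)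
  rw [hc c z h4 h5, mul_inv_cancel_right]
  exact hz

/-- a cyclic torus -/
theorem CycTI.of_torus {G : Type*} [Group G] [Finite G] [hp : Fact p.Prime] (A : Subgroup G) (hA : IsCyclic ↥A)
    (hpA : p ∣ Nat.card ↥A) (hN : ¬ p ∣ A.relIndex (Subgroup.normalizer (A : Set G)))
    (hNN : ∀ A₀ : Subgroup G, A₀ ≤ A → A₀ ≠ ⊥ →
      Subgroup.normalizer (A₀ : Set G) = Subgroup.normalizer (A : Set G)) : CycTI p G := by
  obtain ⟨⟨y, hyA⟩, hy⟩ := exists_prime_orderOf_dvd_card' p hpA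
  rw [Subgroup.orderOf_mk] at hy
  obtain ⟨Q, hQ⟩ := (IsPGroup.of_card (p := p) (n := 1) (G := ↥(Subgroup.zpowers y))
    (by rw [Nat.card_zpowers, hy, pow_one])).exists_le_sylow
  have hyQ : y ∈ Q := hQ (Subgroup.mem_zpowers y)
  -- the centraliser of an element of order `p` of `A` normalises `A`
  have hcN : ∀ s ∈ A, s ≠ 1 → ∀ c, c * s = s * c → c ∈ Subgroup.normalizer (A : Set G) := by
    intro s hs hs1 c hcs
    rw [← hNN (Subgroup.zpowers s) (by rw [Subgroup.zpowers_le]; exact hs) (by rwa [Ne, Subgroup.zpowers_eq_bot])]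
    have h3 : Commute c s := hcs
    rw [Subgroup.mem_normalizer_iff]
    intro x
    constructor
    · rintro ⟨i, rfl⟩
      have h4 : c * s ^ i = s ^ i * c := h3.zpow_right i
      show c * s ^ i * c⁻¹ ∈ _
      rw [h4, mul_inv_cancel_right]
      exact Subgroup.zpow_mem _ (Subgroup.mem_zpowers s) i
    · rintro ⟨i, hi⟩
      have hi' : s ^ i = c * x * c⁻¹ := hi
      have h4 : c * s ^ i = s ^ i * c := h3.zpow_right i
      have h5 : x = s ^ i := by
        calc x = c⁻¹ * (c * x * c⁻¹) * c := by group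
          _ = c⁻¹ * (s ^ i * c) := by rw [← hi', mul_assoc]
          _ = s ^ i := by rw [← h4, inv_mul_cancel_left]
      rw [h5]
      exact Subgroup.zpow_mem _ (Subgroup.mem_zpowers s) i
  refine CycTI.of_exists Q fun hQc s hs hsp hs1 c hcs z hz => ?_
  have hcomm : IsMulCommutative ↥(Q : Subgroup G) := inferInstance
  have hy1 : y ≠ 1 := by
    rintro rfl
    rw [orderOf_one] at hy
    exact hp.out.one_lt.ne hy
  have hQN : (Q : Subgroup G) ≤ Subgroup.normalizer (A : Set G) := fun x hx =>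
    hcN y hyA hy1 x (congrArg Subtype.val (mul_comm' (⟨x, hx⟩ : ↥(Q : Subgroup G)) ⟨y, hyQ⟩))
  have hQA : (Q : Subgroup G) ≤ A := by
    intro x hx
    have hn : (A.subgroupOf (Subgroup.normalizer (A : Set G))).Normal := Subgroup.normal_in_normalizer
    obtain ⟨π, hπk⟩ : ∃ π : ↥(Subgroup.normalizer (A : Set G)) →*
        (↥(Subgroup.normalizer (A : Set G)) ⧸ A.subgroupOf (Subgroup.normalizer (A : Set G))),
        ∀ z, π z = 1 ↔ z ∈ A.subgroupOf (Subgroup.normalizer (A : Set G)) :=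
      ⟨QuotientGroup.mk' _, fun z => QuotientGroup.eq_one_iff z⟩
    obtain ⟨k, hk⟩ := Q.2 ⟨x, hx⟩
    have hk' : x ^ p ^ k = 1 := congrArg Subtype.val hk
    have h1 : π ⟨x, hQN hx⟩ ^ p ^ k = 1 := by
      rw [← map_pow, hπk]
      have h2 : (⟨x, hQN hx⟩ : ↥(Subgroup.normalizer (A : Set G))) ^ p ^ k = 1 := Subtype.ext hk'
      rw [h2]
      exact one_mem _
    have h2 : orderOf (π ⟨x, hQN hx⟩) ∣ A.relIndex (Subgroup.normalizer (A : Set G)) := orderOf_dvd_natCard _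
    have h3 : (p ^ k).Coprime (A.relIndex (Subgroup.normalizer (A : Set G))) :=
      Nat.Coprime.pow_left k ((Nat.Prime.coprime_iff_not_dvd hp.out).2 hN)
    have h4 := Nat.dvd_gcd (orderOf_dvd_of_pow_eq_one h1) h2
    rw [h3] at h4
    exact (hπk _).1 (orderOf_eq_one_iff.1 (Nat.dvd_one.1 h4))
  have hc := hcN s (hQA hs) hs1 c hcs
  have h1 : c * z * c⁻¹ ∈ A := (Subgroup.mem_normalizer_iff.1 hc z).1 (hQA hz)
  have h2 : (⟨_, h1⟩ : ↥A) ∈ Subgroup.zpowers (⟨z, hQA hz⟩ : ↥A) := by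
    refine mem_zpowers_of_cyclic (dvd_of_eq ?_)
    rw [Subgroup.orderOf_mk, Subgroup.orderOf_mk]
    exact orderOf_injective (MulAut.conj c).toMonoidHom (MulAut.conj c).injective z
  obtain ⟨i, hi⟩ := h2
  have h3 : z ^ i = c * z * c⁻¹ := congrArg Subtype.val hi
  rw [← h3]
  exact Subgroup.zpow_mem _ hz i

end Inherit

end Cfsg.Agent.H123
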