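import Cfsg.Agent.H123.CycDef
import Cfsg.Agent.H119.SUBound
import Cfsg.Agent.H122.Cyc.Order
import Cfsg.Agent.H124.SplitNC
import Cfsg.Agent.H121.Cyc.Sq

/-!
# The row `PSU` of S2351
-/

set_option autoImplicit false
set_option linter.unusedSectionVars false

namespace Cfsg.Agent.H123.RowPSU

open Module Matrix Cfsg Cfsg.Agent.H122 Cfsg.Agent.H121.Cyc Cfsg.Agent.H119 Cfsg.Agent.H119.SUBound
  Cfsg.Agent.LieClassical.HermBasic Polynomial

section Order

variable {F : Type*} [Field F] [Fintype F] {q : ℕ}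

theorem gram (hF : Fintype.card F = q ^ 2) {n : ℕ} (g : Cfsg.SU n F q) :
    (g.1.1)ᵀ * (g.1.1).map (fun x => x ^ q) = 1 := by
  ext i j
  have h1 := (mem_SU_iff g.1).1 g.2 (Pi.single i 1) (Pi.single j 1)
  rw [Matrix.mulVec_single_one, Matrix.mulVec_single_one] at h1
  rw [Matrix.mul_apply]
  have h2 : ∑ k, (g.1.1)ᵀ i k * (g.1.1).map (fun x => x ^ q) k j = hermForm n F q ((g.1.1).col i) ((g.1.1).col j) := rfl
  rw [h2]
  refine h1.trans ?_
  unfold hermForm
  rw [Finset.sum_eq_single j]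
  · rw [Pi.single_eq_same, one_pow, mul_one, Matrix.one_apply, Pi.single_apply]
    congr 1
    exact propext eq_comm
  · intro k _ hk
    rw [Pi.single_eq_of_ne hk, zero_pow_q hF, mul_zero]
  · intro h
    exact absurd (Finset.mem_univ j) h

/-- the eigenvalues of a unitary matrix are closed under `l ↦ l ^ (-q)` -/
theorem conj_root {K : Type*} [Field K] [Algebra F K] (φ : K →+* K) (hφ : ∀ x, φ x = x ^ q) {ι : Type*} [Fintype ι]
    [DecidableEq ι] {g : Matrix ι ι F} (hg : gᵀ * g.map (fun x => x ^ q) = 1) {l : K} (hl0 : l ≠ 0)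
    (hl : aeval l g.charpoly = 0) : aeval (l ^ q)⁻¹ g.charpoly = 0 := by
  have hev : ∀ x : K, aeval x g.charpoly = (Matrix.scalar ι x - g.map (algebraMap F K)).det := by
    intro x
    rw [← eval_map_algebraMap, ← Matrix.charpoly_map, Matrix.eval_charpoly]
  rw [hev] at hl ⊢
  set g' := g.map (algebraMap F K)
  have hg' : g'ᵀ * φ.mapMatrix g' = 1 := by
    have h1 := congrArg (fun M : Matrix ι ι F => M.map (algebraMap F K)) hg
    simp only [Matrix.map_mul, Matrix.transpose_map, Matrix.map_one _ (map_zero (algebraMap F K)) (map_one _)] at h1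
    rw [← h1]
    congr 1
    ext i j
    simp [g', hφ]
  have hl2 : (Matrix.scalar ι (l ^ q) - φ.mapMatrix g').det = 0 := by
    have h1 := congrArg φ hl
    rw [map_zero, RingHom.map_det, map_sub] at h1
    rw [← h1]
    congr 2
    ext i j
    simp [hφ, Matrix.scalar_apply, Matrix.diagonal_apply]
    split_ifs with h
    · rfl
    · rw [← hφ, map_zero]
  have h1 : g'ᵀ * (Matrix.scalar ι (l ^ q) - φ.mapMatrix g') = (Matrix.scalar ι (l ^ q) * g' - 1)ᵀ := by
    rw [mul_sub, hg', Matrix.transpose_sub, Matrix.transpose_one, Matrix.transpose_mul]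
    congr 2
    rw [Matrix.scalar_apply, Matrix.diagonal_transpose]
  have h2 := congrArg Matrix.det h1
  rw [Matrix.det_mul, hl2, mul_zero, Matrix.det_transpose] at h2
  have hlq : l ^ q ≠ 0 := pow_ne_zero _ hl0
  have h4 : Matrix.scalar ι (l ^ q)⁻¹ - g' = Matrix.scalar ι (-(l ^ q)⁻¹) * (Matrix.scalar ι (l ^ q) * g' - 1) := by
    rw [mul_sub, mul_one, ← mul_assoc, ← map_mul, neg_mul, inv_mul_cancel₀ hlq, map_neg, map_neg, map_one]
    simp [sub_eq_add_neg, add_comm]
  rw [h4, Matrix.det_mul, ← h2, mul_zero]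

theorem exists_frob (hF : Fintype.card F = q ^ 2) (K : Type*) [Field K] [Algebra F K] :
    ∃ φ : K →+* K, ∀ x, φ x = x ^ q := by
  obtain ⟨p, k, hp, hchar, hk, -⟩ := exists_prime_pow hF
  have := Fact.mk hp
  have : CharP K p := charP_of_injective_algebraMap (algebraMap F K).injective p
  refine ⟨iterateFrobenius K p k, fun x => ?_⟩
  rw [iterateFrobenius_def, hk]

/-- **orders of the `p`-elements of a unitary group** -/
theorem exists_dvd (hF : Fintype.card F = q ^ 2) {ι : Type*} [Fintype ι] [DecidableEq ι]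
    {g : Matrix ι ι F} (hg : gᵀ * g.map (fun x => x ^ q) = 1) {p a : ℕ} [hp : Fact p.Prime]
    (hpF : ¬ p ∣ q) (ha : 1 ≤ a) (hg1 : g ^ (p ^ a) = 1) (hg2 : g ^ (p ^ (a - 1)) ≠ 1) :
    ∃ d, 1 ≤ d ∧ d ≤ Fintype.card ι ∧ ((p ^ a : ℕ) : ℤ) ∣ (-(q : ℤ)) ^ d - 1 := by
  classical
  have hpF' : (p : F) ≠ 0 := by
    intro h
    apply hpF
    have h1 : ringChar F ∣ p := (ringChar.spec F p).1 h
    have h2 : p = ringChar F := by
      rcases (Nat.dvd_prime hp.out).1 h1 with h3 | h3
      · exact absurd h3 CharP.ringChar_ne_one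
      · exact h3.symm
    obtain ⟨n, -, hn⟩ := FiniteField.card F (ringChar F)
    have h3 : p ∣ q ^ 2 := by
      rw [← hF, hn, h2]
      exact dvd_pow_self _ n.ne_zero
    exact hp.out.dvd_of_dvd_pow h3
  obtain ⟨l, hl, hlo⟩ := Cfsg.Agent.H122.Cyc.exists_root hpF' ha hg1 hg2
  have hl0 : l ≠ 0 := by
    rintro rfl
    have h1 : (0 : AlgebraicClosure F) ^ (p ^ a) = 1 := by rw [← hlo]; exact pow_orderOf_eq_one _
    rw [zero_pow (pow_ne_zero _ hp.out.ne_zero)] at h1
    exact zero_ne_one h1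
  obtain ⟨φ, hφ⟩ := exists_frob hF (AlgebraicClosure F)
  have hcop : q.Coprime (p ^ a) := (((Nat.Prime.coprime_iff_not_dvd hp.out).2 hpF).symm).pow_right a
  have hNe : NeZero (p ^ a) := ⟨pow_ne_zero _ hp.out.ne_zero⟩
  let u : (ZMod (p ^ a))ˣ := -ZMod.unitOfCoprime q hcop
  have hu : ((-(q : ℤ) : ℤ) : ZMod (p ^ a)) = (u : ZMod (p ^ a)) := by
    simp [u]
  have hroot : ∀ i : ℕ, aeval (l ^ ((-(q : ℤ)) ^ i)) g.charpoly = 0 := by
    intro i
    induction i with
    | zero => rwa [pow_zero, zpow_one]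
    | succ i ih =>
      have h1 := conj_root φ hφ hg (zpow_ne_zero _ hl0) ih
      have h2 : ((l ^ ((-(q : ℤ)) ^ i)) ^ q)⁻¹ = l ^ ((-(q : ℤ)) ^ (i + 1)) := by
        rw [← _root_.zpow_natCast, ← _root_.zpow_mul, ← _root_.zpow_neg, pow_succ]
        congr 1
        ring
      rwa [h2] at h1
  have hou : orderOf (Units.mk0 l hl0) = p ^ a := by
    rw [← hlo, ← orderOf_units, Units.val_mk0]
  have hpow : ∀ i j : ℕ, l ^ ((-(q : ℤ)) ^ i) = l ^ ((-(q : ℤ)) ^ j) ↔ u ^ i = u ^ j := by
    intro i j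
    have h1 : l ^ ((-(q : ℤ)) ^ i) = l ^ ((-(q : ℤ)) ^ j) ↔
        (Units.mk0 l hl0) ^ ((-(q : ℤ)) ^ i) = (Units.mk0 l hl0) ^ ((-(q : ℤ)) ^ j) := by
      rw [Units.ext_iff, Units.val_zpow_eq_zpow_val, Units.val_zpow_eq_zpow_val, Units.val_mk0]
    rw [h1, zpow_eq_zpow_iff_modEq, hou, ← ZMod.intCast_eq_intCast_iff, Units.ext_iff, Units.val_pow_eq_pow_val,
      Units.val_pow_eq_pow_val, Int.cast_pow, Int.cast_pow, hu]
  set d := orderOf u with hd
  have hd0 : 0 < d := orderOf_pos u
  refine ⟨d, hd0, ?_, ?_⟩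
  · have hc0 : g.charpoly.map (algebraMap F (AlgebraicClosure F)) ≠ 0 :=
      (g.charpoly_monic.map _).ne_zero
    have hmem : ∀ x : AlgebraicClosure F, aeval x g.charpoly = 0 →
        x ∈ (g.charpoly.map (algebraMap F (AlgebraicClosure F))).roots.toFinset := by
      intro x hx
      rw [Multiset.mem_toFinset, mem_roots']
      exact ⟨hc0, by rw [IsRoot.def, eval_map_algebraMap, hx]⟩
    have hcard : (g.charpoly.map (algebraMap F (AlgebraicClosure F))).roots.toFinset.card ≤ Fintype.card ι := by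
      refine (Multiset.toFinset_card_le _).trans ((card_roots' _).trans ?_)
      rw [natDegree_map, Matrix.charpoly_natDegree_eq_dim]
    have h1 : (Finset.univ.image fun i : Fin d => l ^ ((-(q : ℤ)) ^ (i : ℕ))).card = d := by
      rw [Finset.card_image_of_injective, Finset.card_univ, Fintype.card_fin]
      intro i j hij
      exact Fin.ext (pow_injOn_Iio_orderOf i.2 j.2 ((hpow i j).1 hij))
    rw [← h1]
    refine (Finset.card_le_card ?_).trans hcard
    intro x hx
    obtain ⟨i, -, rfl⟩ := Finset.mem_image.1 hx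
    exact hmem _ (hroot i)
  · have h1 : (((-(q : ℤ)) ^ d - 1 : ℤ) : ZMod (p ^ a)) = 0 := by
      rw [Int.cast_sub, Int.cast_pow, Int.cast_one, hu, ← Units.val_pow_eq_pow_val, hd, pow_orderOf_eq_one, Units.val_one,
        sub_self]
    exact (ZMod.intCast_zmod_eq_zero_iff_dvd _ _).1 h1

end Order

/-- the numerical bound -/
theorem num {q n p a d : ℕ} [hp : Fact p.Prime] (hq : 2 ≤ q) (hn : 3 ≤ n) (hp2 : p ≠ 2) (hq1 : ¬ p ∣ q + 1)
    (hd : 1 ≤ d) (hdn : d ≤ n) (h : ((p ^ a : ℕ) : ℤ) ∣ (-(q : ℤ)) ^ d - 1) : p ^ a ≤ bd q n + 2 := by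
  have hcop2 : ∀ {x : ℕ}, ¬ p ∣ x → Nat.Coprime (p ^ a) x := fun hx =>
    ((Nat.Prime.coprime_iff_not_dvd hp.out).2 hx).pow_left a
  -- the bound `q ^ k ≤ b + 1`, `n = 2 k` or `2 k + 1`
  rcases Nat.even_or_odd' d with ⟨e, he | he⟩
  · have h1 : p ^ a ∣ (q ^ e - 1) * (q ^ e + 1) := by
      have h2 : ((p ^ a : ℕ) : ℤ) ∣ (((q ^ e - 1) * (q ^ e + 1) : ℕ) : ℤ) := by
        have h3 : (((q ^ e - 1) * (q ^ e + 1) : ℕ) : ℤ) = (-(q : ℤ)) ^ d - 1 := by
          rw [he, pow_mul, neg_sq, ← pow_mul, Nat.cast_mul, Nat.cast_sub (Nat.one_le_pow _ _ (by omega))]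
          push_cast
          ring
        rw [h3]
        exact h
      exact_mod_cast h2
    have h2 : p ^ a ≤ q ^ e + 1 := by
      have hqe : 2 ≤ q ^ e := hq.trans (Nat.le_self_pow (by omega) q)
      by_cases h3 : p ∣ q ^ e - 1
      · have h4 : ¬ p ∣ q ^ e + 1 := by
          intro h4
          have h5 := (Nat.dvd_sub h4 h3)
          have h6 : q ^ e + 1 - (q ^ e - 1) = 2 := by omega
          rw [h6] at h5
          exact hp2 ((Nat.prime_dvd_prime_iff_eq hp.out Nat.prime_two).1 h5)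
        have := Nat.le_of_dvd (by omega) ((hcop2 h4).dvd_of_dvd_mul_right h1)
        omega
      · exact Nat.le_of_dvd (by omega) ((hcop2 h3).dvd_of_dvd_mul_left h1)
    refine h2.trans ?_
    rcases Nat.even_or_odd' n with ⟨k, hk | hk⟩
    · subst hk
      have h3 := bd_even (q := q) (by omega) k
      have h4 : q ^ e ≤ q ^ k := Nat.pow_le_pow_right (by omega) (by omega)
      have h5 : q ≤ q ^ k := Nat.le_self_pow (by omega) q
      have h6 : q ^ (2 * k) = q ^ k * q ^ k := by rw [two_mul, pow_add]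
      obtain ⟨x, hx⟩ : ∃ x, q ^ k = x + 1 := ⟨q ^ k - 1, by omega⟩
      have h7 : (q + 1) * x ≤ (q + 1) * bd q (2 * k) := by
        rw [h6, hx] at h3
        rw [hx] at h5
        nlinarith
      have := Nat.le_of_mul_le_mul_left h7 (by omega)
      omega
    · subst hk
      have h3 := bd_odd (q := q) (by omega) k
      have h4 : q ^ e ≤ q ^ k := Nat.pow_le_pow_right (by omega) (by omega)
      have h6 : q ^ (2 * k + 1) = q * (q ^ k * q ^ k) := by rw [pow_succ, two_mul, pow_add]; ring
      have h8 : 0 < q ^ k := Nat.pow_pos (by omega)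
      obtain ⟨x, hx⟩ : ∃ x, q ^ k = x + 1 := ⟨q ^ k - 1, by omega⟩
      have h7 : (q + 1) * x ≤ (q + 1) * bd q (2 * k + 1) := by
        rw [h6, hx] at h3
        have h11 : q + 1 ≤ q * (x + 2) := by
          have := Nat.mul_le_mul_left q (show 2 ≤ x + 2 by omega)
          omega
        have h9 : (q + 1) * x ≤ q * (x * (x + 2)) := by
          calc (q + 1) * x ≤ (q * (x + 2)) * x := Nat.mul_le_mul_right _ h11
            _ = q * (x * (x + 2)) := by ring
        have h10 : q * ((x + 1) * (x + 1)) = q * (x * (x + 2)) + q := by ring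
        omega
      have := Nat.le_of_mul_le_mul_left h7 (by omega)
      omega
  · have h1 : p ^ a ∣ q ^ d + 1 := by
      have h2 : ((p ^ a : ℕ) : ℤ) ∣ ((q ^ d + 1 : ℕ) : ℤ) := by
        have h3 : ((q ^ d + 1 : ℕ) : ℤ) = -((-(q : ℤ)) ^ d - 1) := by
          have hodd : Odd d := ⟨e, he⟩
          rw [hodd.neg_pow]
          push_cast
          ring
        rw [h3]
        exact h.neg_right
      exact_mod_cast h2
    have h2 : q + 1 ∣ q ^ d + 1 := by
      have := Odd.nat_add_dvd_pow_add_pow q 1 (n := d) ⟨e, he⟩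
      rwa [one_pow] at this
    have h3 : p ^ a * (q + 1) ≤ q ^ d + 1 :=
      Nat.le_of_dvd (by omega) ((hcop2 hq1).mul_dvd_of_dvd_of_dvd h1 h2)
    have h4 : q ^ d ≤ q ^ n := Nat.pow_le_pow_right (by omega) hdn
    rw [mul_comm] at h3
    have h5 : (q + 1) * p ^ a ≤ (q + 1) * (bd q n + 2) := by
      rcases Nat.even_or_odd' n with ⟨k, hk | hk⟩
      · have h6 := bd_even (q := q) (by omega) k
        rw [← hk] at h6
        rw [mul_add]
        omega
      · have h6 := bd_odd (q := q) (by omega) k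
        rw [← hk] at h6
        rw [mul_add]
        omega
    exact Nat.le_of_mul_le_mul_left h5 (by omega)

section Deg

variable {F : Type*} [Field F] [Fintype F] {q : ℕ}

theorem minDeg (hF : Fintype.card F = q ^ 2) {n : ℕ} (hn : 3 ≤ n) (hex : ¬ (n = 3 ∧ q = 2)) :
    MinDeg (Cfsg.SU n F q) (bd q n) := by
  intro M _ _ _ ρ hρ
  by_contra hlt
  have htriv : ∀ e : Fin n → F, e ≠ 0 → hermForm n F q e e = 0 → ∀ m, m ∈ (grp hF n).Fx ρ e := by
    intro e he0 he
    by_contra hc
    exact hlt (bound_of_not_triv hF hn ρ e he0 he hc)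
  obtain ⟨g, hg⟩ := hρ
  apply hg
  have hgen := Cfsg.Agent.S0780.result hF n hn hex
  have hker : (⊤ : Subgroup (Cfsg.SU n F q)) ≤ MonoidHom.ker ρ := by
    rw [← hgen, Subgroup.closure_le]
    rintro A ⟨v, c, hv, hA⟩
    by_cases hv0 : v = 0
    · have : A = 1 := by
        apply Subtype.ext
        apply Subtype.ext
        change A.1.1 = (1 : Matrix (Fin n) (Fin n) F)
        rw [hA, hv0, unitaryTransvection]
        simp
      rw [this]
      exact map_one ρ
    · have hact : ∀ x, A.1.1 *ᵥ x = x + (c * hermForm n F q x v) • v := by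
        intro x
        rw [hA]
        exact Cfsg.Agent.S0779.trans_mulVec n q v c x
      have hc : c + (std hF n).σ c = 0 := by
        obtain ⟨f, hf⟩ := exists_herm_ne_zero hF hv0
        have hf' := (std hF n).swap_ne hf
        rw [std_h] at hf'
        have h1 := (mem_SU_iff A.1).1 A.2 f f
        rw [hact] at h1
        simp only [herm_add_left, herm_add_right hF, herm_smul_left, herm_smul_right, hv, mul_pow,
          mul_zero, add_zero] at h1
        have h3 : hermForm n F q v f = (hermForm n F q f v) ^ q := herm_swap hF f v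
        have h4 : (c + c ^ q) * (hermForm n F q f v * (hermForm n F q f v) ^ q) = 0 := by
          rw [h3] at h1
          linear_combination h1
        rw [h3] at hf
        exact (mul_eq_zero.1 h4).resolve_right (mul_ne_zero hf' hf)
      have hAeq : A = (grp hF n).tv v c := by
        apply (grp hF n).ext
        intro x
        rw [(grp hF n).π_tv hv hc, grp_apply, hact, std_h]
      rw [hAeq]
      change ρ _ = 1
      refine LinearMap.ext fun m => ?_
      exact htriv v hv0 hv m c hc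
  exact hker (Subgroup.mem_top g)

end Deg

/-- **The row `PSU`.** -/
theorem row_psu {p : ℕ} [hp : Fact p.Prime] (hp2 : p ≠ 2) {G : Type*} [Group G] [Finite G] [IsSimpleGroup G]
    (hG : ¬ IsMulCommutative G) (h : IsPSU G) : Row p G := by
  obtain ⟨F, _, _, n, q, hF, hn, hex, ⟨e⟩⟩ := h
  have hq := two_le hF
  have hfin : Finite (Cfsg.SU n F q) := inferInstance
  have hfin2 : Finite (Cfsg.PSU n F q) := Quotient.finite _
  have hsurj : Function.Surjective (QuotientGroup.mk' (Subgroup.center (Cfsg.SU n F q))) :=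
    QuotientGroup.mk'_surjective _
  have hM : MinDeg (Cfsg.PSU n F q) (bd q n) := (minDeg hF hn hex).of_surjective _ hsurj
  by_cases h1 : p ∣ q
  · -- defining characteristic
    have hchar : CharP F p := by
      obtain ⟨r, hr⟩ := CharP.exists F
      obtain ⟨m, hr1, hm⟩ := FiniteField.card F r
      have h2 : p = r := by
        have h3 : p ∣ r ^ (m : ℕ) := by
          rw [← hm, hF]
          exact h1.trans (dvd_pow_self q two_ne_zero)
        exact (Nat.prime_dvd_prime_iff_eq hp.out hr1).1 (hp.out.dvd_of_dvd_pow h3)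
      rwa [h2]
    intro P hP
    refine (hM.congr e.symm).mono ?_
    have h2 := CycDef.card_dvd hp2 hG (Or.inr (Or.inr (Or.inl
      ⟨F, inferInstance, inferInstance, hchar, n, q, hF, hn, hex, ⟨e⟩⟩))) P hP
    have h3 := Nat.le_of_dvd hp.out.pos h2
    have h4 := Nat.le_of_dvd (by omega) h1
    -- `q ≤ b + 2`
    have h5 : (q + 1) * q ≤ (q + 1) * (bd q n + 2) := by
      have h8 : q * q * q ≤ q ^ n := by
        calc q * q * q = q ^ 3 := by ring
          _ ≤ q ^ n := Nat.pow_le_pow_right (by omega) hn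
      have h9 : q * q + q ≤ q * q * q + q := by nlinarith [Nat.mul_le_mul hq hq]
      rcases Nat.even_or_odd' n with ⟨k, hk | hk⟩
      · have h6 := bd_even (q := q) (by omega) k
        rw [← hk] at h6
        rw [mul_add, add_mul, one_mul]
        nlinarith
      · have h6 := bd_odd (q := q) (by omega) k
        rw [← hk] at h6
        rw [mul_add, add_mul, one_mul]
        nlinarith
    have := Nat.le_of_mul_le_mul_left h5 (by omega)
    omega
  · refine Row.congr ?_ e.symm
    by_cases h2 : p ∣ q + 1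
    · exact Row.of_nc (H124.SplitNC.psu hF hp2 hn h2)
    · refine Row.of_surjective hsurj hM fun x a hx => ?_
      rcases Nat.eq_zero_or_pos a with h0 | h0
      · rw [h0, pow_zero]
        omega
      · obtain ⟨d, hd1, hd2, hd3⟩ := exists_dvd (p := p) (a := a) hF (gram hF x) h1 h0
          (by
            have h1 : x ^ p ^ a = 1 := by rw [← hx, pow_orderOf_eq_one]
            exact congrArg (fun y : Cfsg.SU n F q => y.1.1) h1)
          (by
            intro h1
            have h2 : x ^ p ^ (a - 1) = 1 := Subtype.ext (Subtype.ext h1)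
            have h3 := orderOf_dvd_of_pow_eq_one h2
            rw [hx, Nat.pow_dvd_pow_iff_le_right hp.out.one_lt] at h3
            omega)
        rw [Fintype.card_fin] at hd2
        exact num hq hn hp2 h2 hd1 hd2 hd3

end Cfsg.Agent.H123.RowPSU
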