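import Cfsg.Agent.H123.CycDef
import Cfsg.Agent.S2347
import Cfsg.Agent.H119.SpBound
import Cfsg.Agent.H122.Cyc.Order

/-!
# The row `PSp` of S2351
-/

set_option autoImplicit false
set_option linter.unusedSectionVars false

namespace Cfsg.Agent.H123.RowPSp

open Module Matrix Cfsg Cfsg.Agent.H122 Cfsg.Agent.H121.Cyc Cfsg.Agent.H119 Cfsg.Agent.H119.SpBound
  Cfsg.Agent.S0765

/-- a commutative simple group -/
theorem rowS_of_comm {p : ℕ} [hp : Fact p.Prime] {G : Type*} [Group G] [Finite G] [IsSimpleGroup G]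
    (h : IsMulCommutative G) : RowS p G := by
  apply RowS.of_not_sq
  intro h1
  have h2 : (Nat.card G).Prime := by
    let _ : CommGroup G := { (inferInstance : Group G) with mul_comm := fun a b => h.is_comm.comm a b }
    exact IsSimpleGroup.prime_card
  have h3 : p ∣ Nat.card G := (dvd_pow_self p two_ne_zero).trans h1
  rw [(Nat.prime_dvd_prime_iff_eq hp.out h2).1 h3] at h1
  have h4 := Nat.le_of_dvd h2.pos h1
  have h5 := h2.one_lt
  nlinarith

theorem rowS_char {p : ℕ} [hp : Fact p.Prime] (hp2 : p ≠ 2) {G : Type*} [Group G] [Finite G] [IsSimpleGroup G]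
    (h : IsLieTypeChar p G) : RowS p G := by
  by_cases hG : IsMulCommutative G
  · exact rowS_of_comm hG
  · exact CycDef.rowS hp2 hG h

variable {F : Type} [Field F] [Fintype F]

theorem minDeg_odd (h2 : (2 : F) ≠ 0) {m : ℕ} (hm : 1 ≤ m) :
    MinDeg (Matrix.symplecticGroup (Fin m) F) ((Fintype.card F ^ m - 1) / 2) := by
  intro M _ _ _ ρ hρ
  have hex : ∃ X, ρ (H972.SpBound.rad m F X) ≠ 1 := by
    by_contra hcon
    push Not at hcon
    obtain ⟨g, hg⟩ := hρ
    exact hg (S2347.eq_one_of_rad hm ρ hcon g)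
  have hK : (Fintype.card F : ℂ) ≠ 0 := by
    exact_mod_cast Fintype.card_ne_zero
  have hmain := H972.SpBound.le_two_mul_finrank h2 hK ρ hex
  omega

theorem minDeg_even (h2 : (2 : F) = 0) (m : ℕ) :
    MinDeg (Matrix.symplecticGroup (Fin m) F) (bs (Fintype.card F) m) := by
  intro M _ _ _ ρ hρ
  by_contra hlt
  have htriv : ∀ e : Fin m ⊕ Fin m → F, e ≠ 0 → ∀ v, v ∈ (grp h2 m).Fx ρ e := by
    intro e he0
    by_contra hc
    exact hlt (bound_of_not_triv h2 ρ e he0 hc)
  obtain ⟨g, hg⟩ := hρ
  apply hg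
  have hgen := Cfsg.Agent.S0765.result (F := F) m
  have hker : (⊤ : Subgroup (Matrix.symplecticGroup (Fin m) F)) ≤ MonoidHom.ker ρ := by
    rw [← hgen, Subgroup.closure_le]
    rintro A ⟨v, c, hA⟩
    have hact : ∀ x, A.1 *ᵥ x = x + (c * sympForm m F x v) • v := by
      intro x
      rw [hA]
      exact trans_mulVec v x c
    by_cases hv0 : v = 0
    · have : A = 1 := by
        apply (grp h2 m).ext
        intro x
        rw [grp_apply, hact, hv0, smul_zero, add_zero, (grp h2 m).π_one]
      rw [this]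
      exact map_one ρ
    · have hAeq : A = (grp h2 m).tv v c := by
        apply (grp h2 m).ext
        intro x
        rw [(grp h2 m).π_tv, grp_apply, hact, std_h]
      rw [hAeq]
      change ρ _ = 1
      exact LinearMap.ext fun w => htriv v hv0 w c
  exact hker (Subgroup.mem_top g)

theorem char_or (F : Type) [Field F] [Fintype F] (p : ℕ) [hp : Fact p.Prime] :
    CharP F p ∨ ¬ p ∣ Fintype.card F := by
  by_cases h : p ∣ Fintype.card F
  · left
    obtain ⟨r, hr⟩ := CharP.exists F
    obtain ⟨n, hr1, hn⟩ := FiniteField.card F r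
    have h1 : p = r := by
      rw [hn] at h
      exact (Nat.prime_dvd_prime_iff_eq hp.out hr1).1 (hp.out.dvd_of_dvd_pow h)
    rwa [h1]
  · exact Or.inr h

theorem order_sp {m p : ℕ} [hp : Fact p.Prime] (hp2 : p ≠ 2) (hpF : ¬ p ∣ Fintype.card F)
    (x : Matrix.symplecticGroup (Fin m) F) {a : ℕ} (ha : 1 ≤ a) (hx : orderOf x = p ^ a) :
    ∃ e, 1 ≤ e ∧ e ≤ m ∧ (p ^ a ∣ Fintype.card F ^ e - 1 ∨ p ^ a ∣ Fintype.card F ^ e + 1) := by
  classical
  obtain ⟨e, he1, he2, he3⟩ := Cfsg.Agent.H122.Cyc.exists_dvd (B := Matrix.J (Fin m) F) (g := x.1)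
    (Matrix.isUnit_det_J (Fin m) F) (SymplecticGroup.mem_iff'.1 x.2) hp2 hpF ha
    (by
      have h1 : x ^ p ^ a = 1 := by rw [← hx, pow_orderOf_eq_one]
      exact congrArg Subtype.val h1)
    (by
      intro h1
      have h2 : x ^ p ^ (a - 1) = 1 := Subtype.ext h1
      have h3 := orderOf_dvd_of_pow_eq_one h2
      rw [hx, Nat.pow_dvd_pow_iff_le_right hp.out.one_lt] at h3
      omega)
  refine ⟨e, he1, ?_, he3⟩
  simp only [Fintype.card_sum, Fintype.card_fin] at he2
  omega

/-- **The row `PSp`.** -/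
theorem rowS_psp {p : ℕ} [hp : Fact p.Prime] (hp2 : p ≠ 2) {G : Type*} [Group G] [Finite G] [IsSimpleGroup G]
    (h : Cfsg.IsPSp G) : RowS p G := by
  obtain ⟨F, _, _, m, hm, hm2, ⟨e⟩⟩ := h
  rcases char_or F p with h1 | h1
  · exact rowS_char hp2 (Or.inr (Or.inl ⟨F, inferInstance, inferInstance, h1, m, hm, hm2, ⟨e⟩⟩))
  refine RowS.congr ?_ e.symm
  have hfin : Finite (Matrix.symplecticGroup (Fin m) F) := inferInstance
  have hfin2 : Finite (Cfsg.PSp m F) := Quotient.finite _
  have hsurj : Function.Surjective (QuotientGroup.mk' (Subgroup.center (Matrix.symplecticGroup (Fin m) F))) :=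
    QuotientGroup.mk'_surjective _
  have hq2 : 2 ≤ Fintype.card F := Fintype.one_lt_card
  have hoddp : ∀ a, ¬ 2 ∣ p ^ a := by
    intro a h2
    have h3 := Nat.prime_two.dvd_of_dvd_pow h2
    exact hp2 ((Nat.prime_dvd_prime_iff_eq Nat.prime_two hp.out).1 h3).symm
  by_cases h2 : (2 : F) = 0
  · refine RowS.of_surjective hsurj ((minDeg_even h2 m).of_surjective _ hsurj) fun x a ha hx => ?_
    obtain ⟨k, hk1, hk2, hk3⟩ := order_sp hp2 h1 x (by omega) hx
    have h3 := Cfsg.Agent.H122.Cyc.pow_le hq2 ⟨k, hk1, hk2, hk3⟩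
    have h4 := bs_eq (q := Fintype.card F) (by omega) m
    have heven : Even (Fintype.card F) := by
      have h5 : ringChar F = 2 := by
        have h6 : ringChar F ∣ 2 := (CharP.cast_eq_zero_iff F (ringChar F) 2).1 (by exact_mod_cast h2)
        rcases (Nat.dvd_prime Nat.prime_two).1 h6 with h5 | h5
        · exact absurd h5 (CharP.char_ne_one F _)
        · exact h5
      have h4 := FiniteField.even_card_of_char_two h5
      exact Nat.even_iff.2 h4
    -- `3 q + 2 ≤ q ^ m`
    have h5 : 3 * Fintype.card F + 2 ≤ Fintype.card F ^ m := by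
      obtain ⟨t, ht⟩ := heven
      rcases Nat.lt_or_ge m 3 with h6 | h6
      · have h7 : m = 2 := by omega
        subst h7
        have h8 := hm2 rfl
        have h9 : 4 ≤ Fintype.card F := by omega
        nlinarith
      · have h7 : Fintype.card F ^ 3 ≤ Fintype.card F ^ m := Nat.pow_le_pow_right (by omega) h6
        have h8 : Fintype.card F ^ 3 = Fintype.card F * Fintype.card F * Fintype.card F := by ring
        nlinarith [Nat.mul_le_mul hq2 hq2]
    have h6 : 2 * (Fintype.card F + 1) ≤ Fintype.card F ^ m - Fintype.card F := by omega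
    have h7 : (Fintype.card F ^ m - 1) * (2 * (Fintype.card F + 1)) ≤ (2 * (Fintype.card F + 1)) * bs (Fintype.card F) m := by
      rw [h4]
      exact Nat.mul_le_mul_left _ h6
    rw [mul_comm] at h7
    have h8 := Nat.le_of_mul_le_mul_left h7 (by omega)
    omega
  · refine RowS.of_surjective hsurj ((minDeg_odd h2 (by omega)).of_surjective _ hsurj) fun x a ha hx => ?_
    obtain ⟨k, hk1, hk2, hk3⟩ := order_sp hp2 h1 x (by omega) hx
    have hodd : ¬ 2 ∣ Fintype.card F := by
      intro h5
      rcases char_or F 2 with h6 | h6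
      · exact h2 (by exact_mod_cast CharP.cast_eq_zero F 2)
      · exact h6 h5
    have h3 : ∀ i, Fintype.card F ^ i % 2 = 1 := by
      intro i
      have h5 : Odd (Fintype.card F ^ i) := (Nat.not_even_iff_odd.1 fun h6 => hodd h6.two_dvd).pow
      exact Nat.odd_iff.1 h5
    have hcop : Nat.Coprime 2 (p ^ a) := (Nat.Prime.coprime_iff_not_dvd Nat.prime_two).2 (hoddp a)
    have h5 : Fintype.card F ^ k ≤ Fintype.card F ^ m := Nat.pow_le_pow_right (by omega) hk2
    have h6 : 3 ≤ Fintype.card F ^ k := by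
      have h7 : 3 ≤ Fintype.card F := by
        by_contra h8
        exact hodd (by have : Fintype.card F = 2 := by omega
                       rw [this])
      exact h7.trans (Nat.le_self_pow (by omega) _)
    have h7 : 2 * p ^ a ≤ Fintype.card F ^ m + 1 := by
      rcases hk3 with h8 | h8
      · have h9 : 2 * p ^ a ∣ Fintype.card F ^ k - 1 := by
          refine hcop.mul_dvd_of_dvd_of_dvd ?_ h8
          have := h3 k
          omega
        have := Nat.le_of_dvd (by omega) h9
        omega
      · have h9 : 2 * p ^ a ∣ Fintype.card F ^ k + 1 := by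
          refine hcop.mul_dvd_of_dvd_of_dvd ?_ h8
          have := h3 k
          omega
        have := Nat.le_of_dvd (by omega) h9
        omega
    have := h3 m
    omega

end Cfsg.Agent.H123.RowPSp
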