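import Cfsg.Agent.H123.NCBase
import Cfsg.Agent.H573.Spor.Mathieu
import Cfsg.Agent.H573.Spor.J2
import Cfsg.Agent.H573.Spor.ConwayFive
import Cfsg.Agent.H573.Spor.McLThree
import Cfsg.Agent.H573.Spor.He
import Cfsg.Agent.H573.Spor.Ru
import Cfsg.Agent.H573.Spor.Suz
import Cfsg.Agent.H573.Spor.CoThree
import Cfsg.Agent.H573.Spor.CoOneFive
import Cfsg.Agent.H573.Spor.MThree
import Cfsg.Agent.H573.Spor.Lift
import Cfsg.Agent.H573.Spor.MSeven
import Cfsg.Agent.H573.Spor.FiTwentyTwo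
import Cfsg.Agent.H573.Spor.FiTwentyThree
import Cfsg.Agent.H573.Spor.FiTwentyFour
import Cfsg.Agent.H573.Spor.FiSeven
import Cfsg.Agent.H573.Spor.HNThree
import Cfsg.Agent.H573.Spor.HNFive

/-!
# The sporadic pairs with nonabelian Sylow subgroups, part 1: not `PCent`
-/

set_option autoImplicit false

universe u v

namespace Cfsg.Agent.H123.SpNC

open Cfsg.Spor Cfsg.Agent.H573

section

variable {G : Type*} [Group G] [Finite G]

local instance : Fact (Nat.Prime 3) := ⟨by norm_num⟩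
local instance : Fact (Nat.Prime 5) := ⟨by norm_num⟩
local instance : Fact (Nat.Prime 7) := ⟨by norm_num⟩

theorem m12_3 (h : IsoM12 G) : NC 3 G := nc_of_not_pcent (H573.Spor.m12_3 h)
theorem m24_3 (h : IsoM24 G) : NC 3 G := nc_of_not_pcent (H573.Spor.m24_3 h)
theorem j2_3 (h : IsoJ2 G) : NC 3 G := nc_of_not_pcent (H573.Spor.j2_3 h)
theorem hs_5 (h : IsoHS G) : NC 5 G := nc_of_not_pcent (H573.Spor.hs_5 h)
theorem mcl_5 (h : IsoMcL G) : NC 5 G := nc_of_not_pcent (H573.Spor.mcl_5 h)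
theorem co2_5 (h : IsoCo2 G) : NC 5 G := nc_of_not_pcent (H573.Spor.co2_5 h)
theorem co3_5 (h : IsoCo3 G) : NC 5 G := nc_of_not_pcent (H573.Spor.co3_5 h)
theorem mcl_3 (h : IsoMcL G) : NC 3 G := nc_of_not_pcent (H573.Spor.mcl_3 h)
theorem co2_3 (h : IsoCo2 G) : NC 3 G := nc_of_not_pcent (H573.Spor.co2_3 h)
theorem he_3 (h : IsoHe G) : NC 3 G := nc_of_not_pcent (H573.Spor.he_3 h)
theorem he_7 (h : IsoHe G) : NC 7 G := nc_of_not_pcent (H573.Spor.he_7 h)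
theorem ru_5 (h : IsoRu G) : NC 5 G := nc_of_not_pcent (H573.Spor.ru_5 h)
theorem suz_3 (h : IsoSuz G) : NC 3 G := nc_of_not_pcent (H573.Spor.suz_3 h)
theorem co1_3 (h : IsoCo1 G) : NC 3 G := nc_of_not_pcent (H573.Spor.co1_3 h)
theorem co3_3 (h : IsoCo3 G) : NC 3 G := nc_of_not_pcent (H573.Spor.co3_3 h)
theorem co1_5 (h : IsoCo1 G) : NC 5 G := nc_of_not_pcent (H573.Spor.co1_5 h)
theorem m_3 (h : IsoM G) : NC 3 G := nc_of_not_pcent (H573.Spor.m_3 h)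
theorem m_5 (h : IsoM G) : NC 5 G := nc_of_not_pcent (H573.Spor.m_5 h)
theorem m_7 (h : IsoM G) : NC 7 G := nc_of_not_pcent (H573.Spor.m_7 h)
theorem fi22_3 (h : IsoFi22 G) : NC 3 G := nc_of_not_pcent (H573.Spor.fi22_3 h)
theorem fi23_3 (h : IsoFi23 G) : NC 3 G := nc_of_not_pcent (H573.Spor.fi23_3 h)
theorem fi24_3 (h : IsoFi24' G) : NC 3 G := nc_of_not_pcent (H573.Spor.fi24_3 h)
theorem fi24_7 (h : IsoFi24' G) : NC 7 G := nc_of_not_pcent (H573.Spor.fi24_7 h)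
theorem hn_3 (h : IsoHN G) : NC 3 G := nc_of_not_pcent (H573.Spor.hn_3 h)
theorem hn_5 (h : IsoHN G) : NC 5 G := nc_of_not_pcent (H573.Spor.hn_5 h)

end

end Cfsg.Agent.H123.SpNC
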