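import Cfsg.Agent.H123.CycNil
import Cfsg.Agent.H123.SpNA
import Cfsg.Agent.H573.Spor.ONSeven
import Cfsg.Agent.H573.Spor.MThirteen
import Cfsg.Agent.H573.Spor.JFour
import Cfsg.Agent.H800.Sp.B
import Cfsg.Agent.EvenQT.Main
import Cfsg.Agent.Omega.Quasithin.Row.Ly
import Cfsg.Agent.Omega.Quasithin.Row.Th
import Cfsg.Agent.H87.TitsData
import Cfsg.Agent.S1711
import Cfsg.Agent.CpAut.LyFiveRow
import Cfsg.Agent.CpAutTh.Final
import Cfsg.Agent.CpAut.SporThree.ON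
import Cfsg.Agent.OddRank.SzTits

/-!
# The sporadic pairs with nonabelian Sylow subgroups, part 2
-/

set_option autoImplicit false
set_option maxRecDepth 100000

universe u v

namespace Cfsg.Agent.H123.SpNC

open Cfsg.Spor Cfsg.Agent.H573 Subgroup

section

variable {p : ℕ} [hp : Fact p.Prime] {C : Type*} [Group C] [Finite C]

theorem nc_of_sep {x y : C} (hx : orderOf x = p) (hy : orderOf y = p)
    (h : ∀ (g : C) (k : ℕ), g * x * g⁻¹ ≠ y ^ k) : NC p C := by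
  refine nc_of_classes hx hy fun g hg => ?_
  obtain ⟨k, hk⟩ := mem_powers_iff_mem_zpowers.2 hg
  exact h g k hk.symm

theorem nc_of_rank (h : ¬ PRankLE p 1 C) : NC p C := fun P hP =>
  h (Cfsg.Agent.CpAutG.rank_one_of_cyclic hp.out P hP)

theorem nc_of_rank_two (h : ¬ PRankLE p 2 C) : NC p C :=
  nc_of_rank fun h1 => h (Cfsg.Agent.OddRank.SzTits.pRankLE_mono hp.out (by norm_num) h1)

/-- **An involution `z` commuting with `x`, the only involution of `C(z) ∩ C(x)`.** -/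
theorem nc_of_unique (hp2 : p ≠ 2) {x z : C} (hx : orderOf x = p) (hz : orderOf z = 2) (hzx : z * x = x * z)
    (hd : p ^ 2 ∣ Nat.card C) (hv : ¬ p ^ 2 ∣ Nat.card ↥(centralizer ({z} : Set C)))
    (hu : ∀ s : C, orderOf s = 2 → s * z = z * s → s * x = x * s → s = z) : NC p C := by
  have hf2 : Fact (Nat.Prime 2) := ⟨Nat.prime_two⟩
  intro P hP
  -- a Sylow subgroup containing `x`
  obtain ⟨P', hP'⟩ := (IsPGroup.of_card (p := p) (n := 1) (G := ↥(zpowers x))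
    (by rw [Nat.card_zpowers, hx, pow_one])).exists_le_sylow
  have e : ↥(P : Subgroup C) ≃* ↥(P' : Subgroup C) := P.equiv P'
  have hPc : IsCyclic ↥(P' : Subgroup C) := isCyclic_of_surjective e.toMonoidHom e.surjective
  have hxP : x ∈ P' := hP' (mem_zpowers x)
  set D := centralizer ({x} : Set C) with hD
  have hPD : (P' : Subgroup C) ≤ D := by
    intro y hy
    rw [hD, mem_centralizer_singleton_iff]
    have h3 : (⟨y, hy⟩ : ↥(P' : Subgroup C)) * ⟨x, hxP⟩ = ⟨x, hxP⟩ * ⟨y, hy⟩ := mul_comm' _ _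
    exact congrArg Subtype.val h3
  have hxD : x ∈ D := hPD hxP
  have hzD : z ∈ D := mem_centralizer_singleton_iff.2 hzx
  have hdD : p ^ 2 ∣ Nat.card ↥D := (P'.pow_dvd_card_of_pow_dvd_card hd).trans (Subgroup.card_dvd_of_le hPD)
  have hQc : IsCyclic ↥((P'.subtype hPD : Sylow p ↥D) : Subgroup ↥D) := by
    have h3 : Function.Injective (fun y : ↥((P'.subtype hPD : Sylow p ↥D) : Subgroup ↥D) =>
        (⟨((y : ↥D) : C), y.2⟩ : ↥(P' : Subgroup C))) := by
      intro a b hab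
      have h5 : ((a : ↥D) : C) = ((b : ↥D) : C) := congrArg (fun w : ↥(P' : Subgroup C) => (w : C)) hab
      exact Subtype.ext (Subtype.ext h5)
    exact isCyclic_of_injective
      ({ toFun := fun y => ⟨((y : ↥D) : C), y.2⟩, map_one' := rfl, map_mul' := fun _ _ => rfl } :
        ↥((P'.subtype hPD : Sylow p ↥D) : Subgroup ↥D) →* ↥(P' : Subgroup C)) h3
  obtain ⟨Z, y, hZ2, hZ1, hZz, hyZ, hyp, k, hk⟩ := exists_two_group hp2 (P'.subtype hPD) hQc (x := ⟨x, hxD⟩)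
    (by rw [Subgroup.orderOf_mk, hx]) (fun c => Subtype.ext (mem_centralizer_singleton_iff.1 c.2)) hdD
    (z := ⟨z, hzD⟩) (by rw [Subgroup.orderOf_mk, hz])
  -- the involutions of `Z`
  have key : ∀ s ∈ Z, orderOf s = 2 → (s : C) = z := by
    intro s hs h2
    exact hu s (by rw [Subgroup.orderOf_coe, h2]) (congrArg Subtype.val (hZz s hs))
      (mem_centralizer_singleton_iff.1 s.2)
  obtain ⟨s, hs, hs2⟩ : ∃ s ∈ Z, orderOf s = 2 := by
    obtain ⟨m, hm⟩ := IsPGroup.iff_card.1 hZ2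
    have hm0 : m ≠ 0 := by
      rintro rfl
      rw [pow_zero] at hm
      exact hZ1 (Subgroup.card_eq_one.1 hm)
    obtain ⟨s, hs⟩ := exists_prime_orderOf_dvd_card' (G := ↥Z) 2 (by rw [hm]; exact dvd_pow_self 2 hm0)
    exact ⟨s, s.2, by rw [Subgroup.orderOf_coe, hs]⟩
  have h1 := key s hs hs2
  have h2 := key (y * s * y⁻¹) ((hyZ s).1 hs) (by rw [← hs2]; exact MulEquiv.orderOf_eq (MulAut.conj y) s)
  have h3 : (y : C) * z * (y : C)⁻¹ = z := by rw [← h1] at h2 ⊢; exact h2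
  apply hv
  have h6 : (y : C) ∈ centralizer ({z} : Set C) :=
    mem_centralizer_singleton_iff.2 (mul_inv_eq_iff_eq_mul.1 h3)
  have h7 : orderOf (y : C) ∣ Nat.card ↥(centralizer ({z} : Set C)) := by
    have := orderOf_dvd_natCard (⟨(y : C), h6⟩ : ↥(centralizer ({z} : Set C)))
    rwa [Subgroup.orderOf_mk] at this
  rw [Subgroup.orderOf_coe] at h7
  exact hyp.trans h7

end

/-! ### `(M, 13)` -/

instance instFactThirteen : Fact (Nat.Prime 13) := ⟨by norm_num⟩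

section

open Cfsg
open Cfsg.Agent.LThreeMB (fr XX KChart.Cent KChart.pi KChart.chart)
open Cfsg.Agent.MonsterX Cfsg.Agent.MonsterX.Model Cfsg.Agent.MonsterX.MainSimple Cfsg.Agent.MonsterX.MainPack
open Cfsg.Agent.MonsterX.MainBasic Cfsg.Agent.MonsterU
open Cfsg.Agent.BpSpor.MBigModel Cfsg.Agent.H573.Spor.Monster

theorem m_13' : NC 13 MG := by
  have := BpSpor.MBigModel.finite
  have hdz : 13 ∣ Nat.card ↥(centralizer ({zz} : Set MG)) := by
    rw [card_cent_z]; norm_num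
  obtain ⟨x₀, hx₀⟩ := exists_prime_orderOf_dvd_card' (G := ↥(centralizer ({zz} : Set MG))) 13 hdz
  have ht : LThreeB.Row.TA (tG MonsterN.LitFin.all.hG MonsterN.LitFin.all.hR) := IsConj.refl _
  have hdt := card_cent_t ht
  have hdt' : 13 ∣ Nat.card ↥(centralizer ({tG MonsterN.LitFin.all.hG MonsterN.LitFin.all.hR} : Set MG)) := by
    rw [hdt]; norm_num
  obtain ⟨x₁, hx₁⟩ := exists_prime_orderOf_dvd_card'
    (G := ↥(centralizer ({tG MonsterN.LitFin.all.hG MonsterN.LitFin.all.hR} : Set MG))) 13 hdt'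
  refine nc_of_sep (x := (x₁ : MG)) (y := (x₀ : MG))
    (by rw [Subgroup.orderOf_coe, hx₁]) (by rw [Subgroup.orderOf_coe, hx₀]) ?_
  exact fun g k => not_conj_thirteen hx₀ (by rw [Subgroup.orderOf_coe, hx₁]) ht
    (Cfsg.Agent.MThirteen.Row.ta_order ht) (mem_centralizer_singleton_iff.1 x₁.2) g k

end

theorem m_13 {G : Type*} [Group G] (h : Cfsg.Spor.IsoM G) : NC 13 G := by
  have hfin : Finite Cfsg.Agent.BpSpor.MBigModel.MG := Cfsg.Agent.BpSpor.MBigModel.finite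
  obtain ⟨e⟩ := Cfsg.Agent.MonsterP.Equiv.equiv
  exact m_13'.congr (e.symm.trans h.some.symm)

/-! ### `(ON, 7)` -/

section

open Cfsg.Agent.H573.Spor.ONSeven

theorem on_7 {G : Type*} [Group G] (h : Cfsg.Spor.IsoON G) : NC 7 G := by
  have hf : Fact (Nat.Prime 7) := ⟨by norm_num⟩
  have : Finite Cfsg.Spor.ON := Nat.finite_of_card_ne_zero (by rw [card_ON]; norm_num)
  have h1 : NC 7 Cfsg.Spor.ON := nc_of_sep (orderOf_wG seven_X one_X) (orderOf_wG seven_Y one_Y) not_conj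
  exact h1.congr h.some.symm

end

/-! ### `(J4, 3)`, `(J4, 11)` -/

section

open Cfsg.Agent.H573.Spor.JFour Cfsg.Agent.J4Type Cfsg.Agent.CpAutJ4

theorem j4_11' : NC 11 Cfsg.Spor.J4 := by
  have hf : Fact (Nat.Prime 11) := ⟨by norm_num⟩
  have : Fact (Nat.Prime 2) := ⟨by norm_num⟩
  obtain ⟨hfin, -, ⟨F⟩⟩ := KFacts.J4.Base.exists_full (K := Cfsg.Spor.J4) ⟨MulEquiv.refl _⟩
  obtain ⟨x₀, h0, hxz⟩ := exists_x0 F.C.toCent
  obtain ⟨x₁, h1, hxe⟩ := exists_x1 F.C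
  have hd : (none : GolayPt) ≠ some 0 := by decide
  have hnc := F.C.duad_not_conj none (some 0) hd
  have he1 : F.C.ε {none, some 0} ≠ 1 := DuadUniq.duad_ne_one F.C.toFrame hd
  have hH := FusionConj.isHex_hex0
  have hee : F.C.ε {none, some 0} * F.C.ε {none, some 0} = 1 :=
    (F.C.E_elem hex0 hH).1 _ (F.C.ε_mem _ (by rw [Finset.card_pair hd]; decide))
  have heo : orderOf (F.C.ε {none, some 0}) = 2 := orderOf_eq_prime (by rw [pow_two, hee]) he1
  refine nc_of_sep (x := x₁) (y := x₀) h1 h0 ?_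
  intro g k hg
  generalize F.C.ε {none, some 0} = t at *
  have hk : orderOf (x₀ ^ k) = 11 := by
    rw [← hg, ← h1]
    exact MulEquiv.orderOf_eq (MulAut.conj g) x₁
  have hz : zpowers (x₀ ^ k) = zpowers x₀ := by
    apply Subgroup.eq_of_le_of_card_ge
    · rw [zpowers_le]; exact pow_mem (mem_zpowers _) k
    · rw [Nat.card_zpowers, Nat.card_zpowers, hk, h0]
  have hm : x₀ ∈ zpowers (x₀ ^ k) := by rw [hz]; exact mem_zpowers _
  obtain ⟨m, hm⟩ := mem_zpowers_iff.1 hm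
  have hct : Commute (g * t * g⁻¹) (x₀ ^ k) := by
    rw [← hg]
    show g * t * g⁻¹ * (g * x₁ * g⁻¹) = g * x₁ * g⁻¹ * (g * t * g⁻¹)
    calc g * t * g⁻¹ * (g * x₁ * g⁻¹) = g * (t * x₁) * g⁻¹ := by group
      _ = g * (x₁ * t) * g⁻¹ := by rw [hxe]
      _ = g * x₁ * g⁻¹ * (g * t * g⁻¹) := by group
  have hct' : g * t * g⁻¹ * x₀ = x₀ * (g * t * g⁻¹) := by
    have := hct.zpow_right m
    rw [hm] at this
    exact this
  have ho : orderOf (g * t * g⁻¹) = 2 := by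
    rw [← heo]
    exact MulEquiv.orderOf_eq (MulAut.conj g) t
  obtain ⟨c, hc⟩ := conj_of_only (H := ↥(centralizer ({x₀} : Set Cfsg.Spor.J4)))
    (z := ⟨F.C.z, mem_centralizer_singleton_iff.2 hxz.symm⟩)
    (t := ⟨g * t * g⁻¹, mem_centralizer_singleton_iff.2 hct'⟩)
    (by rw [Subgroup.orderOf_mk]; exact F.C.z_order)
    (fun s hs hsz => by
      have h5 := only_z F.C.toCent h0 hxz (t := (s : Cfsg.Spor.J4)) (congrArg Subtype.val hs)
        (congrArg Subtype.val hsz) (mem_centralizer_singleton_iff.1 s.2)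
      rcases h5 with h5 | h5
      · exact Or.inl (Subtype.ext h5)
      · exact Or.inr (Subtype.ext h5))
    (by rw [Subgroup.orderOf_mk]; exact ho)
  have hc' : (c : Cfsg.Spor.J4) * (g * t * g⁻¹) * (c : Cfsg.Spor.J4)⁻¹ = F.C.z := congrArg Subtype.val hc
  apply hnc
  refine (isConj_iff.2 ⟨(c : Cfsg.Spor.J4) * g, ?_⟩ : IsConj t F.C.z).symm
  have e : (c : Cfsg.Spor.J4) * g * t * ((c : Cfsg.Spor.J4) * g)⁻¹ =
      (c : Cfsg.Spor.J4) * (g * t * g⁻¹) * (c : Cfsg.Spor.J4)⁻¹ := by group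
  exact e.trans hc'

theorem j4_11 {G : Type*} [Group G] (h : Cfsg.Spor.IsoJ4 G) : NC 11 G := by
  have hf : Fact (Nat.Prime 11) := ⟨by norm_num⟩
  have : Finite Cfsg.Spor.J4 := Nat.finite_of_card_ne_zero (by rw [card_J4]; norm_num)
  exact j4_11'.congr h.some.symm

theorem j4_3 {G : Type*} [Group G] (h : Cfsg.Spor.IsoJ4 G) : NC 3 G := by
  have hf : Fact (Nat.Prime 3) := ⟨by norm_num⟩
  have : Finite Cfsg.Spor.J4 := Nat.finite_of_card_ne_zero (by rw [card_J4]; norm_num)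
  obtain ⟨g⟩ := Cfsg.Agent.S1711.result
  have h1 : NC 3 Cfsg.Spor.J4 := nc_of_injective (m24_3 (G := Cfsg.M24) ⟨MulEquiv.refl _⟩)
    ((Subgroup.subtype _).comp g.symm.toMonoidHom) ((subtype_injective _).comp g.symm.injective)
  exact h1.congr h.some.symm

end

/-! ### rank at least three -/

theorem j3_3 {G : Type*} [Group G] [Finite G] (h : Cfsg.Spor.IsoJ3 G) : NC 3 G := by
  have hf : Fact (Nat.Prime 3) := ⟨by norm_num⟩
  exact nc_of_rank_two (Cfsg.Agent.Omega.Quasithin.Row.J3.row_j3 G h)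

theorem ly_3 {G : Type*} [Group G] [Finite G] (h : Cfsg.Spor.IsoLy G) : NC 3 G := by
  have hf : Fact (Nat.Prime 3) := ⟨by norm_num⟩
  exact nc_of_rank_two (Cfsg.Agent.Omega.Quasithin.Row.Ly.row_ly G h)

theorem th_3 {G : Type*} [Group G] [Finite G] (h : Cfsg.Spor.IsoTh G) : NC 3 G := by
  have hf : Fact (Nat.Prime 3) := ⟨by norm_num⟩
  exact nc_of_rank_two (Cfsg.Agent.Omega.Quasithin.Row.Th.row_th G h)

/-! ### `(Ly, 5)` -/

section

open Cfsg.Agent.CpAut.LyFiveRow Cfsg.Agent.TypeM.Two Cfsg.Agent.Ly.Mat7 Cfsg.Agent.Ly.Upper Cfsg.Agent.Ly.Setup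

theorem ly_5' (hfin : Finite Cfsg.Spor.Ly) : NC 5 Cfsg.Spor.Ly := by
  have hf : Fact (Nat.Prime 5) := ⟨by norm_num⟩
  refine nc_of_pair (a := pw wz) (b := pw wc) (orderOf_eq_prime z_five (pw_ne z_ne)) c_five ?_ ?_
  · have h1 := pw_eq cz
    rw [pw_append, pw_append] at h1
    exact h1.symm
  · rintro ⟨k, hk⟩
    have hk' : pw wz ^ k = pw wc := hk
    have h1 := pw_eq dz
    rw [pw_append, pw_append] at h1
    have h2 : Commute (pw wd) (pw wz) := h1
    have h3 := h2.zpow_right k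
    rw [hk'] at h3
    have h4 := pw_eq cd
    rw [pw_append, pw_append, pw_append, h3.symm.eq, ← mul_assoc, left_eq_mul] at h4
    exact pw_ne z_ne h4

end


theorem ly_5 {G : Type*} [Group G] (h : Cfsg.Spor.IsoLy G) : NC 5 G := by
  have hf : Fact (Nat.Prime 5) := ⟨by norm_num⟩
  have hfin : Finite Cfsg.Spor.Ly := Cfsg.Agent.Ly.Setup.finite_ly
  exact (ly_5' hfin).congr h.some.symm

/-! ### `(Th, 5)` -/

section

open Cfsg.Agent.Th Cfsg.Agent.Th.Base Cfsg.Agent.Th.Word Cfsg.Agent.Th.FlagCover Cfsg.Agent.Th.IndexUpper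
  Cfsg.Agent.Th.KOracle Cfsg.Agent.CpAutTh Cfsg.Agent.CpAutTh.Main

theorem th_5' : NC 5 Cfsg.Spor.Th := by
  have hf : Fact (Nat.Prime 5) := ⟨by norm_num⟩
  have hfin : Finite Cfsg.Spor.Th := Nat.finite_of_card_ne_zero (by rw [Cfsg.Agent.Th.Main1700.isTh.2]; norm_num)
  have hctx := Cfsg.Agent.KFacts.Th.Main.ctx
  obtain ⟨f, F⟩ := Local.exists_epi hctx
  have h5 := Local.o5 hctx F
  rw [Subgroup.orderOf_mk] at h5
  refine nc_of_unique (by norm_num) (x := Cfsg.Agent.Th.Word.ev gTh Cfsg.Agent.CpAutTh.Data.X5) (z := gTh 1) h5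
    Cfsg.Agent.MonsterX.ThOneClass.orderOf_a ?_ (by rw [Cfsg.Agent.Th.Main1700.isTh.2]; norm_num) ?_ ?_
  · have h6 := (hctx.mem_C).1 (ev_mem_sub (γ := gTh) Cfsg.Agent.CpAutTh.Local.c5)
    exact h6.symm
  · rw [Cfsg.Agent.MonsterX.ThOneClass.card_a]; norm_num
  · intro s hs h1 h2
    exact Local.inv_five hctx F hs h1 h2

end

theorem th_5 {G : Type*} [Group G] (h : Cfsg.Spor.IsoTh G) : NC 5 G := by
  have hf : Fact (Nat.Prime 5) := ⟨by norm_num⟩
  have hfin : Finite Cfsg.Spor.Th := Nat.finite_of_card_ne_zero (by rw [Cfsg.Agent.Th.Main1700.isTh.2]; norm_num)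
  exact th_5'.congr h.some.symm

/-! ### `(B, 3)`, `(B, 5)` -/

theorem b_3 {G : Type*} [Group G] (h : Cfsg.Spor.IsoB G) : NC 3 G := by
  have hf : Fact (Nat.Prime 3) := ⟨by norm_num⟩
  have hfin : Finite Cfsg.Spor.BabyMonster :=
    Nat.finite_of_card_ne_zero (by rw [Cfsg.Agent.S1704.result.2]; norm_num)
  obtain ⟨T, hT⟩ := Cfsg.Agent.H800.Sp.B.exists_th_B
  exact (nc_of_sub (th_3 hT)).congr h.some.symm

theorem b_5 {G : Type*} [Group G] (h : Cfsg.Spor.IsoB G) : NC 5 G := by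
  have hf : Fact (Nat.Prime 5) := ⟨by norm_num⟩
  have hfin : Finite Cfsg.Spor.BabyMonster :=
    Nat.finite_of_card_ne_zero (by rw [Cfsg.Agent.S1704.result.2]; norm_num)
  obtain ⟨T, hT⟩ := Cfsg.Agent.H800.Sp.B.exists_th_B
  exact (nc_of_sub (th_5 hT)).congr h.some.symm

/-! ### `(Tits, 3)` -/

theorem tits_3 {G : Type*} [Group G] [Finite G] (h : Cfsg.Lie.IsoTits G) : NC 3 G := by
  have hf : Fact (Nat.Prime 3) := ⟨by norm_num⟩
  obtain ⟨e⟩ := h
  have hfin : Finite Cfsg.Lie.TitsGroup := Finite.of_equiv _ e.toEquiv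
  obtain ⟨D⟩ := Cfsg.Agent.H87.TitsData.dat_tits
  refine (nc_of_exp_sub D.R ?_ (by rw [D.card_R]; norm_num)).congr e.symm
  intro x hx
  by_cases h1 : x = 1
  · rw [h1, one_pow]
  · obtain ⟨g, hg⟩ := isConj_iff.1 (D.R_isConj hx h1)
    have h3 := D.t3
    have h4 : x = g⁻¹ * D.t * g := by rw [← hg]; group
    rw [h4]
    have h5 : (g⁻¹ * D.t * g) ^ 3 = g⁻¹ * D.t ^ 3 * g := by
      rw [pow_three, pow_three]; group
    rw [h5, h3, mul_one, inv_mul_cancel]

end Cfsg.Agent.H123.SpNC
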