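import Cfsg.Agent.H123.SpNB

/-!
# `(Ru, 3)`
-/

set_option autoImplicit false
set_option maxRecDepth 100000

universe u v

namespace Cfsg.Agent.H123.SpNC.RuT

open Subgroup Cfsg
open Cfsg.Agent.Lib Cfsg.Agent.SporadicB Cfsg.Agent.SporadicB.RuOrder Cfsg.Agent.RuD.Letters
open Cfsg.Agent.SporRec.TCUpperCert Cfsg.Agent.CpAutRuFive Cfsg.Agent.CpAutRuFive.Cert
open Cfsg.Agent.KFacts.Ru Cfsg.Agent.KFacts.Ru.CentEng
open Cfsg.Agent.RuB (A4)
open Cfsg.Agent.LThree (Comps)

def wC : List ℕ := [4, 3, 2, 0, 2, 5, 4, 3, 5, 6, 3, 1, 3, 4, 7, 6, 7, 1, 5, 7, 8, 5, 2, 0, 2, 7, 8, 3, 2, 0, 2, 5, 4, 3,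
  5, 6, 3, 1, 3, 8, 7, 6, 7, 1, 5, 7, 8, 5, 2, 0, 2, 7]

theorem chkC : chkEq (wC ++ (wC ++ wC)) [] = true := by decide +kernel
theorem chkCA : chkEq ([4] ++ wC) (wC ++ [4]) = true := by decide +kernel
theorem valC : Nat.beq (evalK wC 0) 2066 = true := by decide +kernel
theorem valA : Nat.beq (evalK [4] 0) 3641 = true := by decide +kernel
theorem valAA : Nat.beq (evalK ([4] ++ [4]) 0) 395 = true := by decide +kernel

theorem three : NC 3 RuOrder.H := by
  have : Fact (Nat.Prime 3) := ⟨by norm_num⟩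
  have hf : Finite RuOrder.H := finite_H
  refine nc_of_pair (a := wprod ml [4]) (b := wprod ml wC) Cfsg.Agent.H573.Spor.RuR.order3 ?_ ?_ ?_
  · have h1 := eq_of_chkEq chkC
    rw [wprod_append, wprod_append, wprod_nil] at h1
    rw [← h1]
    simp only [pow_succ, pow_zero, one_mul, mul_assoc]
  · have h1 := eq_of_chkEq chkCA
    rwa [wprod_append, wprod_append] at h1
  · intro h
    rw [← mem_powers_iff_mem_zpowers] at h
    obtain ⟨k, hk⟩ := h
    have hk' : (wprod ml [4] : RuOrder.H) ^ k = wprod ml wC := hk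
    have h3 : (wprod ml [4] : RuOrder.H) ^ (k % 3) = wprod ml wC := by
      rw [← hk', ← Cfsg.Agent.H573.Spor.RuR.order3, pow_mod_orderOf]
    have h4 := evalK_eq wC ⟨0, by norm_num⟩
    have h5 : k % 3 = 0 ∨ k % 3 = 1 ∨ k % 3 = 2 := by omega
    have vC := Nat.eq_of_beq_eq_true valC
    rcases h5 with h5 | h5 | h5
    · rw [h5, pow_zero] at h3
      rw [← h3] at h4
      have h6 : evalK wC 0 = 0 := h4.symm
      rw [vC] at h6
      exact absurd h6 (by decide)
    · rw [h5, pow_one] at h3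
      have h6 := evalK_eq [4] ⟨0, by norm_num⟩
      rw [h3] at h6
      have h7 : evalK [4] 0 = evalK wC 0 := h6.symm.trans h4
      rw [vC, Nat.eq_of_beq_eq_true valA] at h7
      exact absurd h7 (by decide)
    · rw [h5, pow_two, ← wprod_append] at h3
      have h6 := evalK_eq ([4] ++ [4]) ⟨0, by norm_num⟩
      rw [h3] at h6
      have h7 : evalK ([4] ++ [4]) 0 = evalK wC 0 := h6.symm.trans h4
      rw [vC, Nat.eq_of_beq_eq_true valAA] at h7
      exact absurd h7 (by decide)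

end Cfsg.Agent.H123.SpNC.RuT

namespace Cfsg.Agent.H123.SpNC

theorem ru_3 {G : Type*} [Group G] (h : Cfsg.Spor.IsoRu G) : NC 3 G := by
  have hf : Fact (Nat.Prime 3) := ⟨by norm_num⟩
  have hfin : Finite Cfsg.Agent.SporadicB.RuOrder.H := Cfsg.Agent.CpAutRuFive.finite_H
  obtain ⟨e⟩ := h
  exact RuT.three.congr (e.trans Cfsg.Agent.RuLat.Main.equiv).symm

end Cfsg.Agent.H123.SpNC
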