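import Cfsg.Agent.H123.SpNC
import Cfsg.Agent.H123.SpNA
import Cfsg.Agent.H123.SpNB
import Cfsg.Agent.H123.SpRu
import Cfsg.Agent.H468.SqDvd
import Cfsg.Agent.NotCT.Orders

/-!
# The sporadic groups and the Tits group: for odd `p` either the Sylow `p`-subgroups are not cyclic or `p²` does not
divide the order
-/

set_option autoImplicit false

namespace Cfsg.Agent.H123.SpAll

open Subgroup Cfsg Cfsg.Agent.H123.SpNC

variable {G : Type*} [Group G] [Finite G] {p : ℕ} [hp : Fact p.Prime]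

/-- the common shape of a row -/
theorem row {n : ℕ} (hcard : Nat.card G = n) (l : List (ℕ × ℕ)) (hl : ∀ x ∈ l, x.1.Prime)
    (hnd : (l.map Prod.fst).Nodup) (hn : n = (l.map fun x => x.1 ^ x.2).prod)
    (h : ∀ x ∈ l, x.1 = p → 2 ≤ x.2 → NC p G) : NC p G ∨ ¬ p ^ 2 ∣ Nat.card G := by
  by_cases hd : p ^ 2 ∣ Nat.card G
  · left
    obtain ⟨x, hx, h1, h2⟩ := H468.mem_of_sq_dvd hp.out l hl hnd (by rw [← hn, ← hcard]; exact hd)
    exact h x hx h1 h2
  · exact Or.inr hd

theorem tits (h2 : p ≠ 2) (h : Lie.IsoTits G) : NC p G ∨ ¬ p ^ 2 ∣ Nat.card G := by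
  refine row (NotCT.Orders.tits h)
    [(2, 11), (3, 3), (5, 2), (13, 1)]
    (by simp; norm_num) (by decide) (by norm_num) ?_
  intro x hx h3 h4
  simp only [List.mem_cons, List.not_mem_nil, or_false] at hx
  rcases hx with rfl | rfl | rfl | rfl <;> subst h3 <;> try omega
  · exact tits_3 h
  · exact tits_5 h

theorem m11 (h2 : p ≠ 2) (h : Spor.IsoM11 G) : NC p G ∨ ¬ p ^ 2 ∣ Nat.card G := by
  refine row (NotCT.Orders.m11 h)
    [(2, 4), (3, 2), (5, 1), (11, 1)]
    (by simp; norm_num) (by decide) (by norm_num) ?_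
  intro x hx h3 h4
  simp only [List.mem_cons, List.not_mem_nil, or_false] at hx
  rcases hx with rfl | rfl | rfl | rfl <;> subst h3 <;> try omega
  · exact m11_3 h

theorem m12 (h2 : p ≠ 2) (h : Spor.IsoM12 G) : NC p G ∨ ¬ p ^ 2 ∣ Nat.card G := by
  refine row (NotCT.Orders.m12 h)
    [(2, 6), (3, 3), (5, 1), (11, 1)]
    (by simp; norm_num) (by decide) (by norm_num) ?_
  intro x hx h3 h4
  simp only [List.mem_cons, List.not_mem_nil, or_false] at hx
  rcases hx with rfl | rfl | rfl | rfl <;> subst h3 <;> try omega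
  · exact m12_3 h

theorem m22 (h2 : p ≠ 2) (h : Spor.IsoM22 G) : NC p G ∨ ¬ p ^ 2 ∣ Nat.card G := by
  refine row (NotCT.Orders.m22 h)
    [(2, 7), (3, 2), (5, 1), (7, 1), (11, 1)]
    (by simp; norm_num) (by decide) (by norm_num) ?_
  intro x hx h3 h4
  simp only [List.mem_cons, List.not_mem_nil, or_false] at hx
  rcases hx with rfl | rfl | rfl | rfl | rfl <;> subst h3 <;> try omega
  · exact m22_3 h

theorem m23 (h2 : p ≠ 2) (h : Spor.IsoM23 G) : NC p G ∨ ¬ p ^ 2 ∣ Nat.card G := by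
  refine row (NotCT.Orders.m23 h)
    [(2, 7), (3, 2), (5, 1), (7, 1), (11, 1), (23, 1)]
    (by simp; norm_num) (by decide) (by norm_num) ?_
  intro x hx h3 h4
  simp only [List.mem_cons, List.not_mem_nil, or_false] at hx
  rcases hx with rfl | rfl | rfl | rfl | rfl | rfl <;> subst h3 <;> try omega
  · exact m23_3 h

theorem m24 (h2 : p ≠ 2) (h : Spor.IsoM24 G) : NC p G ∨ ¬ p ^ 2 ∣ Nat.card G := by
  refine row (NotCT.Orders.m24 h)
    [(2, 10), (3, 3), (5, 1), (7, 1), (11, 1), (23, 1)]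
    (by simp; norm_num) (by decide) (by norm_num) ?_
  intro x hx h3 h4
  simp only [List.mem_cons, List.not_mem_nil, or_false] at hx
  rcases hx with rfl | rfl | rfl | rfl | rfl | rfl <;> subst h3 <;> try omega
  · exact m24_3 h

theorem j1 (h2 : p ≠ 2) (h : Spor.IsoJ1 G) : NC p G ∨ ¬ p ^ 2 ∣ Nat.card G := by
  refine row (NotCT.Orders.j1 h)
    [(2, 3), (3, 1), (5, 1), (7, 1), (11, 1), (19, 1)]
    (by simp; norm_num) (by decide) (by norm_num) ?_
  intro x hx h3 h4
  simp only [List.mem_cons, List.not_mem_nil, or_false] at hx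
  rcases hx with rfl | rfl | rfl | rfl | rfl | rfl <;> subst h3 <;> try omega

theorem j2 (h2 : p ≠ 2) (h : Spor.IsoJ2 G) : NC p G ∨ ¬ p ^ 2 ∣ Nat.card G := by
  refine row (NotCT.Orders.j2 h)
    [(2, 7), (3, 3), (5, 2), (7, 1)]
    (by simp; norm_num) (by decide) (by norm_num) ?_
  intro x hx h3 h4
  simp only [List.mem_cons, List.not_mem_nil, or_false] at hx
  rcases hx with rfl | rfl | rfl | rfl <;> subst h3 <;> try omega
  · exact j2_3 h
  · exact j2_5 h

theorem j3 (h2 : p ≠ 2) (h : Spor.IsoJ3 G) : NC p G ∨ ¬ p ^ 2 ∣ Nat.card G := by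
  refine row (NotCT.Orders.j3 h)
    [(2, 7), (3, 5), (5, 1), (17, 1), (19, 1)]
    (by simp; norm_num) (by decide) (by norm_num) ?_
  intro x hx h3 h4
  simp only [List.mem_cons, List.not_mem_nil, or_false] at hx
  rcases hx with rfl | rfl | rfl | rfl | rfl <;> subst h3 <;> try omega
  · exact j3_3 h

theorem j4 (h2 : p ≠ 2) (h : Spor.IsoJ4 G) : NC p G ∨ ¬ p ^ 2 ∣ Nat.card G := by
  refine row (NotCT.Orders.j4 h)
    [(2, 21), (3, 3), (5, 1), (7, 1), (11, 3), (23, 1), (29, 1), (31, 1), (37, 1), (43, 1)]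
    (by simp; norm_num) (by decide) (by norm_num) ?_
  intro x hx h3 h4
  simp only [List.mem_cons, List.not_mem_nil, or_false] at hx
  rcases hx with rfl | rfl | rfl | rfl | rfl | rfl | rfl | rfl | rfl | rfl <;> subst h3 <;> try omega
  · exact j4_3 h
  · exact j4_11 h

theorem hs (h2 : p ≠ 2) (h : Spor.IsoHS G) : NC p G ∨ ¬ p ^ 2 ∣ Nat.card G := by
  refine row (NotCT.Orders.hs h)
    [(2, 9), (3, 2), (5, 3), (7, 1), (11, 1)]
    (by simp; norm_num) (by decide) (by norm_num) ?_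
  intro x hx h3 h4
  simp only [List.mem_cons, List.not_mem_nil, or_false] at hx
  rcases hx with rfl | rfl | rfl | rfl | rfl <;> subst h3 <;> try omega
  · exact hs_3 h
  · exact hs_5 h

theorem he (h2 : p ≠ 2) (h : Spor.IsoHe G) : NC p G ∨ ¬ p ^ 2 ∣ Nat.card G := by
  refine row (NotCT.Orders.he h)
    [(2, 10), (3, 3), (5, 2), (7, 3), (17, 1)]
    (by simp; norm_num) (by decide) (by norm_num) ?_
  intro x hx h3 h4
  simp only [List.mem_cons, List.not_mem_nil, or_false] at hx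
  rcases hx with rfl | rfl | rfl | rfl | rfl <;> subst h3 <;> try omega
  · exact he_3 h
  · exact he_5 h
  · exact he_7 h

theorem mcl (h2 : p ≠ 2) (h : Spor.IsoMcL G) : NC p G ∨ ¬ p ^ 2 ∣ Nat.card G := by
  refine row (NotCT.Orders.mcl h)
    [(2, 7), (3, 6), (5, 3), (7, 1), (11, 1)]
    (by simp; norm_num) (by decide) (by norm_num) ?_
  intro x hx h3 h4
  simp only [List.mem_cons, List.not_mem_nil, or_false] at hx
  rcases hx with rfl | rfl | rfl | rfl | rfl <;> subst h3 <;> try omega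
  · exact mcl_3 h
  · exact mcl_5 h

theorem suz (h2 : p ≠ 2) (h : Spor.IsoSuz G) : NC p G ∨ ¬ p ^ 2 ∣ Nat.card G := by
  refine row (NotCT.Orders.suz h)
    [(2, 13), (3, 7), (5, 2), (7, 1), (11, 1), (13, 1)]
    (by simp; norm_num) (by decide) (by norm_num) ?_
  intro x hx h3 h4
  simp only [List.mem_cons, List.not_mem_nil, or_false] at hx
  rcases hx with rfl | rfl | rfl | rfl | rfl | rfl <;> subst h3 <;> try omega
  · exact suz_3 h
  · exact suz_5 h

theorem ly (h2 : p ≠ 2) (h : Spor.IsoLy G) : NC p G ∨ ¬ p ^ 2 ∣ Nat.card G := by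
  refine row (NotCT.Orders.ly h)
    [(2, 8), (3, 7), (5, 6), (7, 1), (11, 1), (31, 1), (37, 1), (67, 1)]
    (by simp; norm_num) (by decide) (by norm_num) ?_
  intro x hx h3 h4
  simp only [List.mem_cons, List.not_mem_nil, or_false] at hx
  rcases hx with rfl | rfl | rfl | rfl | rfl | rfl | rfl | rfl <;> subst h3 <;> try omega
  · exact ly_3 h
  · exact ly_5 h

theorem on (h2 : p ≠ 2) (h : Spor.IsoON G) : NC p G ∨ ¬ p ^ 2 ∣ Nat.card G := by
  refine row (NotCT.Orders.on h)
    [(2, 9), (3, 4), (5, 1), (7, 3), (11, 1), (19, 1), (31, 1)]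
    (by simp; norm_num) (by decide) (by norm_num) ?_
  intro x hx h3 h4
  simp only [List.mem_cons, List.not_mem_nil, or_false] at hx
  rcases hx with rfl | rfl | rfl | rfl | rfl | rfl | rfl <;> subst h3 <;> try omega
  · exact on_3 h
  · exact on_7 h

theorem ru (h2 : p ≠ 2) (h : Spor.IsoRu G) : NC p G ∨ ¬ p ^ 2 ∣ Nat.card G := by
  refine row (NotCT.Orders.ru h)
    [(2, 14), (3, 3), (5, 3), (7, 1), (13, 1), (29, 1)]
    (by simp; norm_num) (by decide) (by norm_num) ?_
  intro x hx h3 h4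
  simp only [List.mem_cons, List.not_mem_nil, or_false] at hx
  rcases hx with rfl | rfl | rfl | rfl | rfl | rfl <;> subst h3 <;> try omega
  · exact ru_3 h
  · exact ru_5 h

theorem co1 (h2 : p ≠ 2) (h : Spor.IsoCo1 G) : NC p G ∨ ¬ p ^ 2 ∣ Nat.card G := by
  refine row (NotCT.Orders.co1 h)
    [(2, 21), (3, 9), (5, 4), (7, 2), (11, 1), (13, 1), (23, 1)]
    (by simp; norm_num) (by decide) (by norm_num) ?_
  intro x hx h3 h4
  simp only [List.mem_cons, List.not_mem_nil, or_false] at hx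
  rcases hx with rfl | rfl | rfl | rfl | rfl | rfl | rfl <;> subst h3 <;> try omega
  · exact co1_3 h
  · exact co1_5 h
  · exact co1_7 h

theorem co2 (h2 : p ≠ 2) (h : Spor.IsoCo2 G) : NC p G ∨ ¬ p ^ 2 ∣ Nat.card G := by
  refine row (NotCT.Orders.co2 h)
    [(2, 18), (3, 6), (5, 3), (7, 1), (11, 1), (23, 1)]
    (by simp; norm_num) (by decide) (by norm_num) ?_
  intro x hx h3 h4
  simp only [List.mem_cons, List.not_mem_nil, or_false] at hx
  rcases hx with rfl | rfl | rfl | rfl | rfl | rfl <;> subst h3 <;> try omega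
  · exact co2_3 h
  · exact co2_5 h

theorem co3 (h2 : p ≠ 2) (h : Spor.IsoCo3 G) : NC p G ∨ ¬ p ^ 2 ∣ Nat.card G := by
  refine row (NotCT.Orders.co3 h)
    [(2, 10), (3, 7), (5, 3), (7, 1), (11, 1), (23, 1)]
    (by simp; norm_num) (by decide) (by norm_num) ?_
  intro x hx h3 h4
  simp only [List.mem_cons, List.not_mem_nil, or_false] at hx
  rcases hx with rfl | rfl | rfl | rfl | rfl | rfl <;> subst h3 <;> try omega
  · exact co3_3 h
  · exact co3_5 h

theorem fi22 (h2 : p ≠ 2) (h : Spor.IsoFi22 G) : NC p G ∨ ¬ p ^ 2 ∣ Nat.card G := by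
  refine row (NotCT.Orders.fi22 h)
    [(2, 17), (3, 9), (5, 2), (7, 1), (11, 1), (13, 1)]
    (by simp; norm_num) (by decide) (by norm_num) ?_
  intro x hx h3 h4
  simp only [List.mem_cons, List.not_mem_nil, or_false] at hx
  rcases hx with rfl | rfl | rfl | rfl | rfl | rfl <;> subst h3 <;> try omega
  · exact fi22_3 h
  · exact fi22_5 h

theorem fi23 (h2 : p ≠ 2) (h : Spor.IsoFi23 G) : NC p G ∨ ¬ p ^ 2 ∣ Nat.card G := by
  refine row (NotCT.Orders.fi23 h)
    [(2, 18), (3, 13), (5, 2), (7, 1), (11, 1), (13, 1), (17, 1), (23, 1)]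
    (by simp; norm_num) (by decide) (by norm_num) ?_
  intro x hx h3 h4
  simp only [List.mem_cons, List.not_mem_nil, or_false] at hx
  rcases hx with rfl | rfl | rfl | rfl | rfl | rfl | rfl | rfl <;> subst h3 <;> try omega
  · exact fi23_3 h
  · exact fi23_5 h

theorem fi24 (h2 : p ≠ 2) (h : Spor.IsoFi24' G) : NC p G ∨ ¬ p ^ 2 ∣ Nat.card G := by
  refine row (NotCT.Orders.fi24 h)
    [(2, 21), (3, 16), (5, 2), (7, 3), (11, 1), (13, 1), (17, 1), (23, 1), (29, 1)]
    (by simp; norm_num) (by decide) (by norm_num) ?_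
  intro x hx h3 h4
  simp only [List.mem_cons, List.not_mem_nil, or_false] at hx
  rcases hx with rfl | rfl | rfl | rfl | rfl | rfl | rfl | rfl | rfl <;> subst h3 <;> try omega
  · exact fi24_3 h
  · exact fi24_5 h
  · exact fi24_7 h

theorem th (h2 : p ≠ 2) (h : Spor.IsoTh G) : NC p G ∨ ¬ p ^ 2 ∣ Nat.card G := by
  refine row (NotCT.Orders.th h)
    [(2, 15), (3, 10), (5, 3), (7, 2), (13, 1), (19, 1), (31, 1)]
    (by simp; norm_num) (by decide) (by norm_num) ?_
  intro x hx h3 h4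
  simp only [List.mem_cons, List.not_mem_nil, or_false] at hx
  rcases hx with rfl | rfl | rfl | rfl | rfl | rfl | rfl <;> subst h3 <;> try omega
  · exact th_3 h
  · exact th_5 h
  · exact th_7 h

theorem hn (h2 : p ≠ 2) (h : Spor.IsoHN G) : NC p G ∨ ¬ p ^ 2 ∣ Nat.card G := by
  refine row (NotCT.Orders.hn h)
    [(2, 14), (3, 6), (5, 6), (7, 1), (11, 1), (19, 1)]
    (by simp; norm_num) (by decide) (by norm_num) ?_
  intro x hx h3 h4
  simp only [List.mem_cons, List.not_mem_nil, or_false] at hx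
  rcases hx with rfl | rfl | rfl | rfl | rfl | rfl <;> subst h3 <;> try omega
  · exact hn_3 h
  · exact hn_5 h

theorem b (h2 : p ≠ 2) (h : Spor.IsoB G) : NC p G ∨ ¬ p ^ 2 ∣ Nat.card G := by
  refine row (NotCT.Orders.b h)
    [(2, 41), (3, 13), (5, 6), (7, 2), (11, 1), (13, 1), (17, 1), (19, 1), (23, 1), (31, 1), (47, 1)]
    (by simp; norm_num) (by decide) (by norm_num) ?_
  intro x hx h3 h4
  simp only [List.mem_cons, List.not_mem_nil, or_false] at hx
  rcases hx with rfl | rfl | rfl | rfl | rfl | rfl | rfl | rfl | rfl | rfl | rfl <;> subst h3 <;> try omega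
  · exact b_3 h
  · exact b_5 h
  · exact b_7 h

theorem m (h2 : p ≠ 2) (h : Spor.IsoM G) : NC p G ∨ ¬ p ^ 2 ∣ Nat.card G := by
  refine row (NotCT.Orders.m h)
    [(2, 46), (3, 20), (5, 9), (7, 6), (11, 2), (13, 3), (17, 1), (19, 1), (23, 1), (29, 1), (31, 1), (41, 1), (47, 1), (59, 1), (71, 1)]
    (by simp; norm_num) (by decide) (by norm_num) ?_
  intro x hx h3 h4
  simp only [List.mem_cons, List.not_mem_nil, or_false] at hx
  rcases hx with rfl | rfl | rfl | rfl | rfl | rfl | rfl | rfl | rfl | rfl | rfl | rfl | rfl | rfl | rfl <;> subst h3 <;> try omega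
  · exact m_3 h
  · exact m_5 h
  · exact m_7 h
  · exact m_11 h
  · exact m_13 h

/-- **The sporadic groups.** -/
theorem spor (h2 : p ≠ 2) (h : IsSporadicGroup G) : NC p G ∨ ¬ p ^ 2 ∣ Nat.card G := by
  rcases h with h | h | h | h | h | h | h | h | h | h | h | h | h | h | h | h | h | h | h | h | h | h | h | h | h | h
  · exact m11 h2 h
  · exact m12 h2 h
  · exact m22 h2 h
  · exact m23 h2 h
  · exact m24 h2 h
  · exact j1 h2 h
  · exact j2 h2 h
  · exact j3 h2 h
  · exact j4 h2 h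
  · exact co1 h2 h
  · exact co2 h2 h
  · exact co3 h2 h
  · exact mcl h2 h
  · exact hs h2 h
  · exact suz h2 h
  · exact he h2 h
  · exact ru h2 h
  · exact on h2 h
  · exact ly h2 h
  · exact fi22 h2 h
  · exact fi23 h2 h
  · exact fi24 h2 h
  · exact hn h2 h
  · exact th h2 h
  · exact b h2 h
  · exact m h2 h

theorem cycTI_of_or (h : NC p G ∨ ¬ p ^ 2 ∣ Nat.card G) : CycTI p G := by
  rcases h with h | h
  · exact h.cycTI
  · exact CycTI.of_not_sq_dvd h

end Cfsg.Agent.H123.SpAll
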