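import Cfsg.Agent.H123.CycTI
import Cfsg.Agent.H794.DefAb

/-!
# `CycTI` from `Full` and `TI`; alternating groups and the defining characteristic (S2348)
-/

set_option autoImplicit false
set_option linter.unusedSectionVars false

namespace Cfsg.Agent.H123.CycFull

open Subgroup Cfsg

variable {p : ℕ} [hp : Fact p.Prime]

/-- If the only strongly closed subgroups are `1` and `S` then a cyclic `S` has order `p`. -/
theorem of_full {G : Type*} [Group G] [Finite G] (h : H794.Full p G) : CycTI p G := by
  intro P hP s hs hsp hs1 c hcs y hy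
  have hsc : IsStronglyClosed (zpowers s) (P : Subgroup G) := by
    refine ⟨by rw [zpowers_le]; exact hs, ?_⟩
    rintro _ ⟨i, rfl⟩ g hg
    refine mem_of_cyclic P.2 hP (Q := zpowers s) ?_ ?_ hg ?_
    · rw [zpowers_le]; exact hs
    · rwa [Ne, zpowers_eq_bot]
    · show (g * s ^ i * g⁻¹) ^ p = 1
      rw [conj_pow]
      have h1 : (s ^ i) ^ p = 1 := by rw [← zpow_natCast, ← zpow_mul, mul_comm, zpow_mul, zpow_natCast, hsp, one_zpow]
      rw [h1, mul_one, mul_inv_cancel]
  rcases h P _ hsc with h1 | h1
  · rw [zpowers_eq_bot] at h1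
    exact absurd h1 hs1
  · have hy' : y ∈ (P : Subgroup G) := hy
    rw [← h1] at hy'
    obtain ⟨i, hi⟩ := hy'
    have hi' : s ^ i = y := hi
    have h3 : Commute c s := hcs
    have h4 : c * s ^ i = s ^ i * c := h3.zpow_right i
    rw [← hi', h4, mul_inv_cancel_right, hi']
    exact hy

theorem of_ti {G : Type*} [Group G] [Finite G] (h : H794.TI p G) : CycTI p G := by
  intro P hP s hs hsp hs1 c hcs y hy
  have h1 := h P s hs hs1 c (by rw [hcs, mul_inv_cancel_right]; exact hs)
  exact (mem_normalizer_iff.1 h1 y).1 hy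

/-- **Alternating groups.** -/
theorem alt (hp2 : p ≠ 2) {G : Type*} [Group G] [Finite G] (h : IsAlternating G) : CycTI p G :=
  of_full (H794.full_alt hp2 h)

/-- **Defining characteristic.** -/
theorem defChar (hp2 : p ≠ 2) {G : Type*} [Group G] [Finite G] [IsSimpleGroup G] (hG : ¬ IsMulCommutative G)
    (h : IsLieTypeChar p G) : CycTI p G := by
  rcases H794.DefAb.def_row hp2 hG h with h1 | ⟨h1, -⟩
  · exact of_full h1
  · exact of_ti h1

end Cfsg.Agent.H123.CycFull
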