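import Cfsg.Agent.H123.ExcEmb
import Cfsg.Agent.BpExc.RowsN
import Cfsg.Agent.H129.TwE6Fr
import Cfsg.Agent.H129.TriD4

/-!
# Cyclic Sylow subgroups of the untwisted exceptional groups (S2348)

`cycTI_untw` : `CycTI p (D.group F)`, `p ≠ 2`, `p` not the characteristic; the rows `cycTI_g2`, …, `cycTI_e8`.
-/

set_option autoImplicit false
set_option linter.unusedSectionVars false

namespace Cfsg.Agent.H123.ExcRows

open CoxeterSystem Subgroup Cfsg Cfsg.Lie Cfsg.Lie.ChevalleyDatum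
open Cfsg.Agent.ChevalleyStructure Cfsg.Agent.ChevalleyStructure.Elts Cfsg.Agent.ChevalleyStructure.CoxeterGeom
  Cfsg.Agent.ChevalleyStructure.CoxeterGeomTypes Cfsg.Agent.ChevalleyStructure.NPerm
open Cfsg.Agent.Nodes.RGDChev Cfsg.Agent.KFacts.RgdChevCoord Cfsg.Agent.GpExc.Field
open Cfsg.Agent.BpTab Cfsg.Agent.BpExc Cfsg.Agent.BpExc.TowChev Cfsg.Agent.BpExc.FamUntw Cfsg.Agent.BpExc.FamInst
  Cfsg.Agent.BpExc.LangFr Cfsg.Agent.BpExc.FamField Cfsg.Agent.BpExc.AsmN Cfsg.Agent.BpExc.RowsUntw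
  Cfsg.Agent.BpExc.RowsN

/-- an `r`-element a power of which, prime to `r`, lies in `H` -/
theorem mem_of_pow_mem {Y : Type*} [Group Y] {H : Subgroup Y} {y : Y} {r : ℕ} [Fact r.Prime] {m j : ℕ}
    (hm : m.Coprime r) (hy : y ^ m ∈ H) (hj : y ^ r ^ j = 1) : y ∈ H := by
  have h1 : m.Coprime (r ^ j) := Nat.Coprime.pow_right j hm
  have h2 : y ^ (Int.gcd m (r ^ j : ℕ)) ∈ H := by
    have h3 : (Int.gcd m (r ^ j : ℕ) : ℤ) = m * Int.gcdA m (r ^ j : ℕ) + (r ^ j : ℕ) * Int.gcdB m (r ^ j : ℕ) :=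
      Int.gcd_eq_gcd_ab _ _
    have h4 : y ^ ((Int.gcd m (r ^ j : ℕ) : ℕ) : ℤ) ∈ H := by
      rw [h3, zpow_add, zpow_mul, zpow_mul, zpow_natCast, zpow_natCast, hj, one_zpow, mul_one]
      exact H.zpow_mem hy _
    rwa [zpow_natCast] at h4
  rw [Int.gcd_natCast_natCast, h1, pow_one] at h2
  exact h2

theorem finOrder_of_fixed {Y : Type*} [Group Y] {τ : MulAut Y} (hfin : Finite ↥(fixedSubgroup τ)) {t : Y}
    (ht : τ t = t) : IsOfFinOrder t := by
  have h1 : IsOfFinOrder (⟨t, ht⟩ : ↥(fixedSubgroup τ)) := isOfFinOrder_of_finite _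
  exact (fixedSubgroup τ).subtype.isOfFinOrder h1

variable {D : ChevalleyDatum} {l : ℕ} {M : CoxeterMatrix (Fin l)} (hp : IsType D l M)

include hp in
/-- the data of the embedding of `D.group F` in `D.group k`, `k` the algebraic closure of `ZMod r` -/
theorem exists_embedding {r : ℕ} [Fact r.Prime] {F : Type} [Field F] [Fintype F] [CharP F r] :
    ∃ (n : ℕ) (_ : 0 < n) (f : ↥(D.group F) →* ↥(D.group (AlgebraicClosure (ZMod r)))), Function.Injective f ∧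
      (∀ a, phi D (AlgebraicClosure (ZMod r)) r n (f a) = f a) ∧
      (∀ y, phi D (AlgebraicClosure (ZMod r)) r n y = y → ∃ m : ℕ, m.Coprime r ∧ y ^ m ∈ f.range) := by
  obtain ⟨f⟩ := exists_emb r F
  obtain ⟨n, hn0, hn⟩ := exists_card (F := F) r
  have hfin := finite_phi (D := D) (k := AlgebraicClosure (ZMod r)) (r := r) hn0
  have hq : Fintype.card F = r ^ n := by rw [← hn, Nat.card_eq_fintype_card]
  let φ : AlgebraicClosure (ZMod r) →+* AlgebraicClosure (ZMod r) :=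
    ((frb (AlgebraicClosure (ZMod r)) r n : AlgebraicClosure (ZMod r) ≃+* AlgebraicClosure (ZMod r)) :
      AlgebraicClosure (ZMod r) →+* AlgebraicClosure (ZMod r))
  have hφ : ∀ t, φ t = t ^ Fintype.card F := by
    intro t
    rw [hq]
    exact frb_apply _ r n t
  have hσφ : ∀ y : ↥(D.group (AlgebraicClosure (ZMod r))),
      ((phi D (AlgebraicClosure (ZMod r)) r n y : ↥(D.group (AlgebraicClosure (ZMod r)))) :
        GL D.Idx (AlgebraicClosure (ZMod r))) = glMap D φ (y : GL D.Idx (AlgebraicClosure (ZMod r))) := by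
    intro y
    apply Units.ext
    rfl
  have hfix : ∀ a, phi D (AlgebraicClosure (ZMod r)) r n (emb hp.inList f a) = emb hp.inList f a :=
    fun a => Emb.emb_fix hp.inList hφ hσφ a
  refine ⟨n, hn0, emb hp.inList f, emb_injective hp.inList f, hfix, fun y hy => ?_⟩
  have hy' : glMap D φ (y : GL D.Idx (AlgebraicClosure (ZMod r))) = y := by rw [← hσφ, hy]
  obtain ⟨a, ha, t, ht, e⟩ := EmbSplit.untw_split hp.inList (Emb.fix_iff_range hφ) y.2 hy'
  have hta : t ∈ D.group (AlgebraicClosure (ZMod r)) := by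
    have h1 : t = ((emb hp.inList f ⟨a, ha⟩ : ↥(D.group (AlgebraicClosure (ZMod r)))) :
        GL D.Idx (AlgebraicClosure (ZMod r)))⁻¹ * y := by
      rw [coe_emb]
      exact eq_inv_mul_of_mul_eq e.symm
    rw [h1]
    exact mul_mem (inv_mem (SetLike.coe_mem _)) y.2
  have e' : y = emb hp.inList f ⟨a, ha⟩ * ⟨t, hta⟩ := Subtype.ext e
  have hσt : phi D (AlgebraicClosure (ZMod r)) r n ⟨t, hta⟩ = ⟨t, hta⟩ := by
    have h1 := hy
    rw [e', map_mul, hfix] at h1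
    exact mul_left_cancel h1
  have hft : IsOfFinOrder (⟨t, hta⟩ : ↥(D.group (AlgebraicClosure (ZMod r)))) := by
    have h1 : IsOfFinOrder (⟨⟨t, hta⟩, hσt⟩ : ↥(fixedSubgroup (phi D (AlgebraicClosure (ZMod r)) r n))) :=
      isOfFinOrder_of_finite _
    exact (fixedSubgroup (phi D (AlgebraicClosure (ZMod r)) r n)).subtype.isOfFinOrder h1
  obtain ⟨m, hm, hm1⟩ := exists_coprime hp.inList (Subgroup.mem_subgroupOf.2 ht) hft
  refine ⟨m, hm, ?_⟩
  rw [e']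
  exact pow_mem_of_split (N := (emb hp.inList f).range) ⟨_, rfl⟩
    (fun b hb => Emb.conj_mem_range hp.inList (f := f) hφ hσφ hσt hb) hm1

include hp in
/-- **Untwisted groups in characteristic not `p`.** -/
theorem cycTI_untw {r p : ℕ} [Fact r.Prime] [Fact p.Prime] (hp2 : p ≠ 2) (hpr : p ≠ r) {F : Type} [Field F] [Fintype F]
    [CharP F r] : CycTI p ↥(D.group F) := by
  obtain ⟨n, hn0, f, hf, hfix, hr⟩ := exists_embedding hp (r := r) (F := F)
  have hk : LocFin (AlgebraicClosure (ZMod r)) := locFin_of_isAlgebraic r _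
  have : Finite ↥(D.group F) := inferInstance
  refine cycTI_of_emb hp M.toCoxeterSystem (r := r) hk (BpExc.TorAll.hAlg_of_isAlgebraic r _) hn0 (phi_isFrob r n)
    (phi_fr hp M.toCoxeterSystem r hk n) hf hfix (fun y hy hj => ?_) hp2 hpr
  obtain ⟨m, hm, h1⟩ := hr y hy
  obtain ⟨j, hj⟩ := hj
  exact mem_of_pow_mem hm h1 hj

/-! ### the twisted groups -/

section Tw

variable {r p q : ℕ} [Fact r.Prime] [Fact p.Prime] {K : Type} [Field K] [Fintype K] [CharP K r]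

theorem exists_exp (hq : IsPrimePow q) {d : ℕ} (hd : d ≠ 0) (hK : Fintype.card K = q ^ d) : ∃ n, 0 < n ∧ q = r ^ n := by
  obtain ⟨n, hn0, hn⟩ := exists_card (F := K) r
  obtain ⟨q', m, hq', hm, rfl⟩ := hq
  have hr : r.Prime := Fact.out
  rw [Nat.card_eq_fintype_card, hK] at hn
  have h1 : q' ∣ r := by
    have h2 : q' ∣ r ^ n := by
      rw [← hn]
      exact (dvd_pow_self q' hm.ne').trans (dvd_pow_self _ hd)
    exact hq'.dvd_of_dvd_pow h2
  have h2 : q' = r := (Nat.prime_dvd_prime_iff_eq hq'.nat_prime hr).1 h1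
  exact ⟨m, hm, by rw [h2]⟩

/-- **`²E₆(q)`.** -/
theorem cycTI_twE6 (hp2 : p ≠ 2) (hpr : p ≠ r) (hq : IsPrimePow q) (hK : Fintype.card K = q ^ 2) :
    CycTI p ↥(twistedE6 K q) := by
  obtain ⟨f⟩ := exists_emb r K
  obtain ⟨n, hn0, hn⟩ := exists_exp (r := r) hq two_ne_zero hK
  have hk : LocFin (AlgebraicClosure (ZMod r)) := locFin_of_isAlgebraic r _
  have : Finite ↥(twistedE6 K q) := inferInstance
  refine cycTI_of_emb Nodes.RGDTwE6.hp CoxeterMatrix.E₆.toCoxeterSystem (r := r) hk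
    (BpExc.TorAll.hAlg_of_isAlgebraic r _) hn0 H129.TwE6Fr.isFrob_tau (H129.TwE6Fr.fr_tau _)
    (H129.TwE6Fr.embT_injective f hq hK) (H129.TwE6Fr.tau_embT f hn hq hK) (fun y hy hj => ?_) hp2 hpr
  obtain ⟨j, hj⟩ := hj
  obtain ⟨x, t, ht, ht1, e⟩ := H129.TwE6Fr.tau_split f hn hq hK hy
  have hfin : Finite ↥(fixedSubgroup (H129.TwE6Fr.tau (AlgebraicClosure (ZMod r)) r n)) :=
    BpExc.Sig.finite_fixed hk hn0 H129.TwE6Fr.isFrob_tau
  have hft : IsOfFinOrder t := finOrder_of_fixed hfin ht1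
  obtain ⟨m, hm, hm1⟩ := exists_coprime Nodes.RGDTwE6.hp.inList ht hft
  refine mem_of_pow_mem hm ?_ hj
  rw [e]
  exact pow_mem_of_split (N := (H129.TwE6Fr.embT f hq hK).range) ⟨_, rfl⟩
    (fun b hb => H129.TwE6Fr.tau_normal f hn hq hK ht1 hb) hm1

/-- **`³D₄(q)`.** -/
theorem cycTI_triD4 (hp2 : p ≠ 2) (hpr : p ≠ r) (hq : IsPrimePow q) (hK : Fintype.card K = q ^ 3) :
    CycTI p ↥(twistedD4 K q) := by
  obtain ⟨f⟩ := exists_emb r K
  obtain ⟨n, hn0, hn⟩ := exists_exp (r := r) hq three_ne_zero hK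
  have hk : LocFin (AlgebraicClosure (ZMod r)) := locFin_of_isAlgebraic r _
  have : Finite ↥(twistedD4 K q) := inferInstance
  exact cycTI_of_emb Nodes.RGDTwD4.hp coxeterD4.toCoxeterSystem (r := r) hk
    (BpExc.TorAll.hAlg_of_isAlgebraic r _) hn0 H129.TriD4.isFrob_tau (H129.TriD4.fr_tau _)
    (H129.TriD4.embT_injective f hq hK) (H129.TriD4.tau_embT f hn hq hK)
    (fun y hy _ => H129.TriD4.tau_range f hn hq hK hy) hp2 hpr

end Tw

/-! ### the rows -/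

section Rows

variable {p : ℕ} [Fact p.Prime] {X : Type*} [Group X]

/-- a Chevalley group over a finite field, `p` its characteristic or not -/
theorem row_of_exc (hp2 : p ≠ 2) {D : ChevalleyDatum} {l : ℕ} {M : CoxeterMatrix (Fin l)} (hp : IsType D l M)
    {F : Type} [Field F] [Fintype F] (e : X ≃* ↥(D.group F))
    (h : ∀ _ : CharP F p, IsExceptionalChevChar p X) : IsLieTypeChar p X ∨ CycTI p X := by
  obtain ⟨r, hr, hF⟩ := exists_char F
  by_cases hpr : p = r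
  · subst hpr
    exact Or.inl (Or.inr (Or.inr (Or.inr (Or.inr (Or.inr (Or.inr (Or.inl (h hF))))))))
  · have : Fact r.Prime := ⟨hr⟩
    exact Or.inr ((cycTI_untw hp hp2 hpr (F := F)).congr e.symm)

theorem row_g2 (hp2 : p ≠ 2) (h : Lie.IsoChevG2 X) : IsLieTypeChar p X ∨ CycTI p X := by
  obtain ⟨F, _, _, h3, ⟨e⟩⟩ := h
  exact row_of_exc hp2 g2T e fun hF => ⟨F, inferInstance, inferInstance, hF, Or.inl ⟨h3, ⟨e⟩⟩⟩

theorem row_f4 (hp2 : p ≠ 2) (h : Lie.IsoF4 X) : IsLieTypeChar p X ∨ CycTI p X := by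
  obtain ⟨F, _, _, ⟨e⟩⟩ := h
  exact row_of_exc hp2 f4T e fun hF => ⟨F, inferInstance, inferInstance, hF, Or.inr (Or.inl ⟨e⟩)⟩

theorem row_e6 (hp2 : p ≠ 2) (h : Lie.IsoChevE6 X) : IsLieTypeChar p X ∨ CycTI p X := by
  obtain ⟨F, _, _, ⟨e⟩⟩ := h
  exact row_of_exc hp2 e6T e fun hF => ⟨F, inferInstance, inferInstance, hF, Or.inr (Or.inr (Or.inl ⟨e⟩))⟩

theorem row_e7 (hp2 : p ≠ 2) (h : Lie.IsoE7 X) : IsLieTypeChar p X ∨ CycTI p X := by
  obtain ⟨F, _, _, ⟨e⟩⟩ := h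
  exact row_of_exc hp2 e7T e fun hF => ⟨F, inferInstance, inferInstance, hF, Or.inr (Or.inr (Or.inr (Or.inl ⟨e⟩)))⟩

theorem row_e8 (hp2 : p ≠ 2) (h : Lie.IsoE8 X) : IsLieTypeChar p X ∨ CycTI p X := by
  obtain ⟨F, _, _, ⟨e⟩⟩ := h
  exact row_of_exc hp2 e8T e fun hF => ⟨F, inferInstance, inferInstance, hF, Or.inr (Or.inr (Or.inr (Or.inr ⟨e⟩)))⟩

theorem row_twE6 (hp2 : p ≠ 2) (h : Lie.Iso2E6 X) : IsLieTypeChar p X ∨ CycTI p X := by
  obtain ⟨K, _, _, q, hq, hK, ⟨e⟩⟩ := h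
  obtain ⟨r, hr, hF⟩ := exists_char K
  by_cases hpr : p = r
  · subst hpr
    exact Or.inl (Or.inr (Or.inr (Or.inr (Or.inr (Or.inr (Or.inr (Or.inr (Or.inl
      ⟨K, inferInstance, inferInstance, hF, q, hq, Or.inl ⟨hK, ⟨e⟩⟩⟩))))))))
  · have : Fact r.Prime := ⟨hr⟩
    exact Or.inr ((cycTI_twE6 hp2 hpr hq hK).congr e.symm)

theorem row_triD4 (hp2 : p ≠ 2) (h : Lie.Iso3D4 X) : IsLieTypeChar p X ∨ CycTI p X := by
  obtain ⟨K, _, _, q, hq, hK, ⟨e⟩⟩ := h
  obtain ⟨r, hr, hF⟩ := exists_char K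
  by_cases hpr : p = r
  · subst hpr
    exact Or.inl (Or.inr (Or.inr (Or.inr (Or.inr (Or.inr (Or.inr (Or.inr (Or.inl
      ⟨K, inferInstance, inferInstance, hF, q, hq, Or.inr ⟨hK, ⟨e⟩⟩⟩))))))))
  · have : Fact r.Prime := ⟨hr⟩
    exact Or.inr ((cycTI_triD4 hp2 hpr hq hK).congr e.symm)

end Rows

end Cfsg.Agent.H123.ExcRows
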