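import Cfsg.Agent.H123.CycTI
import Cfsg.Agent.S1158
import Cfsg.Agent.S1159
import Cfsg.Agent.H564.SzRee

/-!
# Cyclic Sylow subgroups of the Suzuki groups and the small Ree groups (S2348)
-/

set_option autoImplicit false
set_option linter.unusedSectionVars false

namespace Cfsg.Agent.H123.SzRee

open Subgroup Cfsg

variable {p : ℕ} [hp : Fact p.Prime]

/-- if `p` does not divide the order, nothing is to be shown -/
theorem of_not_dvd {G : Type*} [Group G] [Finite G] (h : ¬ p ∣ Nat.card G) : CycTI p G :=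
  CycTI.of_not_sq_dvd fun h2 => h ((dvd_pow_self p two_ne_zero).trans h2)

/-- **Suzuki groups.** -/
theorem cycTI_sz (hp2 : p ≠ 2) {G : Type*} [Group G] [Finite G] (h : Lie.IsoSuzuki G) : CycTI p G := by
  by_cases hd : p ∣ Nat.card G
  · obtain ⟨T, hT, hTc, hc⟩ := H564.SzRee.sz_cyc h hp.out hp2 hd
    obtain ⟨⟨y, hyT⟩, hy⟩ := exists_prime_orderOf_dvd_card' p hT
    rw [Subgroup.orderOf_mk] at hy
    have hy1 : y ≠ 1 := by
      rintro rfl
      rw [orderOf_one] at hy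
      exact hp.out.one_lt.ne hy
    refine CycTI.of_centralizer hy fun a b ha hb => ?_
    have ha' : a ∈ T := hc y hyT hy1 (mem_centralizer_singleton_iff.2 ha)
    have hb' : b ∈ T := hc y hyT hy1 (mem_centralizer_singleton_iff.2 hb)
    have hcomm : IsMulCommutative ↥T := inferInstance
    exact congrArg Subtype.val (mul_comm' (⟨a, ha'⟩ : ↥T) ⟨b, hb'⟩)
  · exact of_not_dvd hd

theorem ree_aux (hp3 : 3 < p) {K : Type*} [Field K] [Fintype K] {m : ℕ} (hm : 1 ≤ m)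
    (hK : Fintype.card K = 3 ^ (2 * m + 1)) : CycTI p ↥(Cfsg.Lie.twistedG2 K (3 ^ m)) := by
  have hfin : Finite ↥(Cfsg.Lie.twistedG2 K (3 ^ m)) := inferInstance
  by_cases hd : p ∣ Nat.card ↥(Cfsg.Lie.twistedG2 K (3 ^ m))
  swap
  · exact of_not_dvd hd
  have hpp := hp.out
  have hodd : ¬ p ∣ 2 := fun h => absurd (Nat.le_of_dvd (by norm_num) h) (by omega)
  have hp3' : ¬ p ∣ 3 := fun h => absurd (Nat.le_of_dvd (by norm_num) h) (by omega)
  obtain ⟨y, hy⟩ := exists_prime_orderOf_dvd_card' p hd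
  -- the torus lemma for one of the four tori
  have key : ∀ k n : ℕ, (k, n) ∈ ({((3 ^ (2 * m + 1) - 1) / 2, 2 * (3 ^ (2 * m + 1) - 1)),
        ((3 ^ (2 * m + 1) + 1) / 4, 6 * (3 ^ (2 * m + 1) + 1)),
        (3 ^ (2 * m + 1) - 3 ^ (m + 1) + 1, 6 * (3 ^ (2 * m + 1) - 3 ^ (m + 1) + 1)),
        (3 ^ (2 * m + 1) + 3 ^ (m + 1) + 1, 6 * (3 ^ (2 * m + 1) + 3 ^ (m + 1) + 1))} : Set (ℕ × ℕ)) →
      n ∣ 24 * k → p ∣ k → CycTI p ↥(Cfsg.Lie.twistedG2 K (3 ^ m)) := by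
    intro k n hkn hn hpk
    obtain ⟨A, hA, hAk, hAn, hNN⟩ := Cfsg.Agent.S1158.result hm hK (k, n) hkn
    have hAk : Nat.card ↥A = k := hAk
    have hAn : Nat.card ↥(normalizer (A : Set ↥(Cfsg.Lie.twistedG2 K (3 ^ m)))) = n := hAn
    refine CycTI.of_torus A hA (by rw [hAk]; exact hpk) ?_ hNN
    intro h1
    have h2 : Nat.card ↥A * A.relIndex (normalizer (A : Set ↥(Cfsg.Lie.twistedG2 K (3 ^ m)))) = n := by
      rw [← hAn]
      have h3 := Subgroup.relIndex_mul_relIndex ⊥ A _ bot_le (le_normalizer (H := A))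
      rwa [Subgroup.relIndex_bot_left, Subgroup.relIndex_bot_left] at h3
    rw [hAk] at h2
    have hk0 : 0 < k := by
      rcases Nat.eq_zero_or_pos k with h3 | h3
      · rw [← hAk] at h3
        exact absurd h3 Nat.card_pos.ne'
      · exact h3
    have h3 : A.relIndex (normalizer (A : Set ↥(Cfsg.Lie.twistedG2 K (3 ^ m)))) ∣ 24 := by
      have h4 : k * A.relIndex (normalizer (A : Set ↥(Cfsg.Lie.twistedG2 K (3 ^ m)))) ∣ k * 24 := by
        rw [h2, mul_comm k 24]; exact hn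
      exact Nat.dvd_of_mul_dvd_mul_left hk0 h4
    have h4 : p ∣ 24 := h1.trans h3
    have h5 : p ∣ 2 ^ 3 * 3 := h4
    rcases hpp.dvd_mul.1 h5 with h6 | h6
    · exact hodd (hpp.dvd_of_dvd_pow h6)
    · exact hp3' h6
  have h27 : 27 ≤ 3 ^ (2 * m + 1) := by
    calc 27 = 3 ^ 3 := by norm_num
      _ ≤ 3 ^ (2 * m + 1) := Nat.pow_le_pow_right (by norm_num) (by omega)
  have h4 : 3 ^ (2 * m + 1) % 4 = 3 := by
    rw [pow_succ, pow_mul, Nat.mul_mod, Nat.pow_mod]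
    norm_num
  rcases (Cfsg.Agent.S1159.result hm hK p).1 ⟨y, hy⟩ with h | h | h | h | h | h
  · exfalso
    have h5 : p ∣ 2 * 3 := h
    rcases hpp.dvd_mul.1 h5 with h6 | h6
    · exact hodd h6
    · exact hp3' h6
  · exfalso
    have h5 : p ∣ 3 ^ 2 := h
    exact hp3' (hpp.dvd_of_dvd_pow h5)
  · refine key _ _ (Or.inl rfl) ?_ ?_
    · have h5 : 3 ^ (2 * m + 1) - 1 = 2 * ((3 ^ (2 * m + 1) - 1) / 2) := by omega
      exact ⟨6, by omega⟩
    · have h5 : p ∣ 2 * ((3 ^ (2 * m + 1) - 1) / 2) := by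
        have h6 : 2 * ((3 ^ (2 * m + 1) - 1) / 2) = 3 ^ (2 * m + 1) - 1 := by omega
        rwa [h6]
      exact (hpp.dvd_mul.1 h5).resolve_left hodd
  · refine key _ _ (Or.inr (Or.inl rfl)) ?_ ?_
    · have h5 : 3 ^ (2 * m + 1) + 1 = 4 * ((3 ^ (2 * m + 1) + 1) / 4) := by omega
      exact ⟨1, by omega⟩
    · have h5 : p ∣ 2 * ((3 ^ (2 * m + 1) + 1) / 4) := by
        have h6 : 2 * ((3 ^ (2 * m + 1) + 1) / 4) = (3 ^ (2 * m + 1) + 1) / 2 := by omega
        rwa [h6]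
      exact (hpp.dvd_mul.1 h5).resolve_left hodd
  · exact key _ _ (Or.inr (Or.inr (Or.inl rfl))) ⟨4, by ring⟩ h
  · exact key _ _ (Or.inr (Or.inr (Or.inr rfl))) ⟨4, by ring⟩ h

/-- **Small Ree groups**, `p > 3`. -/
theorem cycTI_ree (hp3 : 3 < p) {G : Type*} [Group G] (h : Lie.IsoRee G) : CycTI p G := by
  obtain ⟨K, _, _, m, hm, hK, ⟨e⟩⟩ := h
  exact (ree_aux hp3 hm hK).congr e.symm

theorem row_ree (hp2 : p ≠ 2) {G : Type*} [Group G] (h : Lie.IsoRee G) : IsLieTypeChar p G ∨ CycTI p G := by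
  by_cases h3 : p = 3
  · subst h3
    exact Or.inl (Or.inr (Or.inr (Or.inr (Or.inr (Or.inr (Or.inr (Or.inr (Or.inr (Or.inr (Or.inr ⟨rfl, h⟩))))))))))
  · refine Or.inr (cycTI_ree ?_ h)
    have := hp.out.two_le
    omega

end Cfsg.Agent.H123.SzRee
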