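import Cfsg.Agent.H123.SpAll
import Cfsg.Agent.H123.ClassRows
import Cfsg.Agent.H123.ExcRows
import Cfsg.Agent.H123.SzRee
import Cfsg.Agent.H123.CycFull
import Cfsg.Agent.H42.Tw.F4Asm
import Cfsg.Agent.SmallSimple.EvenOrder
import Cfsg.Agent.H124.SplitNC
import Cfsg.Prelude.Def_Classification2

/-!
# Assembly of S2348
-/

set_option autoImplicit false
set_option linter.unusedSectionVars false

universe u

namespace Cfsg.Agent.H123.Asm

open Cfsg.Agent.H123.SpNC

variable {p : ℕ} [hp : Fact p.Prime] {G : Type u} [Group G] [Finite G]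

/-- the missing rows -/
structure Missing (p : ℕ) : Prop where
  psl : ∀ {F : Type} [Field F] [Fintype F] {n : ℕ}, 3 ≤ n → p ∣ Fintype.card F - 1 →
      NC p (Matrix.ProjectiveSpecialLinearGroup (Fin n) F)
  psu : ∀ {F : Type} [Field F] [Fintype F] {n q : ℕ}, Fintype.card F = q ^ 2 → 3 ≤ n →
      p ∣ q + 1 → NC p (Cfsg.PSU n F q)

theorem known (hp2 : p ≠ 2) (M : Missing p) [IsSimpleGroup G] (hG : ¬ IsMulCommutative G)
    (h : IsKnownSimple' G) : CycTI p G := by
  have key : (IsLieTypeChar p G ∨ CycTI p G) → CycTI p G := by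
    rintro (h | h)
    · exact CycFull.defChar hp2 hG h
    · exact h
  rcases h with h | h | h | h | h | h | h | h | h | h
  · exfalso
    apply hG
    have : Fact (Nat.card G).Prime := ⟨h⟩
    have : IsCyclic G := isCyclic_of_prime_card rfl
    infer_instance
  · exact CycFull.alt hp2 h
  · exact key (ClassRows.row_psl hp2 M.psl h)
  · exact key (ClassRows.row_psp hp2 h)
  · exact key (ClassRows.row_psu hp2 M.psu h)
  · exact key (ClassRows.row_odd hp2 h)
  · exact key (ClassRows.row_plus hp2 h)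
  · exact key (ClassRows.row_minus hp2 h)
  · rcases h with h | h | h | h | h | h | h | h | h | h | h
    · exact key (ExcRows.row_g2 hp2 h)
    · exact key (ExcRows.row_f4 hp2 h)
    · exact key (ExcRows.row_e6 hp2 h)
    · exact key (ExcRows.row_e7 hp2 h)
    · exact key (ExcRows.row_e8 hp2 h)
    · exact key (ExcRows.row_twE6 hp2 h)
    · exact key (ExcRows.row_triD4 hp2 h)
    · exact SzRee.cycTI_sz hp2 h
    · exact key (SzRee.row_ree hp2 h)
    · exact CycTI.of_fix (Cfsg.Agent.H42.Tw.normOm_twF4 h hp2)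
    · exact SpAll.cycTI_of_or (SpAll.tits hp2 h)
  · exact SpAll.cycTI_of_or (SpAll.spor hp2 h)

theorem missing (hp2 : p ≠ 2) : Missing p :=
  ⟨fun hn h => H124.SplitNC.psl hp2 hn h, fun hF hn h => H124.SplitNC.psu hF hp2 hn h⟩

theorem main [IsSimpleGroup G] (hG : ¬ IsMulCommutative G) (h : IsKnownSimple' G) : CycTI p G := by
  by_cases hp2 : p = 2
  · subst hp2
    by_cases h2 : 2 ∣ Nat.card G
    · exact CycTI.of_not_isCyclic fun T => SmallSimple.EvenOrder.not_isCyclic_sylow_two hG h2 T
    · exact SzRee.of_not_dvd h2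
  · exact known hp2 (missing hp2) hG h

end Cfsg.Agent.H123.Asm
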