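import Cfsg.Agent.H123.CycFull
import Cfsg.Agent.H121.Cyc.Sq

/-!
# Defining characteristic: a cyclic Sylow subgroup has order `p`
-/

set_option autoImplicit false
set_option linter.unusedSectionVars false

namespace Cfsg.Agent.H123.CycDef

open Subgroup Cfsg

variable {p : ℕ} [hp : Fact p.Prime]

theorem card_of_full {G : Type*} [Group G] [Finite G] (h : H794.Full p G) (P : Sylow p G)
    (hP : IsCyclic ↥(P : Subgroup G)) : Nat.card ↥(P : Subgroup G) ∣ p := by
  by_cases h1 : Nat.card ↥(P : Subgroup G) = 1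
  · rw [h1]; exact one_dvd _
  obtain ⟨n, hn⟩ := IsPGroup.iff_card.1 P.2
  have hn0 : n ≠ 0 := by
    rintro rfl
    exact h1 (by rw [hn, pow_zero])
  obtain ⟨s, hs⟩ := exists_prime_orderOf_dvd_card' (G := ↥(P : Subgroup G)) p (by rw [hn]; exact dvd_pow_self p hn0)
  have hso : orderOf (s : G) = p := by rw [Subgroup.orderOf_coe, hs]
  have hsp : (s : G) ^ p = 1 := by
    have h0 := pow_orderOf_eq_one (s : G)
    rwa [hso] at h0
  have hs1 : (s : G) ≠ 1 := by
    intro h0
    rw [h0, orderOf_one] at hso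
    exact hp.out.one_lt.ne hso
  have hsc : IsStronglyClosed (zpowers (s : G)) (P : Subgroup G) := by
    refine ⟨by rw [zpowers_le]; exact s.2, ?_⟩
    rintro _ ⟨i, rfl⟩ g hg
    refine mem_of_cyclic P.2 hP (Q := zpowers (s : G)) ?_ ?_ hg ?_
    · rw [zpowers_le]; exact s.2
    · rwa [Ne, zpowers_eq_bot]
    · show (g * (s : G) ^ i * g⁻¹) ^ p = 1
      rw [conj_pow]
      have h1 : ((s : G) ^ i) ^ p = 1 := by
        rw [← zpow_natCast, ← zpow_mul, mul_comm, zpow_mul, zpow_natCast, hsp, one_zpow]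
      rw [h1, mul_one, mul_inv_cancel]
  rcases h P _ hsc with h2 | h2
  · rw [zpowers_eq_bot] at h2
    exact absurd h2 hs1
  · rw [← h2, Nat.card_zpowers, hso]

/-- **In the defining characteristic a cyclic Sylow `p`-subgroup has order `p`.** -/
theorem card_dvd (hp2 : p ≠ 2) {G : Type*} [Group G] [Finite G] [IsSimpleGroup G] (hG : ¬ IsMulCommutative G)
    (h : IsLieTypeChar p G) (P : Sylow p G) (hP : IsCyclic ↥(P : Subgroup G)) : Nat.card ↥(P : Subgroup G) ∣ p := by
  rcases H794.DefAb.def_row hp2 hG h with h1 | ⟨-, ⟨F, _, _, _, q, hF, -, ⟨e⟩⟩ | ⟨rfl, h1⟩⟩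
  · exact card_of_full h1 P hP
  · have : Finite (PSU 3 F q) := Quotient.finite _
    have h2 := H800.Sp.NotAb.of_mulEquiv e.symm (H794.PsuNotAb.notAb hF le_rfl)
    exact absurd (inferInstance : IsMulCommutative ↥(P : Subgroup G)) (h2 P)
  · have h2 := H794.DefAb.notAb_ree h1
    exact absurd (inferInstance : IsMulCommutative ↥(P : Subgroup G)) (h2 P)

theorem rowS (hp2 : p ≠ 2) {G : Type*} [Group G] [Finite G] [IsSimpleGroup G] (hG : ¬ IsMulCommutative G)
    (h : IsLieTypeChar p G) : H121.Cyc.RowS p G := by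
  intro P hP hd
  exfalso
  have h1 := Nat.le_of_dvd hp.out.pos (hd.trans (card_dvd hp2 hG h P hP))
  have h2 := hp.out.one_lt
  nlinarith

end Cfsg.Agent.H123.CycDef
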