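import Cfsg.Agent.H123.NCBase

/-!
# A central element of order `p` and a cyclic Sylow `p`-subgroup

* `norm_le_cent` : then `N(Q) ≤ C(Q)` (so there is a normal `p`-complement);
* `nc_of_involution` : a numerical criterion for noncyclic Sylow `p`-subgroups.
-/

set_option autoImplicit false
set_option linter.unusedSectionVars false

universe u v

namespace Cfsg.Agent.H123.SpNC

open Subgroup Cfsg.Agent.H800.Sp Cfsg.Agent.H123

section

variable {p : ℕ} [hp : Fact p.Prime] {C : Type*} [Group C] [Finite C]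

theorem mem_of_normalizes (Q : Sylow p C) {n : C} (hn : n ∈ normalizer ((Q : Subgroup C) : Set C)) {s : ℕ}
    (hs : n ^ p ^ s = 1) : n ∈ Q := by
  have h1 : IsPGroup p ↥(zpowers n) := by
    obtain ⟨m, hm, hm'⟩ := (Nat.dvd_prime_pow hp.out).1 (orderOf_dvd_of_pow_eq_one hs)
    exact IsPGroup.of_card (n := m) (by rw [Nat.card_zpowers, hm'])
  have h2 : IsPGroup p ↥(zpowers n ⊔ (Q : Subgroup C)) :=
    h1.to_sup_of_normal_right' Q.2 (by rwa [zpowers_le])
  have h3 := Q.3 h2 le_sup_right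
  have h4 : n ∈ zpowers n ⊔ (Q : Subgroup C) := mem_sup_left (mem_zpowers n)
  rw [h3] at h4
  exact h4

/-- A central element of order `p`, the Sylow `p`-subgroup `Q` cyclic: `N(Q) ≤ C(Q)`. -/
theorem norm_le_cent (Q : Sylow p C) (hQ : IsCyclic ↥(Q : Subgroup C)) {x : C} (hx : orderOf x = p)
    (hxZ : ∀ c : C, c * x = x * c) :
    normalizer ((Q : Subgroup C) : Set C) ≤ centralizer ((Q : Subgroup C) : Set C) := by
  intro n hn
  have hxp : x ^ p ^ 1 = 1 := by rw [pow_one, ← hx, pow_orderOf_eq_one]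
  have hxQ : x ∈ Q := by
    refine mem_of_normalizes Q ?_ hxp
    rw [mem_normalizer_iff]
    intro c
    rw [← hxZ c, mul_inv_cancel_right]
  obtain ⟨⟨g, hg⟩, hgen⟩ := hQ.exists_generator
  obtain ⟨b, hb⟩ := hgen ⟨x, hxQ⟩
  have hb' : g ^ b = x := congrArg Subtype.val hb
  have hng : n * g * n⁻¹ ∈ (Q : Subgroup C) := (mem_normalizer_iff.1 hn g).1 hg
  obtain ⟨a, ha⟩ := hgen ⟨n * g * n⁻¹, hng⟩
  have ha' : g ^ a = n * g * n⁻¹ := congrArg Subtype.val ha
  -- the order of `g`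
  obtain ⟨k, hk⟩ := (IsPGroup.iff_orderOf.1 Q.2) ⟨g, hg⟩
  rw [Subgroup.orderOf_mk] at hk
  have h1 : g ^ (a * b) = g ^ b := by
    rw [zpow_mul, ha', conj_zpow, hb', hxZ n, mul_inv_cancel_right]
  have h2 : (p : ℤ) ∣ a - 1 := by
    by_contra hcon
    have h3 : ((orderOf g : ℕ) : ℤ) ∣ (a - 1) * b := by
      rw [orderOf_dvd_iff_zpow_eq_one, sub_mul, one_mul, zpow_sub, h1, mul_inv_cancel]
    have h4 : IsCoprime ((orderOf g : ℕ) : ℤ) (a - 1) := by
      rw [hk]
      push_cast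
      exact IsCoprime.pow_left ((Prime.coprime_iff_not_dvd (Nat.prime_iff_prime_int.1 hp.out)).2 hcon)
    have h5 := h4.dvd_of_dvd_mul_left h3
    have h6 : x = 1 := by rw [← hb']; exact orderOf_dvd_iff_zpow_eq_one.1 h5
    rw [h6, orderOf_one] at hx
    exact hp.out.one_lt.ne hx
  have h3 : ((orderOf g : ℕ) : ℤ) ∣ a ^ p ^ k - 1 := by
    have h4 := dvd_sub_pow_of_dvd_sub h2 k
    rw [one_pow] at h4
    rw [hk]
    push_cast
    exact (pow_dvd_pow _ (Nat.le_succ k)).trans h4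
  have hpow : ∀ j : ℕ, n ^ j * g * (n ^ j)⁻¹ = g ^ (a ^ j) := by
    intro j
    induction j with
    | zero => simp
    | succ j ih =>
      have e : n ^ (j + 1) * g * (n ^ (j + 1))⁻¹ = n * (n ^ j * g * (n ^ j)⁻¹) * n⁻¹ := by
        rw [pow_succ']; group
      rw [e, ih, ← conj_zpow, ← ha', ← zpow_mul, ← pow_succ']
  have c1 : Commute (n ^ p ^ k) g := by
    have h4 := hpow (p ^ k)
    have h5 : g ^ (a ^ p ^ k) = g := by
      have h6 : g ^ (a ^ p ^ k - 1) = 1 := orderOf_dvd_iff_zpow_eq_one.1 h3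
      rw [zpow_sub, zpow_one, mul_inv_eq_one] at h6
      exact h6
    rw [h5, mul_inv_eq_iff_eq_mul] at h4
    exact h4
  obtain ⟨s, t, ht, hst⟩ := Nat.exists_eq_pow_mul_and_not_dvd (n := orderOf n) (orderOf_pos n).ne' p hp.out.ne_one
  have c2 : Commute (n ^ t) g := by
    have h4 : n ^ t ∈ Q := by
      refine mem_of_normalizes Q (s := s) (pow_mem hn t) ?_
      rw [← pow_mul, mul_comm, ← hst, pow_orderOf_eq_one]
    have h5 : (⟨n ^ t, h4⟩ : ↥(Q : Subgroup C)) * ⟨g, hg⟩ = ⟨g, hg⟩ * ⟨n ^ t, h4⟩ := mul_comm' _ _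
    exact congrArg Subtype.val h5
  have c3 : Commute n g := by
    have h4 : IsCoprime ((p ^ k : ℕ) : ℤ) (t : ℤ) := by
      push_cast
      refine IsCoprime.pow_left ((Prime.coprime_iff_not_dvd (Nat.prime_iff_prime_int.1 hp.out)).2 ?_)
      exact_mod_cast ht
    obtain ⟨u, v, huv⟩ := h4
    have h5 : n = (n ^ p ^ k) ^ u * (n ^ t) ^ v := by
      conv_lhs => rw [← zpow_one n, ← huv]
      rw [zpow_add, mul_comm u, mul_comm v, zpow_mul, zpow_mul, zpow_natCast, zpow_natCast]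
    rw [h5]
    exact (c1.zpow_left u).mul_left (c2.zpow_left v)
  rw [mem_centralizer_iff]
  intro y hy
  obtain ⟨i, hi⟩ := hgen ⟨y, hy⟩
  have hi' : g ^ i = y := congrArg Subtype.val hi
  rw [← hi']
  exact (c3.zpow_right i).eq.symm

/-- an element of the centre of the group `C` of order `p`, `Q` cyclic, `p²` divides the order of `Q`, `z` an
involution: a `2`-subgroup `Z` centralising `z` on which a `p`-element `y` with `p² ∣ o(y)` acts, `y ≠ 1` fixing only the
elements `w` which commute with it. -/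
theorem exists_two_group (hp2 : p ≠ 2) (Q : Sylow p C) (hQ : IsCyclic ↥(Q : Subgroup C)) {x : C} (hx : orderOf x = p)
    (hxZ : ∀ c : C, c * x = x * c) (hd : p ^ 2 ∣ Nat.card C) {z : C} (hz : orderOf z = 2) :
    ∃ (Z : Subgroup C) (y : C), IsPGroup 2 ↥Z ∧ Z ≠ ⊥ ∧ (∀ w ∈ Z, w * z = z * w) ∧ (∀ w, w ∈ Z ↔ y * w * y⁻¹ ∈ Z) ∧
      p ^ 2 ∣ orderOf y ∧ ∃ k, orderOf y = p ^ k := by
  have h2 : Fact (Nat.Prime 2) := ⟨Nat.prime_two⟩
  have hnc := norm_le_cent Q hQ hx hxZ
  set K := (MonoidHom.transferSylow Q hnc).ker with hK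
  have hcompl : IsComplement' K (Q : Subgroup C) := MonoidHom.ker_transferSylow_isComplement' Q hnc
  have hzK : z ∈ K := by
    rw [hK, MonoidHom.mem_ker]
    obtain ⟨m, hm⟩ := (IsPGroup.iff_orderOf.1 Q.2) (MonoidHom.transferSylow Q hnc z)
    have h3 : orderOf (MonoidHom.transferSylow Q hnc z) ∣ 2 := by
      rw [← hz]
      exact orderOf_map_dvd _ z
    rw [hm] at h3
    have h4 : p ^ m = 1 := by
      rcases (Nat.dvd_prime Nat.prime_two).1 h3 with h5 | h5
      · exact h5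
      · exfalso
        rcases Nat.eq_zero_or_pos m with rfl | hm0
        · rw [pow_zero] at h5; omega
        · have h6 : p ∣ 2 := by rw [← h5]; exact dvd_pow_self p hm0.ne'
          exact hp2 ((Nat.prime_dvd_prime_iff_eq hp.out Nat.prime_two).1 h6)
    rw [h4] at hm
    exact orderOf_eq_one_iff.1 hm
  -- a Sylow `2`-subgroup of `K` containing `z`
  obtain ⟨T, hT⟩ := (IsPGroup.of_card (p := 2) (n := 1) (G := ↥(zpowers (⟨z, hzK⟩ : ↥K)))
    (by rw [Nat.card_zpowers, Subgroup.orderOf_mk, hz, pow_one])).exists_le_sylow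
  have hzT : (⟨z, hzK⟩ : ↥K) ∈ T := hT (mem_zpowers _)
  set N := normalizer (((T : Subgroup K).map K.subtype : Subgroup C) : Set C) with hN
  have hFr : N ⊔ K = ⊤ := T.normalizer_sup_eq_top
  -- `|Q|` divides `|N|`
  have hcop : ¬ p ∣ Nat.card ↥K := MonoidHom.not_dvd_card_ker_transferSylow Q hnc
  have hidx : ¬ p ∣ N.index := by
    rintro ⟨c, hc⟩
    apply hcop
    have h3 : Nat.card ↥(Q : Subgroup C) ∣ Nat.card ↥N := by
      have h4 : K.relIndex N = K.index := by
        rw [← Subgroup.relIndex_sup_right N K, hFr, Subgroup.relIndex_top_right]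
      rw [← hcompl.symm.index_eq_card, ← h4]
      exact Subgroup.relIndex_dvd_card K N
    obtain ⟨d, hd'⟩ := h3
    have h5 := Subgroup.card_mul_index N
    have h6 := hcompl.card_mul_card
    rw [hd', hc, ← h6, mul_comm (Nat.card ↥K), mul_assoc] at h5
    have h7 := Nat.eq_of_mul_eq_mul_left Nat.card_pos h5
    exact ⟨d * c, by rw [← h7]; ring⟩
  obtain ⟨Q', hQ'⟩ : ∃ Q' : Sylow p C, (Q' : Subgroup C) ≤ N := by
    obtain ⟨R⟩ : Nonempty (Sylow p ↥N) := inferInstance
    have hR : Nat.card ↥(R : Subgroup N) = Nat.card ↥(Q : Subgroup C) := by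
      rw [R.card_eq_multiplicity, Q.card_eq_multiplicity]
      congr 1
      have h3 := Subgroup.card_mul_index N
      have h4 : (Nat.card C).factorization p = (Nat.card ↥N).factorization p + N.index.factorization p := by
        rw [← h3, Nat.factorization_mul Nat.card_pos.ne' Subgroup.index_ne_zero_of_finite]
        rfl
      rw [h4, Nat.factorization_eq_zero_of_not_dvd hidx, add_zero]
    have h5 : Nat.card ↥((R : Subgroup N).map N.subtype) = Nat.card ↥(Q : Subgroup C) := by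
      rw [← hR]
      exact Nat.card_congr ((R : Subgroup N).equivMapOfInjective _ N.subtype_injective).toEquiv.symm
    refine ⟨Sylow.ofCard ((R : Subgroup N).map N.subtype) (by rw [h5, Q.card_eq_multiplicity]), ?_⟩
    rintro _ ⟨r, -, rfl⟩
    exact r.2
  have e : ↥(Q : Subgroup C) ≃* ↥(Q' : Subgroup C) := Q.equiv Q'
  have hQc : IsCyclic ↥(Q' : Subgroup C) := isCyclic_of_surjective e.toMonoidHom e.surjective
  obtain ⟨⟨y, hy⟩, hgen⟩ := hQc.exists_generator
  have hyo : orderOf y = Nat.card ↥(Q' : Subgroup C) := by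
    rw [← orderOf_eq_card_of_forall_mem_zpowers hgen, Subgroup.orderOf_mk]
  have hyN := hQ' hy
  refine ⟨(center ↥((T : Subgroup K).map K.subtype)).map ((T : Subgroup K).map K.subtype).subtype, y, ?_, ?_, ?_, ?_, ?_,
    ?_⟩
  · exact (IsPGroup.to_subgroup (T.2.map K.subtype) _).map _
  · intro h0
    rw [Subgroup.map_eq_bot_iff_of_injective _ (Subgroup.subtype_injective _)] at h0
    have h3 : IsPGroup 2 ↥((T : Subgroup K).map K.subtype) := T.2.map K.subtype
    have h4 : Nontrivial ↥((T : Subgroup K).map K.subtype) := by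
      refine ⟨⟨⟨z, ⟨⟨z, hzK⟩, hzT, rfl⟩⟩, 1, ?_⟩⟩
      intro h5
      have h6 : z = 1 := congrArg Subtype.val h5
      rw [h6, orderOf_one] at hz
      omega
    have h5 := h3.center_nontrivial
    rw [h0] at h5
    exact not_nontrivial _ h5
  · rintro _ ⟨w, hw, rfl⟩
    have h3 := mem_center_iff.1 hw ⟨z, ⟨⟨z, hzK⟩, hzT, rfl⟩⟩
    exact (congrArg Subtype.val h3).symm
  · have key : ∀ (n : C), n ∈ N → ∀ w, w ∈ (center ↥((T : Subgroup K).map K.subtype)).map
        ((T : Subgroup K).map K.subtype).subtype → n * w * n⁻¹ ∈ (center ↥((T : Subgroup K).map K.subtype)).map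
        ((T : Subgroup K).map K.subtype).subtype := by
      rintro n hn _ ⟨w, hw, rfl⟩
      have h3 : n * w * n⁻¹ ∈ (T : Subgroup K).map K.subtype := (mem_normalizer_iff.1 hn w).1 w.2
      refine ⟨⟨_, h3⟩, ?_, rfl⟩
      rw [SetLike.mem_coe, mem_center_iff]
      rintro ⟨t, ht⟩
      have h4 : n⁻¹ * t * n ∈ (T : Subgroup K).map K.subtype := by
        have := (mem_normalizer_iff.1 (inv_mem hn) t).1 ht
        rwa [inv_inv] at this
      have h5 := congrArg Subtype.val (mem_center_iff.1 hw ⟨_, h4⟩)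
      have h6 : n⁻¹ * t * n * w = w * (n⁻¹ * t * n) := h5
      apply Subtype.ext
      show t * (n * w * n⁻¹) = n * w * n⁻¹ * t
      calc t * (n * w * n⁻¹) = n * (n⁻¹ * t * n * w) * n⁻¹ := by group
        _ = n * (w * (n⁻¹ * t * n)) * n⁻¹ := by rw [h6]
        _ = _ := by group
    intro w
    constructor
    · exact key y hyN w
    · intro hw
      have h3 := key y⁻¹ (inv_mem hyN) _ hw
      have h4 : y⁻¹ * (y * w * y⁻¹) * y⁻¹⁻¹ = w := by group
      rwa [h4] at h3
  · rw [hyo]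
    exact Q'.pow_dvd_card_of_pow_dvd_card hd
  · rw [hyo]
    exact IsPGroup.iff_card.1 Q'.2

/-- **The numerical criterion.** -/
theorem nc_of_involution (hp2 : p ≠ 2) {x z : C} (hx : orderOf x = p) (hz : orderOf z = 2) (hzx : z * x = x * z)
    (hd : p ^ 2 ∣ Nat.card C)
    (hv : ∀ v : C, orderOf v = 2 → ¬ p ^ 2 ∣ Nat.card ↥(centralizer ({v} : Set C))) {N : ℕ}
    (hN : Nat.card ↥(centralizer ({z} : Set C) ⊓ centralizer ({x} : Set C)) ≤ N)
    (h2 : ∀ m, m ≠ 0 → p ∣ 2 ^ m - 1 → N < p * 2 ^ m) : NC p C := by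
  have hf2 : Fact (Nat.Prime 2) := ⟨Nat.prime_two⟩
  intro P hP
  -- a Sylow subgroup containing `x`
  obtain ⟨P', hP'⟩ := (IsPGroup.of_card (p := p) (n := 1) (G := ↥(zpowers x))
    (by rw [Nat.card_zpowers, hx, pow_one])).exists_le_sylow
  have e : ↥(P : Subgroup C) ≃* ↥(P' : Subgroup C) := P.equiv P'
  have hPc : IsCyclic ↥(P' : Subgroup C) := isCyclic_of_surjective e.toMonoidHom e.surjective
  have hxP : x ∈ P' := hP' (mem_zpowers x)
  set D := centralizer ({x} : Set C) with hD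
  have hPD : (P' : Subgroup C) ≤ D := by
    intro y hy
    rw [hD, mem_centralizer_singleton_iff]
    have h3 : (⟨y, hy⟩ : ↥(P' : Subgroup C)) * ⟨x, hxP⟩ = ⟨x, hxP⟩ * ⟨y, hy⟩ := mul_comm' _ _
    exact congrArg Subtype.val h3
  have hxD : x ∈ D := hPD hxP
  have hzD : z ∈ D := mem_centralizer_singleton_iff.2 hzx
  have hdD : p ^ 2 ∣ Nat.card ↥D := (P'.pow_dvd_card_of_pow_dvd_card hd).trans (Subgroup.card_dvd_of_le hPD)
  have hQc : IsCyclic ↥((P'.subtype hPD : Sylow p ↥D) : Subgroup ↥D) := by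
    have h3 : Function.Injective (fun y : ↥((P'.subtype hPD : Sylow p ↥D) : Subgroup ↥D) =>
        (⟨((y : ↥D) : C), y.2⟩ : ↥(P' : Subgroup C))) := by
      intro a b hab
      have h5 : ((a : ↥D) : C) = ((b : ↥D) : C) := congrArg (fun w : ↥(P' : Subgroup C) => (w : C)) hab
      exact Subtype.ext (Subtype.ext h5)
    exact isCyclic_of_injective
      ({ toFun := fun y => ⟨((y : ↥D) : C), y.2⟩, map_one' := rfl, map_mul' := fun _ _ => rfl } :
        ↥((P'.subtype hPD : Sylow p ↥D) : Subgroup ↥D) →* ↥(P' : Subgroup C)) h3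
  obtain ⟨Z, y, hZ2, hZ1, hZz, hyZ, hyp, k, hk⟩ := exists_two_group hp2 (P'.subtype hPD) hQc (x := ⟨x, hxD⟩)
    (by rw [Subgroup.orderOf_mk, hx]) (fun c => Subtype.ext (mem_centralizer_singleton_iff.1 c.2)) hdD
    (z := ⟨z, hzD⟩) (by rw [Subgroup.orderOf_mk, hz])
  -- the action of `⟨y⟩` on `Z`
  have hyZ' : ∀ a ∈ zpowers y, ∀ w ∈ Z, a * w * a⁻¹ ∈ Z := by
    intro a ha w hw
    have h3 : zpowers y ≤ normalizer (Z : Set ↥D) := by
      rw [zpowers_le, mem_normalizer_iff]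
      exact hyZ
    exact (mem_normalizer_iff.1 (h3 ha) w).1 hw
  let act : MulAction ↥(zpowers y) ↥Z :=
    { smul := fun a w => ⟨a * w * (a : ↥D)⁻¹, hyZ' a a.2 w w.2⟩
      one_smul := fun w => Subtype.ext (by
        show ((1 : ↥(zpowers y)) : ↥D) * w * ((1 : ↥(zpowers y)) : ↥D)⁻¹ = w
        simp)
      mul_smul := fun a b w => Subtype.ext (by
        show ((a * b : ↥(zpowers y)) : ↥D) * w * ((a * b : ↥(zpowers y)) : ↥D)⁻¹ =
          a * (b * w * (b : ↥D)⁻¹) * (a : ↥D)⁻¹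
        push_cast
        group) }
  have hyg : IsPGroup p ↥(zpowers y) := IsPGroup.of_card (n := k) (by rw [Nat.card_zpowers, hk])
  have hmod := hyg.card_modEq_card_fixedPoints ↥Z
  have hfix : Nat.card ↥(MulAction.fixedPoints ↥(zpowers y) ↥Z) = 1 := by
    rw [Nat.card_eq_one_iff_unique]
    refine ⟨⟨?_⟩, ⟨⟨1, ?_⟩⟩⟩
    · have key : ∀ w : ↥(MulAction.fixedPoints ↥(zpowers y) ↥Z), (w : ↥Z) = 1 := by
        rintro ⟨w, hw⟩
        by_contra hw1
        have hw1' : (w : ↥Z) ≠ 1 := hw1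
        have h3 : y * (w : ↥D) * y⁻¹ = w := congrArg Subtype.val (hw ⟨y, mem_zpowers y⟩)
        obtain ⟨m, hm⟩ := (IsPGroup.iff_orderOf.1 hZ2) w
        obtain ⟨v, hv2, hvm⟩ : ∃ v : ↥D, orderOf v = 2 ∧ v ∈ zpowers ((w : ↥D)) := by
          have h4 : 2 ∣ orderOf (w : ↥D) := by
            rw [Subgroup.orderOf_coe, hm]
            refine dvd_pow_self 2 ?_
            rintro rfl
            rw [pow_zero] at hm
            exact hw1' (orderOf_eq_one_iff.1 hm)
          refine ⟨(w : ↥D) ^ (orderOf (w : ↥D) / 2), ?_, npow_mem_zpowers _ _⟩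
          exact orderOf_pow_orderOf_div (orderOf_pos _).ne' h4
        have h5 : Commute y v := by
          obtain ⟨i, rfl⟩ := hvm
          have h6 : Commute y (w : ↥D) := mul_inv_eq_iff_eq_mul.1 h3
          exact h6.zpow_right i
        refine hv (v : C) (by rw [Subgroup.orderOf_coe, hv2]) ?_
        have h6 : (y : C) ∈ centralizer ({(v : C)} : Set C) :=
          mem_centralizer_singleton_iff.2 (congrArg Subtype.val h5.eq)
        have h7 : orderOf (y : C) ∣ Nat.card ↥(centralizer ({(v : C)} : Set C)) := by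
          have := orderOf_dvd_natCard (⟨(y : C), h6⟩ : ↥(centralizer ({(v : C)} : Set C)))
          rwa [Subgroup.orderOf_mk] at this
        rw [Subgroup.orderOf_coe] at h7
        exact hyp.trans h7
      intro a b
      exact Subtype.ext ((key a).trans (key b).symm)
    · rintro ⟨a, ha⟩
      exact Subtype.ext (by show a * ((1 : ↥Z) : ↥D) * a⁻¹ = ((1 : ↥Z) : ↥D); simp)
  rw [hfix] at hmod
  obtain ⟨m, hm⟩ := IsPGroup.iff_card.1 hZ2
  have hm0 : m ≠ 0 := by
    rintro rfl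
    rw [pow_zero] at hm
    exact hZ1 (Subgroup.card_eq_one.1 hm)
  have hdiv : p ∣ 2 ^ m - 1 := by
    rw [hm] at hmod
    exact (Nat.modEq_iff_dvd' Nat.one_le_two_pow).1 hmod.symm
  have hlt := h2 m hm0 hdiv
  -- the order of `C(z) ⊓ C(x)`
  have h3 : 2 ^ m ∣ Nat.card ↥(centralizer ({z} : Set C) ⊓ centralizer ({x} : Set C)) := by
    have h4 : Z.map D.subtype ≤ centralizer ({z} : Set C) ⊓ centralizer ({x} : Set C) := by
      rintro _ ⟨w, hw, rfl⟩
      refine ⟨mem_centralizer_singleton_iff.2 (congrArg Subtype.val (hZz w hw)), w.2⟩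
    rw [← hm, Nat.card_congr (Z.equivMapOfInjective D.subtype D.subtype_injective).toEquiv]
    exact Subgroup.card_dvd_of_le h4
  have h4 : p ∣ Nat.card ↥(centralizer ({z} : Set C) ⊓ centralizer ({x} : Set C)) := by
    have h5 : x ∈ centralizer ({z} : Set C) ⊓ centralizer ({x} : Set C) :=
      ⟨mem_centralizer_singleton_iff.2 hzx.symm, hxD⟩
    have h6 := orderOf_dvd_natCard (⟨x, h5⟩ : ↥(centralizer ({z} : Set C) ⊓ centralizer ({x} : Set C)))
    rwa [Subgroup.orderOf_mk, hx] at h6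
  have h5 : p * 2 ^ m ∣ Nat.card ↥(centralizer ({z} : Set C) ⊓ centralizer ({x} : Set C)) := by
    refine Nat.Coprime.mul_dvd_of_dvd_of_dvd ?_ h4 h3
    refine Nat.Coprime.pow_right m ?_
    exact (Nat.coprime_primes hp.out Nat.prime_two).2 hp2
  have h6 := Nat.le_of_dvd Nat.card_pos h5
  exact absurd (h6.trans hN) (not_le.2 hlt)

end

end Cfsg.Agent.H123.SpNC
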