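import Cfsg.Agent.H123.CycTI
import Cfsg.Agent.H123.ExcMain
import Cfsg.Agent.H795.AbSyl
import Cfsg.Agent.H944.TorAnyChev
import Cfsg.Agent.BpExc.Sig

/-!
# Cyclic Sylow subgroups: the groups embedded in `Y^σ` (S2348)

* `emb_main` : `ExcMain.main2` for a group `K₀` embedded in `Y^σ` and containing the `r`-elements;
* `exists_complement` : Burnside's transfer in the centraliser of an element of order `p` of a cyclic Sylow subgroup;
* `cycTI_of_emb` : `CycTI p K₀`.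
-/

set_option autoImplicit false
set_option linter.unusedSectionVars false

namespace Cfsg.Agent.H123

/-! ### Burnside's transfer in the centraliser -/

/-- The centraliser of an element of order `p` of a cyclic Sylow `p`-subgroup has a normal `p`-complement. -/
theorem exists_complement {p : ℕ} [hpp : Fact p.Prime] {K : Type*} [Group K] [Finite K] (P : Sylow p K)
    (hP : IsCyclic ↥(P : Subgroup K)) {s : K} (hs : s ∈ P) (hs1 : s ≠ 1) {r : ℕ} [Fact r.Prime]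
    (hpr : p ≠ r) :
    ∃ H₀ : Subgroup K, ¬ p ∣ Nat.card ↥H₀ ∧ ∀ c : K, c * s = s * c → (∃ m, c ^ r ^ m = 1) → c ∈ H₀ := by
  have hcomm : IsMulCommutative ↥(P : Subgroup K) := inferInstance
  have hPc : (P : Subgroup K) ≤ Subgroup.centralizer {s} := by
    intro y hy
    rw [Subgroup.mem_centralizer_singleton_iff]
    exact congrArg Subtype.val (mul_comm' (⟨y, hy⟩ : ↥(P : Subgroup K)) ⟨s, hs⟩)
  obtain ⟨Q, hQ⟩ : ∃ Q : Sylow p ↥(Subgroup.centralizer {s}), ∀ y, y ∈ Q ↔ (y : K) ∈ P :=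
    ⟨P.subtype hPc, fun _ => Iff.rfl⟩
  -- the powers of `s`
  have hpow : ∀ z ∈ P, z ^ p = 1 → z ∈ Subgroup.zpowers s := by
    intro z hz hzp
    refine mem_of_cyclic P.2 hP (Q := Subgroup.zpowers s) ?_ ?_ hz hzp
    · rw [Subgroup.zpowers_le]; exact hs
    · rwa [Ne, Subgroup.zpowers_eq_bot]
  have hnc : Subgroup.normalizer ((Q : Subgroup ↥(Subgroup.centralizer {s})) : Set ↥(Subgroup.centralizer {s})) ≤
      Subgroup.centralizer ((Q : Subgroup ↥(Subgroup.centralizer {s})) : Set ↥(Subgroup.centralizer {s})) := by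
    intro n hn
    have hnN : (n : K) ∈ Subgroup.normalizer ((P : Subgroup K) : Set K) := by
      rw [Subgroup.mem_normalizer_iff]
      intro y
      refine ⟨fun hy => ?_, fun hy => ?_⟩
      · exact (hQ _).1 ((Subgroup.mem_normalizer_iff.1 hn ⟨y, hPc hy⟩).1 ((hQ _).2 hy))
      · have hy' : (n : K)⁻¹ * ((n : K) * y * (n : K)⁻¹) * n ∈ P := by
          have h1 : (⟨(n : K) * y * (n : K)⁻¹, hPc hy⟩ : ↥(Subgroup.centralizer {s})) ∈ Q := (hQ _).2 hy
          have h2 := (Subgroup.mem_normalizer_iff.1 (inv_mem hn) _).1 h1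
          have h3 := (hQ _).1 h2
          have h4 : (((n⁻¹ * (⟨(n : K) * y * (n : K)⁻¹, hPc hy⟩ : ↥(Subgroup.centralizer {s})) * n⁻¹⁻¹ :
            ↥(Subgroup.centralizer {s}))) : K) = (n : K)⁻¹ * ((n : K) * y * (n : K)⁻¹) * n := by
            push_cast
            rw [inv_inv]
          rwa [h4] at h3
        have h5 : (n : K)⁻¹ * ((n : K) * y * (n : K)⁻¹) * n = y := by group
        rwa [h5] at hy'
    have hns : (n : K) * s = s * n := Subgroup.mem_centralizer_singleton_iff.1 n.2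
    have hfix := H795.fix_of_fix_small P hcomm hnN fun z hz hzp => by
      obtain ⟨i, rfl⟩ := hpow z hz hzp
      have h1 : Commute (n : K) s := hns
      have h2 : (n : K) * s ^ i = s ^ i * n := h1.zpow_right i
      show (n : K) * s ^ i * (n : K)⁻¹ = s ^ i
      rw [h2, mul_inv_cancel_right]
    rw [Subgroup.mem_centralizer_iff]
    intro y hy
    apply Subtype.ext
    have h1 := hfix y ((hQ y).1 hy)
    show (y : K) * n = n * y
    calc (y : K) * n = n * y * (n : K)⁻¹ * n := by rw [h1]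
      _ = n * y := by group
  have hnd := MonoidHom.not_dvd_card_ker_transferSylow Q hnc
  refine ⟨(MonoidHom.transferSylow Q hnc).ker.map (Subgroup.centralizer {s}).subtype, ?_, ?_⟩
  · rwa [← Nat.card_congr ((MonoidHom.transferSylow Q hnc).ker.equivMapOfInjective _
      (Subgroup.subtype_injective _)).toEquiv]
  · rintro c hc ⟨m, hm⟩
    refine ⟨⟨c, Subgroup.mem_centralizer_singleton_iff.2 hc⟩, ?_, rfl⟩
    rw [SetLike.mem_coe, MonoidHom.mem_ker]
    obtain ⟨c', hc'⟩ : ∃ c' : ↥(Subgroup.centralizer {s}), c' = ⟨c, Subgroup.mem_centralizer_singleton_iff.2 hc⟩ :=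
      ⟨_, rfl⟩
    rw [← hc']
    obtain ⟨j, hj⟩ := Q.2 (MonoidHom.transferSylow Q hnc c')
    have h1 : (MonoidHom.transferSylow Q hnc c') ^ r ^ m = 1 := by
      rw [← map_pow, hc']
      have : (⟨c, Subgroup.mem_centralizer_singleton_iff.2 hc⟩ : ↥(Subgroup.centralizer {s})) ^ r ^ m = 1 :=
        Subtype.ext hm
      rw [this, map_one]
    have h2 : (p ^ j).Coprime (r ^ m) := Nat.Coprime.pow _ _ ((Nat.coprime_primes Fact.out Fact.out).2 hpr)
    have h3 := Nat.dvd_gcd (orderOf_dvd_of_pow_eq_one hj) (orderOf_dvd_of_pow_eq_one h1)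
    rw [h2] at h3
    exact orderOf_eq_one_iff.1 (Nat.dvd_one.1 h3)

section Emb

open CoxeterSystem Cfsg Cfsg.Lie Cfsg.Lie.ChevalleyDatum
open Cfsg.Agent.ChevalleyStructure Cfsg.Agent.ChevalleyStructure.Elts Cfsg.Agent.ChevalleyStructure.CoxeterGeom
  Cfsg.Agent.ChevalleyStructure.CoxeterGeomTypes Cfsg.Agent.ChevalleyStructure.NPerm
open Cfsg.Agent.Tits.Roots Cfsg.Agent.Tits.Core Cfsg.Agent.Nodes Cfsg.Agent.Nodes.Reps Cfsg.Agent.Nodes.BNOf
  Cfsg.Agent.Nodes.RGDChev Cfsg.Agent.Nodes.Bruhat Cfsg.Agent.Nodes.NormalForm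
open Cfsg.Agent.KFacts.RgdField Cfsg.Agent.KFacts.RgdChevCoord
open Cfsg.Agent.BpExc Cfsg.Agent.BpExc.TorCent Cfsg.Agent.BpExc.TorChev Cfsg.Agent.BpExc.Tow
  Cfsg.Agent.BpExc.TowChev Cfsg.Agent.BpExc.Fr Cfsg.Agent.BpExc.LangFr Cfsg.Agent.GpExc.Field
  Cfsg.Agent.H123.ExcZ Cfsg.Agent.H123.ExcMain
open scoped Pointwise

universe u

variable {D : ChevalleyDatum} {l : ℕ} {M : CoxeterMatrix (Fin l)} (hp : IsType D l M) {k : Type u} [Field k]
  {W : Type*} [Group W] (cs : CoxeterSystem M W) {r e : ℕ} [Fact r.Prime] [CharP k r]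
  {g : (Fin l → ℤ) ≃+ (Fin l → ℤ)} {ι : Type*}

/-- `ExcMain.main2` for a group `K₀` embedded in `Y^σ` and containing the `r`-elements of `Y^σ`. -/
theorem emb_main [IsAlgClosed k] (hk : LocFin k) (he : 0 < e) {σ : MulAut ↥(D.group k)} (hσ : IsFrob r e σ)
    (Fσ : Fr cs hp.isCartan (TT D k) (XX D l k) σ g) {K₀ : Type*} [Group K₀] {f : K₀ →* ↥(D.group k)}
    (hf : Function.Injective f) (hfσ : ∀ a, σ (f a) = f a)
    (hr : ∀ y, σ y = y → (∃ m, y ^ r ^ m = 1) → y ∈ f.range)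
    [Finite ι] {x : ι → K₀} {z₀ : ↥(D.group k)} {p : ℕ} [Fact p.Prime] (hp2 : p ≠ 2) (hpr : p ≠ r) (S : Sylow p K₀)
    (hxS : ∀ i, x i ∈ S) (hxc : ∀ y ∈ S, ∀ i, y * x i = x i * y) (hS : ∀ y ∈ S, z₀⁻¹ * f y * z₀ ∈ TT D k)
    (H₀ : Subgroup K₀) (hH : ¬ p ∣ Nat.card ↥H₀)
    (hHr : ∀ c : K₀, (∀ i, c * x i = x i * c) → (∃ m, c ^ r ^ m = 1) → c ∈ H₀) :
    (∀ c, (∀ i, c * x i = x i * c) → ∀ y ∈ S, c * y * c⁻¹ ∈ S) ∧
    ∀ y ∈ S, ∀ a, IsRoot cs hp.isCartan a → (∀ i, ch hp a (z₀⁻¹ * f (x i) * z₀) = 1) →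
      ch hp a (z₀⁻¹ * f y * z₀) = 1 := by
  have hfin : Finite ↥(fixedSubgroup σ) := BpExc.Sig.finite_fixed hk he hσ
  have hle : fixZ σ (fun i => f (x i)) ≤ fixedSubgroup σ := fun y hy => (mem_fixZ.1 hy).1
  have hfin' : Finite ↥(fixZ σ (fun i => f (x i))) := Finite.of_injective (Subgroup.inclusion hle)
    (Subgroup.inclusion_injective _)
  let C := fixZ σ (fun i => f (x i))
  let G₁ : Subgroup ↥C := f.range.subgroupOf C
  -- the inverse of `f`
  let φ : ↥G₁ →* K₀ := (MonoidHom.ofInjective hf).symm.toMonoidHom.comp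
    { toFun := fun y : ↥G₁ => (⟨((y : ↥C) : ↥(D.group k)), y.2⟩ : ↥f.range)
      map_one' := rfl
      map_mul' := fun _ _ => rfl }
  have hφ : ∀ y : ↥G₁, f (φ y) = ((y : ↥C) : ↥(D.group k)) := by
    intro y
    have h1 := (MonoidHom.ofInjective hf).apply_symm_apply (⟨((y : ↥C) : ↥(D.group k)), y.2⟩ : ↥f.range)
    exact congrArg Subtype.val h1
  have hφi : Function.Injective φ := by
    intro a b hab
    exact Subtype.ext (Subtype.ext (by rw [← hφ, ← hφ, hab]))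
  have hmemC : ∀ c : K₀, (∀ i, c * x i = x i * c) → f c ∈ C := by
    intro c hc
    refine mem_fixZ.2 ⟨hfσ c, fun i => ?_⟩
    show f c * f (x i) = f (x i) * f c
    rw [← map_mul, hc, map_mul]
  have hlift : ∀ c : K₀, (∀ i, c * x i = x i * c) → ∃ y : ↥G₁, φ y = c ∧ ((y : ↥C) : ↥(D.group k)) = f c := by
    intro c hc
    refine ⟨⟨⟨f c, hmemC c hc⟩, ⟨c, rfl⟩⟩, ?_, rfl⟩
    apply hf
    rw [hφ]
  have hrange : (S : Subgroup K₀) ≤ φ.range := by
    intro y hy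
    obtain ⟨z, hz, -⟩ := hlift y (hxc y hy)
    exact ⟨z, hz⟩
  obtain ⟨S₁, hS₁⟩ : ∃ S₁ : Sylow p ↥G₁, ∀ y, y ∈ S₁ ↔ φ y ∈ S :=
    ⟨S.comapOfInjective φ hφi hrange, fun _ => Iff.rfl⟩
  have hHn : ¬ p ∣ Nat.card ↥((H₀.map f).subgroupOf C) := by
    intro h1
    apply hH
    refine h1.trans ?_
    have h2 : Nat.card ↥((H₀.map f).subgroupOf C) ∣ Nat.card ↥(H₀.map f) := by
      refine Subgroup.card_dvd_of_injective
        ({ toFun := fun y => ⟨((y : ↥C) : ↥(D.group k)), y.2⟩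
           map_one' := rfl
           map_mul' := fun _ _ => rfl } : ↥((H₀.map f).subgroupOf C) →* ↥(H₀.map f)) fun a b hab => ?_
      exact Subtype.ext (Subtype.ext (congrArg (fun z : ↥(H₀.map f) => (z : ↥(D.group k))) hab))
    rwa [Nat.card_congr (H₀.equivMapOfInjective f hf).symm.toEquiv] at h2
  have hrC : ∀ y : ↥C, (∃ m, y ^ r ^ m = 1) → ∃ c : K₀, f c = y ∧ (∀ i, c * x i = x i * c) ∧ ∃ m, c ^ r ^ m = 1 := by
    rintro y ⟨m, hm⟩
    have hm' : (y : ↥(D.group k)) ^ r ^ m = 1 := congrArg Subtype.val hm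
    obtain ⟨c, hc⟩ := hr y (mem_fixZ.1 y.2).1 ⟨m, hm'⟩
    refine ⟨c, hc, fun i => ?_, m, ?_⟩
    · apply hf
      rw [map_mul, map_mul, hc]
      exact (mem_fixZ.1 y.2).2 i
    · apply hf
      rw [map_pow, hc, hm', map_one]
  have hmain := ExcMain.main2 hp cs hk he hσ Fσ (x := fun i => f (x i)) (z₀ := z₀) (fun i => hfσ _)
    (fun i => hS _ (hxS i)) hp2 hpr (fun i => by
      obtain ⟨m, hm⟩ := S.2 ⟨x i, hxS i⟩
      refine ⟨m, ?_⟩
      rw [← map_pow]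
      have h1 : x i ^ p ^ m = 1 := congrArg Subtype.val hm
      rw [h1, map_one]) G₁ (fun y hy => by
        obtain ⟨c, hc, -⟩ := hrC y hy
        exact ⟨c, hc⟩) ((H₀.map f).subgroupOf C) hHn (fun y hy => by
        obtain ⟨c, hc, h1, h2⟩ := hrC y hy
        exact ⟨c, hHr c h1 h2, hc⟩) S₁ (fun y hy => by
        rw [← hφ]
        exact hS _ ((hS₁ y).1 hy))
  obtain ⟨hn, hroot⟩ := hmain
  constructor
  · intro c hc y hy
    obtain ⟨c', hc', -⟩ := hlift c hc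
    obtain ⟨y', hy', -⟩ := hlift y (hxc y hy)
    have h1 := hn.conj_mem y' ((hS₁ y').2 (by rw [hy']; exact hy)) c'
    have h2 := (hS₁ _).1 h1
    rwa [map_mul, map_mul, map_inv, hc', hy'] at h2
  · intro y hy a ha h1
    obtain ⟨y', hy', e'⟩ := hlift y (hxc y hy)
    have h2 := hroot y' ((hS₁ y').2 (by rw [hy']; exact hy)) a ha h1
    rwa [e'] at h2

/-- **`CycTI` for a group embedded in `Y^σ` and containing its `r`-elements.** -/
theorem cycTI_of_emb [IsAlgClosed k] (hk : LocFin k) (hk' : BpExc.TorAll.HAlg r k) (he : 0 < e)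
    {σ : MulAut ↥(D.group k)} (hσ : IsFrob r e σ)
    (Fσ : Fr cs hp.isCartan (TT D k) (XX D l k) σ g) {K₀ : Type*} [Group K₀] [Finite K₀] {f : K₀ →* ↥(D.group k)}
    (hf : Function.Injective f) (hfσ : ∀ a, σ (f a) = f a)
    (hr : ∀ y, σ y = y → (∃ m, y ^ r ^ m = 1) → y ∈ f.range)
    {p : ℕ} [Fact p.Prime] (hp2 : p ≠ 2) (hpr : p ≠ r) : CycTI p K₀ := by
  intro P hP s hs hsp hs1 c hc y hy
  obtain ⟨H₀, hH₀, hH⟩ := exists_complement P hP hs hs1 (r := r) hpr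
  -- the torality of `P`
  obtain ⟨⟨g₀, hg₀⟩, hg⟩ := hP.exists_generator
  obtain ⟨m, hm⟩ := P.2 ⟨g₀, hg₀⟩
  have hm' : g₀ ^ p ^ m = 1 := congrArg Subtype.val hm
  obtain ⟨z, hz⟩ := H944.TorAnyChev.exists_conj_mem_TT hp r hk' (x := f g₀) (q := p ^ m)
    (pow_ne_zero _ (Fact.out : p.Prime).ne_zero)
    (Nat.Coprime.pow_left m ((Nat.coprime_primes Fact.out Fact.out).2 hpr)) (by rw [← map_pow, hm', map_one])
  have hT : ∀ y ∈ P, z⁻¹⁻¹ * f y * z⁻¹ ∈ TT D k := by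
    intro y hy
    obtain ⟨i, hi⟩ := hg ⟨y, hy⟩
    have hi' : g₀ ^ i = y := congrArg Subtype.val hi
    have h1 : z⁻¹⁻¹ * f y * z⁻¹ = (z * f g₀ * z⁻¹) ^ i := by
      rw [← hi', map_zpow, conj_zpow, inv_inv]
    rw [h1]
    exact Subgroup.zpow_mem _ hz i
  have hcomm : IsMulCommutative ↥(P : Subgroup K₀) := inferInstance
  exact (emb_main hp cs hk he hσ Fσ hf hfσ hr (ι := Unit) (x := fun _ => s) (z₀ := z⁻¹) hp2 hpr P (fun _ => hs)
    (fun y hy _ => congrArg Subtype.val (mul_comm' (⟨y, hy⟩ : ↥(P : Subgroup K₀)) ⟨s, hs⟩)) hT H₀ hH₀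
    (fun c hc h => hH c (hc ()) h)).1 c (fun _ => hc) y hy

end Emb

end Cfsg.Agent.H123
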