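import Cfsg.Agent.H123.SporSimple
import Cfsg.Agent.H498.SporOut
import Cfsg.Agent.H831.RepLift
import Cfsg.Agent.H698.Fine
import Cfsg.Agent.NotCT.Orders
import Cfsg.Agent.CTwoTab.Card
import Cfsg.Agent.S2084

/-!
# `Fine` for the sporadic groups, first part (task 1138, for S4881)
-/

set_option autoImplicit false
set_option linter.unusedSectionVars false

namespace Cfsg.Agent.H123.FineSpor

open Cfsg Cfsg.Agent.H698

universe u

variable {T : Type u} [Group T] [Finite T]

theorem not_comm_of_card {n : ℕ} (hs : IsSimpleGroup T) (hn : Nat.card T = n) (hp : ¬ n.Prime) :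
    ¬ IsMulCommutative T := by
  intro h
  apply hp
  rw [← hn]
  let _ : CommGroup T := { (inferInstance : Group T) with mul_comm := fun a b => h.is_comm.comm a b }
  exact IsSimpleGroup.prime_card

/-- the lower bound for the degree -/
theorem le_deg [IsSimpleGroup T] {N s M p m : ℕ} (hN : Nat.card T = N) (hna : ¬ IsMulCommutative T) (hs : s.Prime)
    (hsM : s + 1 = 2 * M) (h1 : s ∣ N) (h2 : ¬ s ^ 2 ∣ N) (h3 : s * (s ^ 2 - 1) ≠ 2 * N) (hp : p.Prime)
    (hR : Rep.{u, u} p m T) : M ≤ m := by
  obtain ⟨h4, h5⟩ := H831.RepLift.prime_le hna hp hR hs (by rw [hN]; exact h1)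
  by_contra hlt
  have h6 : s = 2 * m + 1 := by omega
  obtain ⟨e⟩ := h5 h6 (by rw [hN]; exact h2)
  have : Fact s.Prime := ⟨hs⟩
  have h7 := CTwoTab.card_psl_two (F := ZMod s) (by rw [ZMod.card, h6]; exact odd_two_mul_add_one m)
  rw [ZMod.card, ← Nat.card_congr e.toEquiv, hN] at h7
  exact h3 h7

theorem aut_le {N : ℕ} (hN : Nat.card T = N) {c : ℕ} (hidx : (MulAut.conj : T →* MulAut T).range.index ≤ c) :
    Nat.card (MulAut T) ≤ c * N := by
  have h1 := Subgroup.card_mul_index (MulAut.conj : T →* MulAut T).range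
  have h2 : Nat.card ↥(MulAut.conj : T →* MulAut T).range ≤ N := by
    rw [← hN]
    exact Nat.card_le_card_of_surjective _ (MonoidHom.rangeRestrict_surjective (MulAut.conj : T →* MulAut T))
  rw [← h1, mul_comm c]
  exact Nat.mul_le_mul h2 hidx

theorem num {c A p M m P : ℕ} (hp : p.Prime) (hM : 2 ≤ M) (hm : M ≤ m) (hc : 1 ≤ c)
    (hlow : p < P → (p - c) * A + 1 < p ^ M) (hhigh : A ≤ P ^ (M - 1)) {B : ℕ} (hB : B ≤ A) :
    (p - c) * B + 1 < p ^ m := by
  have hpm : p ^ M ≤ p ^ m := Nat.pow_le_pow_right hp.pos hm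
  have h0 : (p - c) * B ≤ (p - c) * A := Nat.mul_le_mul_left _ hB
  rcases lt_or_ge p P with h | h
  · have := hlow h
    omega
  · have h1 : P ^ (M - 1) ≤ p ^ (M - 1) := Nat.pow_le_pow_left h _
    have h2 : p * p ^ (M - 1) = p ^ M := by
      rw [← pow_succ']
      congr 1
      omega
    have h3 : (p - c) * A ≤ (p - c) * p ^ (M - 1) := Nat.mul_le_mul_left _ (hhigh.trans h1)
    have h5 : p ≤ p ^ (M - 1) := by
      calc p = p ^ 1 := (pow_one p).symm
        _ ≤ p ^ (M - 1) := Nat.pow_le_pow_right hp.pos (by omega)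
    have h6 := hp.two_le
    rcases le_or_gt c p with h7 | h7
    · have h4 : (p - c) * p ^ (M - 1) + c * p ^ (M - 1) = p * p ^ (M - 1) := by
        rw [← add_mul]
        congr 1
        omega
      have h8 : 1 * p ^ (M - 1) ≤ c * p ^ (M - 1) := Nat.mul_le_mul_right _ hc
      omega
    · have h9 : p - c = 0 := by omega
      rw [h9, zero_mul]
      have : 1 < p ^ M := Nat.one_lt_pow (by omega) hp.one_lt
      omega

/-- the pattern, `|T|` large -/
theorem fine_of7 [IsSimpleGroup T] {N s M P c : ℕ} (hN : Nat.card T = N) (hN7 : 3263442 < N) (hnp : ¬ N.Prime) (hs : s.Prime)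
    (hsM : s + 1 = 2 * M) (hM : 2 ≤ M) (h1 : s ∣ N) (h2 : ¬ s ^ 2 ∣ N) (h3 : s * (s ^ 2 - 1) ≠ 2 * N)
    (hidx : (MulAut.conj : T →* MulAut T).range.index ≤ c)
    (hlow : ∀ p, p.Prime → 11 ≤ p → ¬ p ∣ N → p < P → (p - 13) * (c * N) + 1 < p ^ M) (hhigh : c * N ≤ P ^ (M - 1)) :
    Fine.{u, u} T := by
  have hna := not_comm_of_card inferInstance hN hnp
  have hcT : Subgroup.center T = ⊥ := by
    rcases (inferInstance : (Subgroup.center T).Normal).eq_bot_or_eq_top with h6 | h6
    · exact h6
    · exact absurd ⟨⟨fun a b => (Subgroup.mem_center_iff.1 (by rw [h6]; trivial : a ∈ Subgroup.center T) b).symm⟩⟩ hna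
  refine Fine.of_lt7 hcT (by rw [hN]; exact hN7) fun p m hp h11 hpT _ hR => ?_
  exact num hp hM (le_deg hN hna hs hsM h1 h2 h3 hp hR) (by norm_num)
    (hlow p hp h11 (by rwa [hN] at hpT)) hhigh (aut_le hN hidx)

/-- the pattern, `|T|` small -/
theorem fine_of6 [IsSimpleGroup T] {N s M P c : ℕ} (hN : Nat.card T = N) (hN7 : 1806 < N) (hnp : ¬ N.Prime) (hs : s.Prime)
    (hsM : s + 1 = 2 * M) (hM : 2 ≤ M) (h1 : s ∣ N) (h2 : ¬ s ^ 2 ∣ N) (h3 : s * (s ^ 2 - 1) ≠ 2 * N)
    (hidx : (MulAut.conj : T →* MulAut T).range.index ≤ c)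
    (hlow : ∀ p, p.Prime → 11 ≤ p → ¬ p ∣ N → p < P → (p - 11) * (c * N) + 1 < p ^ M) (hhigh : c * N ≤ P ^ (M - 1)) :
    Fine.{u, u} T := by
  have hna := not_comm_of_card inferInstance hN hnp
  have hcT : Subgroup.center T = ⊥ := by
    rcases (inferInstance : (Subgroup.center T).Normal).eq_bot_or_eq_top with h6 | h6
    · exact h6
    · exact absurd ⟨⟨fun a b => (Subgroup.mem_center_iff.1 (by rw [h6]; trivial : a ∈ Subgroup.center T) b).symm⟩⟩ hna
  refine Fine.of_lt6 hcT (by rw [hN]; exact hN7) fun p m hp h11 hpT _ hR => ?_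
  exact num hp hM (le_deg hN hna hs hsM h1 h2 h3 hp hR) (by norm_num)
    (hlow p hp h11 (by rwa [hN] at hpT)) hhigh (aut_le hN hidx)

section

variable [IsSimpleGroup T]

theorem m11 (hidx : (MulAut.conj : T →* MulAut T).range.index ≤ 2) (h : Spor.IsoM11 T) : Fine.{u, u} T := by
  refine fine_of6 (s := 11) (M := 6) (P := 13) (NotCT.Orders.m11 h) (by norm_num) (by norm_num) (by norm_num) (by norm_num)
    (by norm_num) (by norm_num) (by norm_num) (by norm_num) hidx ?_ (by norm_num)
  intro p hp h11 hd hP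
  interval_cases p <;> revert hp hd <;> norm_num

theorem m12 (hidx : (MulAut.conj : T →* MulAut T).range.index ≤ 2) (h : Spor.IsoM12 T) : Fine.{u, u} T := by
  refine fine_of6 (s := 11) (M := 6) (P := 13) (NotCT.Orders.m12 h) (by norm_num) (by norm_num) (by norm_num) (by norm_num)
    (by norm_num) (by norm_num) (by norm_num) (by norm_num) hidx ?_ (by norm_num)
  intro p hp h11 hd hP
  interval_cases p <;> revert hp hd <;> norm_num

theorem m22 (hidx : (MulAut.conj : T →* MulAut T).range.index ≤ 2) (h : Spor.IsoM22 T) : Fine.{u, u} T := by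
  refine fine_of6 (s := 11) (M := 6) (P := 17) (NotCT.Orders.m22 h) (by norm_num) (by norm_num) (by norm_num) (by norm_num)
    (by norm_num) (by norm_num) (by norm_num) (by norm_num) hidx ?_ (by norm_num)
  intro p hp h11 hd hP
  interval_cases p <;> revert hp hd <;> norm_num

theorem m23 (hidx : (MulAut.conj : T →* MulAut T).range.index ≤ 2) (h : Spor.IsoM23 T) : Fine.{u, u} T := by
  refine fine_of7 (s := 23) (M := 12) (P := 11) (NotCT.Orders.m23 h) (by norm_num) (by norm_num) (by norm_num) (by norm_num)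
    (by norm_num) (by norm_num) (by norm_num) (by norm_num) hidx ?_ (by norm_num)
  intro p hp h11 hd hP
  omega

theorem m24 (hidx : (MulAut.conj : T →* MulAut T).range.index ≤ 2) (h : Spor.IsoM24 T) : Fine.{u, u} T := by
  refine fine_of7 (s := 23) (M := 12) (P := 11) (NotCT.Orders.m24 h) (by norm_num) (by norm_num) (by norm_num) (by norm_num)
    (by norm_num) (by norm_num) (by norm_num) (by norm_num) hidx ?_ (by norm_num)
  intro p hp h11 hd hP
  omega

theorem j1 (hidx : (MulAut.conj : T →* MulAut T).range.index ≤ 2) (h : Spor.IsoJ1 T) : Fine.{u, u} T := by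
  refine fine_of6 (s := 19) (M := 10) (P := 11) (NotCT.Orders.j1 h) (by norm_num) (by norm_num) (by norm_num) (by norm_num)
    (by norm_num) (by norm_num) (by norm_num) (by norm_num) hidx ?_ (by norm_num)
  intro p hp h11 hd hP
  omega

theorem j3 (hidx : (MulAut.conj : T →* MulAut T).range.index ≤ 2) (h : Spor.IsoJ3 T) : Fine.{u, u} T := by
  refine fine_of7 (s := 19) (M := 10) (P := 11) (NotCT.Orders.j3 h) (by norm_num) (by norm_num) (by norm_num) (by norm_num)
    (by norm_num) (by norm_num) (by norm_num) (by norm_num) hidx ?_ (by norm_num)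
  intro p hp h11 hd hP
  omega

theorem j4 (hidx : (MulAut.conj : T →* MulAut T).range.index ≤ 2) (h : Spor.IsoJ4 T) : Fine.{u, u} T := by
  refine fine_of7 (s := 43) (M := 22) (P := 11) (NotCT.Orders.j4 h) (by norm_num) (by norm_num) (by norm_num) (by norm_num)
    (by norm_num) (by norm_num) (by norm_num) (by norm_num) hidx ?_ (by norm_num)
  intro p hp h11 hd hP
  omega

theorem co2 (hidx : (MulAut.conj : T →* MulAut T).range.index ≤ 2) (h : Spor.IsoCo2 T) : Fine.{u, u} T := by
  refine fine_of7 (s := 23) (M := 12) (P := 19) (NotCT.Orders.co2 h) (by norm_num) (by norm_num) (by norm_num) (by norm_num)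
    (by norm_num) (by norm_num) (by norm_num) (by norm_num) hidx ?_ (by norm_num)
  intro p hp h11 hd hP
  interval_cases p <;> revert hp hd <;> norm_num

theorem co3 (hidx : (MulAut.conj : T →* MulAut T).range.index ≤ 2) (h : Spor.IsoCo3 T) : Fine.{u, u} T := by
  refine fine_of7 (s := 23) (M := 12) (P := 17) (NotCT.Orders.co3 h) (by norm_num) (by norm_num) (by norm_num) (by norm_num)
    (by norm_num) (by norm_num) (by norm_num) (by norm_num) hidx ?_ (by norm_num)
  intro p hp h11 hd hP
  interval_cases p <;> revert hp hd <;> norm_num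

theorem he (hidx : (MulAut.conj : T →* MulAut T).range.index ≤ 2) (h : Spor.IsoHe T) : Fine.{u, u} T := by
  refine fine_of7 (s := 17) (M := 9) (P := 19) (NotCT.Orders.he h) (by norm_num) (by norm_num) (by norm_num) (by norm_num)
    (by norm_num) (by norm_num) (by norm_num) (by norm_num) hidx ?_ (by norm_num)
  intro p hp h11 hd hP
  interval_cases p <;> revert hp hd <;> norm_num

theorem ru (hidx : (MulAut.conj : T →* MulAut T).range.index ≤ 2) (h : Spor.IsoRu T) : Fine.{u, u} T := by
  refine fine_of7 (s := 29) (M := 15) (P := 11) (NotCT.Orders.ru h) (by norm_num) (by norm_num) (by norm_num) (by norm_num)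
    (by norm_num) (by norm_num) (by norm_num) (by norm_num) hidx ?_ (by norm_num)
  intro p hp h11 hd hP
  omega

theorem on (hidx : (MulAut.conj : T →* MulAut T).range.index ≤ 2) (h : Spor.IsoON T) : Fine.{u, u} T := by
  refine fine_of7 (s := 31) (M := 16) (P := 11) (NotCT.Orders.on h) (by norm_num) (by norm_num) (by norm_num) (by norm_num)
    (by norm_num) (by norm_num) (by norm_num) (by norm_num) hidx ?_ (by norm_num)
  intro p hp h11 hd hP
  omega

theorem ly (hidx : (MulAut.conj : T →* MulAut T).range.index ≤ 2) (h : Spor.IsoLy T) : Fine.{u, u} T := by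
  refine fine_of7 (s := 67) (M := 34) (P := 11) (NotCT.Orders.ly h) (by norm_num) (by norm_num) (by norm_num) (by norm_num)
    (by norm_num) (by norm_num) (by norm_num) (by norm_num) hidx ?_ (by norm_num)
  intro p hp h11 hd hP
  omega

theorem th (hidx : (MulAut.conj : T →* MulAut T).range.index ≤ 2) (h : Spor.IsoTh T) : Fine.{u, u} T := by
  refine fine_of7 (s := 31) (M := 16) (P := 17) (NotCT.Orders.th h) (by norm_num) (by norm_num) (by norm_num) (by norm_num)
    (by norm_num) (by norm_num) (by norm_num) (by norm_num) hidx ?_ (by norm_num)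
  intro p hp h11 hd hP
  interval_cases p <;> revert hp hd <;> norm_num

theorem b (hidx : (MulAut.conj : T →* MulAut T).range.index ≤ 1) (h : Spor.IsoB T) : Fine.{u, u} T := by
  refine fine_of7 (s := 47) (M := 24) (P := 29) (NotCT.Orders.b h) (by norm_num) (by norm_num) (by norm_num) (by norm_num)
    (by norm_num) (by norm_num) (by norm_num) (by norm_num) hidx ?_ (by norm_num)
  intro p hp h11 hd hP
  interval_cases p <;> revert hp hd <;> norm_num

theorem m (hidx : (MulAut.conj : T →* MulAut T).range.index ≤ 2) (h : Spor.IsoM T) : Fine.{u, u} T := by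
  refine fine_of7 (s := 71) (M := 36) (P := 37) (NotCT.Orders.m h) (by norm_num) (by norm_num) (by norm_num) (by norm_num)
    (by norm_num) (by norm_num) (by norm_num) (by norm_num) hidx ?_ (by norm_num)
  intro p hp h11 hd hP
  interval_cases p <;> revert hp hd <;> norm_num

end

theorem index_b (h : Spor.IsoB T) : (MulAut.conj : T →* MulAut T).range.index ≤ 1 := by
  obtain ⟨e⟩ := h
  rw [H498.SporOut.index_congr e]
  exact S2084.result.le

/-- the sporadic groups of task 1138 -/
theorem fine_spor1 (h : Spor.IsoM11 T ∨ Spor.IsoM12 T ∨ Spor.IsoM22 T ∨ Spor.IsoM23 T ∨ Spor.IsoM24 T ∨ Spor.IsoJ1 T ∨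
    Spor.IsoJ3 T ∨ Spor.IsoJ4 T ∨ Spor.IsoCo2 T ∨ Spor.IsoCo3 T ∨ Spor.IsoHe T ∨ Spor.IsoRu T ∨ Spor.IsoON T ∨
    Spor.IsoLy T ∨ Spor.IsoTh T ∨ Spor.IsoB T ∨ Spor.IsoM T) : Fine.{u, u} T := by
  have hsp : IsSporadicGroup T := by
    unfold IsSporadicGroup
    tauto
  have hs : IsSimpleGroup T := SporSimple.spor_simple hsp
  have hi := H498.SporOut.index_le_two hsp
  rcases h with h | h | h | h | h | h | h | h | h | h | h | h | h | h | h | h | h
  · exact m11 hi h
  · exact m12 hi h
  · exact m22 hi h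
  · exact m23 hi h
  · exact m24 hi h
  · exact j1 hi h
  · exact j3 hi h
  · exact j4 hi h
  · exact co2 hi h
  · exact co3 hi h
  · exact he hi h
  · exact ru hi h
  · exact on hi h
  · exact ly hi h
  · exact th hi h
  · exact b (index_b h) h
  · exact m hi h

end Cfsg.Agent.H123.FineSpor
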