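import Cfsg.Agent.H123.CycTI
import Cfsg.Agent.H800.Sp.Refl
import Cfsg.Agent.H573.PCent

/-!
# Groups with noncyclic Sylow `p`-subgroups

`NC p G` : no Sylow `p`-subgroup of `G` is cyclic.
-/

set_option autoImplicit false

universe u v

namespace Cfsg.Agent.H123.SpNC

open Subgroup Cfsg.Agent.H800.Sp Cfsg.Agent.H123

/-- no Sylow `p`-subgroup is cyclic -/
def NC (p : ℕ) (G : Type*) [Group G] : Prop := ∀ P : Sylow p G, ¬ IsCyclic ↥(P : Subgroup G)

theorem NC.cycTI {p : ℕ} {G : Type*} [Group G] (h : NC p G) : CycTI p G := CycTI.of_not_isCyclic h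

section

variable {p : ℕ} [hp : Fact p.Prime] {G : Type*} [Group G] [Finite G]

/-- a noncyclic `p`-subgroup -/
theorem nc_of_pgroup (Q : Subgroup G) (hQ : IsPGroup p ↥Q) (hc : ¬ IsCyclic ↥Q) : NC p G := by
  intro P hP
  obtain ⟨P', hP'⟩ := hQ.exists_le_sylow
  have e : ↥(P : Subgroup G) ≃* ↥(P' : Subgroup G) := (P.equiv P')
  have hP2 : IsCyclic ↥(P' : Subgroup G) := isCyclic_of_surjective e.toMonoidHom e.surjective
  apply hc
  exact isCyclic_of_injective (Subgroup.inclusion hP') (Subgroup.inclusion_injective hP')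

/-- a commuting pair -/
theorem nc_of_pair {a b : G} (ha : orderOf a = p) (hb : b ^ p = 1) (hab : a * b = b * a) (hn : b ∉ zpowers a) :
    NC p G := by
  have hap : a ^ p = 1 := by rw [← ha, pow_orderOf_eq_one]
  have haC : a ∈ centralizer (({a, b} : Set G)) := by
    rw [mem_centralizer_iff]
    rintro x (rfl | rfl)
    · rfl
    · exact hab.symm
  have hbC : b ∈ centralizer (({a, b} : Set G)) := by
    rw [mem_centralizer_iff]
    rintro x (rfl | rfl)
    · exact hab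
    · rfl
  have hmem : ∀ x ∈ ({a, b} : Set G), x ∈ centralizer ((centralizer (({a, b} : Set G)) : Subgroup G) : Set G) := by
    intro x hx
    rw [mem_centralizer_iff]
    intro y hy
    exact (mem_centralizer_iff.1 hy x hx).symm
  have hle : ∀ x ∈ centralizer ((centralizer (({a, b} : Set G)) : Subgroup G) : Set G),
      x ∈ centralizer (({a, b} : Set G)) := by
    intro x hx
    rw [mem_centralizer_iff] at hx ⊢
    rintro y (rfl | rfl)
    · exact hx _ haC
    · exact hx _ hbC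
  have hcom : ∀ x ∈ centralizer ((centralizer (({a, b} : Set G)) : Subgroup G) : Set G),
      ∀ y ∈ centralizer ((centralizer (({a, b} : Set G)) : Subgroup G) : Set G), x * y = y * x := by
    intro x hx y hy
    exact (mem_centralizer_iff.1 hx y (hle y hy)).symm
  let Q : Subgroup G :=
    { carrier := {x | x ∈ centralizer ((centralizer (({a, b} : Set G)) : Subgroup G) : Set G) ∧ x ^ p = 1}
      mul_mem' := by
        rintro x y ⟨hx, hx1⟩ ⟨hy, hy1⟩
        refine ⟨mul_mem hx hy, ?_⟩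
        rw [(show Commute x y from hcom x hx y hy).mul_pow, hx1, hy1, one_mul]
      one_mem' := ⟨one_mem _, one_pow p⟩
      inv_mem' := by
        rintro x ⟨hx, hx1⟩
        exact ⟨inv_mem hx, by rw [inv_pow, hx1, inv_one]⟩ }
  have haQ : a ∈ Q := ⟨hmem a (Or.inl rfl), hap⟩
  have hbQ : b ∈ Q := ⟨hmem b (Or.inr rfl), hb⟩
  refine nc_of_pgroup Q ?_ ?_
  · rintro ⟨x, hx⟩
    exact ⟨1, Subtype.ext (by rw [pow_one]; exact hx.2)⟩
  · intro hcyc
    apply hn
    have h1 : (⟨b, hbQ⟩ : ↥Q) ∈ zpowers (⟨a, haQ⟩ : ↥Q) := by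
      refine mem_zpowers_of_cyclic ?_
      rw [Subgroup.orderOf_mk, Subgroup.orderOf_mk, ha]
      exact orderOf_dvd_of_pow_eq_one hb
    obtain ⟨i, hi⟩ := h1
    exact ⟨i, congrArg Subtype.val hi⟩

theorem nc_of_refl (hp2 : p ≠ 2) {u : G} (hu : orderOf u = p) (h : Refl p u) : NC p G := by
  obtain ⟨x, c, hx, hux, huc, hcx⟩ := h
  refine nc_of_pair hu (by rw [← hx, pow_orderOf_eq_one]) hux ?_
  rintro ⟨i, hi⟩
  have h1 : c * x = x * c := by
    have h2 : Commute u c := huc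
    have h3 := (h2.zpow_left i).eq
    have h4 : u ^ i = x := hi
    rw [h4] at h3
    exact h3.symm
  have h2 : x = x⁻¹ := by rw [← hcx, h1, mul_inv_cancel_right]
  have h3 : x ^ 2 = 1 := by rw [pow_two]; nth_rw 1 [h2]; exact inv_mul_cancel x
  have h4 := orderOf_dvd_of_pow_eq_one h3
  rw [hx] at h4
  exact hp2 ((Nat.prime_dvd_prime_iff_eq hp.out Nat.prime_two).1 h4)

theorem nc_of_injective {H : Type*} [Group H] [Finite H] (h : NC p H) (f : H →* G) (hf : Function.Injective f) : NC p G := by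
  obtain ⟨P⟩ : Nonempty (Sylow p H) := inferInstance
  refine nc_of_pgroup ((P : Subgroup H).map f) (P.2.map f) fun hc => h P ?_
  have e := (P : Subgroup H).equivMapOfInjective f hf
  exact isCyclic_of_injective e.toMonoidHom e.injective

theorem nc_of_sub {H : Subgroup G} (h : NC p ↥H) : NC p G := nc_of_injective h H.subtype H.subtype_injective

theorem NC.congr {H : Type*} [Group H] (h : NC p G) (e : G ≃* H) : NC p H := by
  have : Finite H := Finite.of_equiv _ e.toEquiv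
  exact nc_of_injective h e.toMonoidHom e.injective

/-- the exponent is `p` and the order is divisible by `p²` -/
theorem nc_of_exp (P : Sylow p G) (hx : ∀ x ∈ P, x ^ p = 1) (hd : p ^ 2 ∣ Nat.card G) : NC p G := by
  refine nc_of_pgroup (P : Subgroup G) P.2 fun hc => ?_
  have h1 : p ^ 2 ∣ Nat.card ↥(P : Subgroup G) := P.pow_dvd_card_of_pow_dvd_card hd
  obtain ⟨g, hg⟩ := hc.exists_generator
  have h2 : orderOf g = Nat.card ↥(P : Subgroup G) := orderOf_eq_card_of_forall_mem_zpowers hg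
  have h3 : orderOf g ∣ p := orderOf_dvd_of_pow_eq_one (Subtype.ext (hx g.1 g.2))
  rw [h2] at h3
  have h4 := Nat.le_of_dvd hp.out.pos (h1.trans h3)
  have h5 := hp.out.one_lt
  nlinarith

/-- a subgroup of exponent `p` and order divisible by `p²` -/
theorem nc_of_exp_sub (Q : Subgroup G) (hx : ∀ x ∈ Q, x ^ p = 1) (hd : p ^ 2 ∣ Nat.card ↥Q) : NC p G := by
  refine nc_of_pgroup Q (fun x => ⟨1, Subtype.ext (by rw [pow_one]; exact hx x.1 x.2)⟩) fun hc => ?_
  obtain ⟨g, hg⟩ := hc.exists_generator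
  have h2 : orderOf g = Nat.card ↥Q := orderOf_eq_card_of_forall_mem_zpowers hg
  have h3 : orderOf g ∣ p := orderOf_dvd_of_pow_eq_one (Subtype.ext (hx g.1 g.2))
  rw [h2] at h3
  have h4 := Nat.le_of_dvd hp.out.pos (hd.trans h3)
  have h5 := hp.out.one_lt
  nlinarith

/-- two classes of subgroups of order `p` -/
theorem nc_of_classes {x y : G} (hx : orderOf x = p) (hy : orderOf y = p) (h : ∀ g : G, g * x * g⁻¹ ∉ zpowers y) :
    NC p G := by
  intro P hP
  have key : ∀ {x : G}, orderOf x = p → ∃ g : G, g * x * g⁻¹ ∈ P := by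
    intro x hx
    obtain ⟨Q, hQ⟩ := (IsPGroup.of_card (p := p) (n := 1) (G := ↥(Subgroup.zpowers x))
      (by rw [Nat.card_zpowers, hx, pow_one])).exists_le_sylow
    obtain ⟨g, hg⟩ := MulAction.exists_smul_eq G Q P
    refine ⟨g, ?_⟩
    rw [← hg]
    show g * x * g⁻¹ ∈ ((g • Q : Sylow p G) : Subgroup G)
    rw [Sylow.coe_subgroup_smul]
    exact ⟨x, hQ (mem_zpowers x), rfl⟩
  obtain ⟨g, hg⟩ := key hx
  obtain ⟨k, hk⟩ := key hy
  have hcx : orderOf (g * x * g⁻¹) = p := by rw [conj_order, hx]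
  have hcy : orderOf (k * y * k⁻¹) = p := by rw [conj_order, hy]
  have h1 : (⟨g * x * g⁻¹, hg⟩ : ↥(P : Subgroup G)) ∈ zpowers (⟨k * y * k⁻¹, hk⟩ : ↥(P : Subgroup G)) := by
    refine mem_zpowers_of_cyclic ?_
    rw [Subgroup.orderOf_mk, Subgroup.orderOf_mk, hcx, hcy]
  obtain ⟨i, hi⟩ := h1
  have h2 : (k * y * k⁻¹) ^ i = g * x * g⁻¹ := congrArg Subtype.val hi
  refine h (k⁻¹ * g) ⟨i, ?_⟩
  show y ^ i = _
  rw [conj_zpow] at h2
  calc y ^ i = k⁻¹ * (k * y ^ i * k⁻¹) * k := by group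
    _ = k⁻¹ * (g * x * g⁻¹) * k := by rw [h2]
    _ = _ := by group

/-- from `¬ PCent` -/
theorem nc_of_not_pcent (h : ¬ Cfsg.Agent.H573.PCent p G) : NC p G := by
  intro P hP
  apply h
  refine Cfsg.Agent.H573.PCent.of_sylow fun x hx => ?_
  obtain ⟨k, hk⟩ := hx
  obtain ⟨Q, hQ⟩ := (IsPGroup.of_card (p := p) (n := k) (G := ↥(Subgroup.zpowers x))
      (by rw [Nat.card_zpowers, hk])).exists_le_sylow
  have e : ↥(P : Subgroup G) ≃* ↥(Q : Subgroup G) := P.equiv Q
  have hQ2 : IsCyclic ↥(Q : Subgroup G) := isCyclic_of_surjective e.toMonoidHom e.surjective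
  refine ⟨Q, fun y hy => ?_⟩
  have h1 : (⟨y, hy⟩ : ↥(Q : Subgroup G)) * ⟨x, hQ (mem_zpowers x)⟩ = ⟨x, hQ (mem_zpowers x)⟩ * ⟨y, hy⟩ :=
    mul_comm' _ _
  exact congrArg Subtype.val h1

/-- rotation by an element of order three in its action -/
theorem nc_of_rot_three {a n : G} (ha : orderOf a = p) (hirr : ∀ k : ZMod p, k ^ 2 + k + 1 ≠ 0)
    (h1 : a * (n * a * n⁻¹) = n * a * n⁻¹ * a) (h2 : a * n * a * n * a * n = n * n * n) : NC p G := by
  have hap : a ^ p = 1 := by rw [← ha, pow_orderOf_eq_one]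
  refine nc_of_pair ha (b := n * a * n⁻¹) (by rw [conj_pow, hap, mul_one, mul_inv_cancel]) h1 ?_
  rintro ⟨k, hk⟩
  have hk' : n * a * n⁻¹ = a ^ k := hk.symm
  have h3 : n * (n * a * n⁻¹) * n⁻¹ = a ^ (k * k) := by
    rw [hk', ← conj_zpow, hk', ← zpow_mul]
  have h4 : a * (n * a * n⁻¹) * (n * (n * a * n⁻¹) * n⁻¹) = 1 := by
    calc a * (n * a * n⁻¹) * (n * (n * a * n⁻¹) * n⁻¹) = (a * n * a * n * a * n) * (n * n * n)⁻¹ := by group
      _ = 1 := by rw [h2, mul_inv_cancel]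
  rw [h3, hk', ← zpow_one_add, ← zpow_add] at h4
  have h5 : (p : ℤ) ∣ 1 + k + k * k := by
    rw [← ha]
    exact orderOf_dvd_iff_zpow_eq_one.2 h4
  apply hirr (k : ZMod p)
  have h6 : ((1 + k + k * k : ℤ) : ZMod p) = 0 := (ZMod.intCast_zmod_eq_zero_iff_dvd _ p).2 h5
  push_cast at h6
  linear_combination h6

end

end Cfsg.Agent.H123.SpNC
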