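import Cfsg.Agent.H123.CycNil
import Cfsg.Agent.BpSpor.MBigEleven
import Cfsg.Agent.H800.Sp.TitsFive
import Cfsg.Agent.H800.Sp.Th
import Cfsg.Agent.H800.Sp.Suz
import Cfsg.Agent.H800.Sp.ON
import Cfsg.Agent.H800.Sp.Mathieu
import Cfsg.Agent.H800.Sp.J2
import Cfsg.Agent.H800.Sp.He
import Cfsg.Agent.H800.Sp.HS
import Cfsg.Agent.H800.Sp.FiTT
import Cfsg.Agent.H800.Sp.FiTTh
import Cfsg.Agent.H800.Sp.FiTF
import Cfsg.Agent.H800.Sp.CoOne
import Cfsg.Agent.H800.Sp.B

/-!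
# The Sylow `p`-subgroups of the sporadic groups with `p² ∣ |G|` are not cyclic: the abelian pairs
-/

set_option autoImplicit false
set_option maxRecDepth 100000

universe u v

namespace Cfsg.Agent.H123.SpNC

open Subgroup Cfsg.Agent.H800.Sp Cfsg.Agent.H123

instance instFactThree : Fact (Nat.Prime 3) := ⟨Nat.prime_three⟩

instance instFactFive : Fact (Nat.Prime 5) := ⟨Nat.prime_five⟩

instance instFactSeven : Fact (Nat.Prime 7) := ⟨by norm_num⟩

/-! ### Mathieu groups -/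

theorem m11_3 {G : Type*} [Group G] (h : Cfsg.Spor.IsoM11 G) : NC 3 G := by
  have hM := Cfsg.Agent.Cit.Eleven.isM11 h
  have : Finite G := Cfsg.Agent.Cit.Eleven.finite h
  obtain ⟨P⟩ : Nonempty (Sylow 3 G) := inferInstance
  exact nc_of_exp P (fun x hx => Cfsg.Agent.SporadicA.M11Facts2.pow_three_eq_one hM P hx) (by rw [hM.2]; norm_num)

section

open Cfsg.Agent.SporadicA.GolayBase Cfsg.Agent.SporadicA.GolayPerm
open Cfsg.Agent.SporadicStructure.M24El Cfsg.Agent.H865.ListGroup Mathieu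

theorem chkA3 : Nat.beq (pcomp A (pcomp A A)) idP = true := by decide +kernel

theorem okAA : ok (pcomp A A) = true := by decide +kernel

theorem el_A_pow : (el A : M24) ^ 3 = 1 := by
  have h1 := chkA3
  rw [Nat.beq_eq] at h1
  have h2 : el (pcomp A (pcomp A A)) = (1 : M24) := by rw [h1, el_idP]
  rw [el_pcomp okA okAA, el_pcomp okA okA] at h2
  rw [pow_succ, pow_two, mul_assoc]
  exact h2

theorem el_pow : ∀ P ∈ L, (el P : M24) ^ 3 = 1 := by
  intro P hP
  by_cases h1 : (el P : M24) = 1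
  · rw [h1, one_pow]
  · obtain ⟨c, -, hc⟩ := conj_L hP h1
    have h2 : (el c : M24) * el P ^ 3 * (el c)⁻¹ = 1 := by
      rw [← conj_pow, hc, el_A_pow]
    have h3 : (el P : M24) ^ 3 = (el c)⁻¹ * (el c * el P ^ 3 * (el c)⁻¹) * el c := by group
    rw [h3, h2]
    group

theorem nc_of (H : Subgroup (Equiv.Perm GolayPt)) (h22 : Cfsg.Spor.M22 ≤ H) : NC 3 H := by
  have hPH : (listGroup L chkL : Subgroup M24).map M24.subtype ≤ H := by
    rintro _ ⟨_, ⟨P, hP, rfl⟩, rfl⟩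
    exact h22 (el_fix ((chkGroup_spec chkL).1 P hP).1 (L_fix P hP))
  have hcP : Nat.card ((listGroup L chkL : Subgroup M24).map M24.subtype) = 9 := by
    rw [Nat.card_congr (Subgroup.equivMapOfInjective _ _ M24.subtype_injective).toEquiv.symm,
      card_listGroup chkL L_nodup]
    rfl
  have hcP' : Nat.card (((listGroup L chkL : Subgroup M24).map M24.subtype).subgroupOf H) = 9 := by
    rw [Nat.card_congr (Subgroup.subgroupOfEquivOfLe hPH).toEquiv, hcP]
  refine nc_of_exp_sub (((listGroup L chkL : Subgroup M24).map M24.subtype).subgroupOf H) ?_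
    (by rw [hcP']; norm_num)
  rintro ⟨x, hxH⟩ hx
  rw [Subgroup.mem_subgroupOf] at hx
  obtain ⟨_, ⟨P, hP, rfl⟩, hPx⟩ := hx
  have hPx' : (el P : Equiv.Perm GolayPt) = x := hPx
  refine Subtype.ext ?_
  show x ^ 3 = 1
  rw [← hPx']
  exact congrArg Subtype.val (el_pow P hP)

theorem m22_3 {G : Type*} [Group G] (h : Cfsg.Spor.IsoM22 G) : NC 3 G :=
  (nc_of _ le_rfl).congr h.some.symm

theorem m23_3 {G : Type*} [Group G] (h : Cfsg.Spor.IsoM23 G) : NC 3 G :=
  (nc_of _ inf_le_left).congr h.some.symm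

end

/-! ### HS -/

theorem a6_3 : NC 3 (alternatingGroup (Fin 6)) := by
  have hb : (Equiv.swap 3 4 * Equiv.swap 4 5 : Equiv.Perm (Fin 6)) ∈ alternatingGroup (Fin 6) := by
    rw [Equiv.Perm.mem_alternatingGroup]; decide
  have h1 : (Equiv.swap 3 4 * Equiv.swap 4 5 : Equiv.Perm (Fin 6)) ^ 3 = 1 := by decide
  have h2 : AltSix.a * (Equiv.swap 3 4 * Equiv.swap 4 5) = (Equiv.swap 3 4 * Equiv.swap 4 5) * AltSix.a := by decide
  refine nc_of_pair (a := ⟨AltSix.a, AltSix.a_mem⟩) (b := ⟨_, hb⟩) (by rw [Subgroup.orderOf_mk, AltSix.a_order])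
    (Subtype.ext h1) (Subtype.ext h2) ?_
  rintro ⟨i, hi⟩
  have h1 : AltSix.a ^ i = Equiv.swap 3 4 * Equiv.swap 4 5 := congrArg Subtype.val hi
  have h2 : (AltSix.a ^ i) 3 = 3 := by
    have h3 : AltSix.a 3 = 3 := by decide
    exact Equiv.Perm.zpow_apply_eq_self_of_apply_eq_self h3 i
  rw [h1] at h2
  exact absurd h2 (by decide)

theorem hs_3 {G : Type*} [Group G] [Finite G] (h : Cfsg.Spor.IsoHS G) : NC 3 G := by
  obtain ⟨D⟩ := Cfsg.Agent.KFacts.HS.exists_mod h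
  exact nc_of_injective a6_3 _ (Cfsg.Agent.KFacts.HS.DFour.rho_inj D)

/-! ### O'N -/

section

open Cfsg.Spor Cfsg.Spor.ON Cfsg.Agent.R04.ONThree Cfsg.Agent.KFacts.ON Cfsg.Agent.SporadicB.ON45Word
  Cfsg.Agent.R04.ThreeAbs

theorem nc_of_data {G : Type*} [Group G] [Finite G] {a b e f p q : G} (D : Data a b e f p q) (hab : a * b ≠ 1) :
    NC 3 G := by
  have ho : orderOf (a * b) = 3 := orderOf_eq_prime D.ab3 hab
  refine nc_of_pair ho (b := p * (a * b) * p⁻¹) (by rw [conj_pow, D.ab3, mul_one, mul_inv_cancel]) D.c12 ?_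
  rintro ⟨k, hk⟩
  have hk' : p * (a * b) * p⁻¹ = (a * b) ^ k := hk.symm
  have h3 : p * (p * (a * b) * p⁻¹) * p⁻¹ = (a * b) ^ (k * k) := by
    rw [hk', ← conj_zpow, hk', ← zpow_mul]
  rw [D.px2, ← zpow_natCast, zpow_eq_zpow_iff_modEq, ho] at h3
  have h4 : k * k % 3 = 2 := by
    have := h3.symm
    simpa [Int.ModEq] using this
  have h5 : k % 3 = 0 ∨ k % 3 = 1 ∨ k % 3 = 2 := by omega
  rcases h5 with h5 | h5 | h5 <;> rw [Int.mul_emod, h5] at h4 <;> norm_num at h4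

theorem on_3 {G : Type*} [Group G] (h : Cfsg.Spor.IsoON G) : NC 3 G := by
  have hc : Nat.card ON = 460815505920 := Cent.hON.2
  have hfin : Finite ON := Nat.finite_of_card_ne_zero (by rw [hc]; norm_num)
  exact (nc_of_data (data ON.hs) ab_ne).congr h.some.symm

end

/-! ### J2 -/

section

open Cfsg.Agent.J2Type

theorem j2_5 {G : Type*} [Group G] [Finite G] (h : Cfsg.Spor.IsoJ2 G) : NC 5 G := by
  obtain ⟨z, u, Q, v, ρ, D⟩ := KFacts.J2.Facts.exists_dat_of h
  have hF := D.F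
  obtain ⟨f, U, V, H0, F⟩ := CentU.main hF
  have hG := Order.card_of_fus hF
  have h60 := ThreeA.card_H0 hF F
  obtain ⟨w0, hw0, hwz⟩ := ThreeD.exists_w0 hF
  obtain ⟨w, hw⟩ := exists_prime_orderOf_dvd_card' (G := H0) 5 (by rw [h60]; norm_num)
  have hw5 : orderOf (w : G) = 5 := by rw [orderOf_coe]; exact hw
  have hC := Cent5.card_centralizer_five hF F h60 hG w.2 hw5
  have h4 := FiveFus.not_four_dvd hF hw0 hwz
  refine nc_of_classes hw0 hw5 fun g hg => h4 ?_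
  rw [Cent5.card_centralizer_of_isConj (isConj_iff.2 ⟨g, rfl⟩ : IsConj w0 (g * w0 * g⁻¹))]
  have hle : centralizer ({(w : G)} : Set G) ≤ centralizer ({g * w0 * g⁻¹} : Set G) := by
    intro c hc
    rw [mem_centralizer_singleton_iff] at hc ⊢
    obtain ⟨i, hi⟩ := hg
    have hi' : (w : G) ^ i = g * w0 * g⁻¹ := hi
    rw [← hi']
    exact ((show Commute c w from hc).zpow_right i).eq
  exact (show (4 : ℕ) ∣ 300 by norm_num).trans (hC ▸ Subgroup.card_dvd_of_le hle)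

end

/-! ### He, Suz -/

section

open Cfsg.Spor Cfsg.Spor.He Cfsg.Agent.SporadicB.HePerm Cfsg.Agent.HeldHe.Model
open Cfsg.Agent.KFacts.He.Words Cfsg.Agent.KFacts.He.Lv
open Cfsg.Agent.H800.Sp.He

theorem he_5 {G : Type*} [Group G] (h : Cfsg.Spor.IsoHe G) : NC 5 G := by
  have hc : Nat.card Cfsg.Spor.He = 4030387200 := Cfsg.Agent.KFacts.He.Cent.card_He
  have hfin : Finite Cfsg.Spor.He := Nat.finite_of_card_ne_zero (by rw [hc]; norm_num)
  have hW : (wd W)⁻¹ = wd W.reverse := by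
    have h := geq chk2
    rw [wd_append, wd_nil] at h
    exact inv_eq_of_mul_eq_one_right h
  refine NC.congr (nc_of_rot_three (a := wd X) (n := wd W) (orderOf_eq_prime a_pow a_ne) hirr ?_ ?_) h.some.symm
  · have h := geq chk3
    simp only [wd_append] at h
    rw [hW]
    simp only [mul_assoc]
    exact h
  · have h := geq chk4
    simp only [wd_append] at h
    simp only [mul_assoc]
    exact h

end

section

open Cfsg.Spor Cfsg.Agent.SporadicRecognition.SuzPhi Cfsg.Agent.SporadicRecognition.SuzOrder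
open Cfsg.Agent.SporRec.SuzCl
open Cfsg.Agent.H800.Sp.Suz

theorem suz_5 {G : Type*} [Group G] (h : Cfsg.Spor.IsoSuz G) : NC 5 G := by
  have hc : Nat.card Cfsg.Spor.Suz = 448345497600 := card_Suz
  have hfin : Finite Cfsg.Spor.Suz := Nat.finite_of_card_ne_zero (by rw [hc]; norm_num)
  have hW : (el W)⁻¹ = el W.reverse := by
    have h := geq chk2
    rw [el_append, el_nil] at h
    exact inv_eq_of_mul_eq_one_right h
  refine NC.congr (nc_of_rot_three (a := el X) (n := el W) (orderOf_eq_prime a_pow a_ne) hirr ?_ ?_) h.some.symm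
  · have h := geq chk3
    simp only [el_append] at h
    rw [hW]
    simp only [mul_assoc]
    exact h
  · have h := geq chk4
    simp only [el_append] at h
    simp only [mul_assoc]
    exact h

end

/-! ### Fischer groups -/

theorem fi22_5 {G : Type*} [Group G] [Finite G] (h : Cfsg.Spor.IsoFi22 G) : NC 5 G := by
  obtain ⟨e⟩ := h
  have C := Cfsg.Agent.LThreeFi22.Inst.ctx e
  obtain ⟨u, hu⟩ := exists_prime_orderOf_dvd_card' 5 (G := G) (by rw [C.card]; norm_num)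
  exact nc_of_refl (by norm_num) hu (FiTT.refl C (by rw [← hu, pow_orderOf_eq_one]) (by
    rintro rfl
    rw [orderOf_one] at hu
    omega))

theorem fi23_5 {G : Type*} [Group G] (h : Cfsg.Spor.IsoFi23 G) : NC 5 G := by
  have hfin : Finite Cfsg.Spor.Fi23 := Nat.finite_of_card_ne_zero (by rw [Cfsg.Agent.LThreeFi23.card_G]; norm_num)
  obtain ⟨u, hu⟩ := exists_prime_orderOf_dvd_card' 5 (G := Cfsg.Spor.Fi23) (by
    rw [Cfsg.Agent.LThreeFi23.card_G]; norm_num)
  exact (nc_of_refl (by norm_num) hu (FiTTh.refl hu)).congr h.some.symm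

theorem fi24_5 {G : Type*} [Group G] (h : Cfsg.Spor.IsoFi24' G) : NC 5 G := by
  have hfin : Finite Cfsg.Spor.Fi24 := Cfsg.Agent.LThreeFi24.FiveConj.finite
  obtain ⟨u, hu⟩ := exists_prime_orderOf_dvd_card' 5 (G := Cfsg.Spor.Fi24') (by
    rw [Cfsg.Agent.R08.FiTwentyFour.card_commutator]; norm_num)
  exact (nc_of_refl (by norm_num) hu (FiTF.refl hu)).congr h.some.symm

/-! ### Tits -/

section

open Cfsg.Agent.Omega.TwoF.Tits Cfsg.Agent.Omega.TwoF.Scalar Cfsg.Agent.Omega.TwoF.Orb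
  Cfsg.Agent.ChevalleyStructure.Tits.Main

theorem pow_five_aux {X : Type*} [Group X] {a s x : X} (ha : a ^ 5 = 1) (hs : s * a * s⁻¹ = x) : x ^ 5 = 1 := by
  rw [← hs, conj_pow, ha, mul_one, mul_inv_cancel]

theorem pow_aux {X : Type*} [Group X] (P : Subgroup X) {a : P} (ha : orderOf a = 5) : (a : X) ^ 5 = 1 ∧ (a : X) ≠ 1 := by
  have h1 : a ^ 5 = 1 := by
    have h := pow_orderOf_eq_one a
    rwa [ha] at h
  refine ⟨congrArg Subtype.val h1, fun h2 => ?_⟩
  have h3 : a = 1 := Subtype.ext h2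
  rw [h3, orderOf_one] at ha
  omega

theorem tits_C : NC 5 C := by
  have h5 : 5 ∣ Nat.card ↥(Cfsg.Agent.CpAutTits.Fus.P) := by
    rw [Cfsg.Agent.CpAutTits.Fus.card_P]; norm_num
  obtain ⟨a, ha⟩ := exists_prime_orderOf_dvd_card' (G := ↥(Cfsg.Agent.CpAutTits.Fus.P)) 5 h5
  obtain ⟨ha5, ha1⟩ := pow_aux _ ha
  refine nc_of_exp_sub (Cfsg.Agent.CpAutTits.Fus.P) ?_ (by rw [Cfsg.Agent.CpAutTits.Fus.card_P]; norm_num)
  intro x hx
  by_cases h1 : x = 1
  · rw [h1]; exact one_pow 5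
  · obtain ⟨s, -, hs⟩ := Cfsg.Agent.CpAutTits.Fus.fus a.2 ha1 hx h1
    exact pow_five_aux ha5 hs

theorem tits_C_congr {X : Type} [Group X] (e : C ≃* X) : NC 5 X := tits_C.congr e

end

theorem tits_TT_aux (K : Subgroup (Matrix.GeneralLinearGroup Cfsg.Agent.ChevalleyStructure.Tits.Mat.I52 (ZMod 2)))
    (hK : K = Cfsg.Agent.ChevalleyStructure.Tits.Order.H0)
    (e : Nonempty (↥(_root_.commutator K) ≃* ↥Cfsg.Agent.TitsK.TT)) : NC 5 ↥Cfsg.Agent.TitsK.TT := by
  subst hK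
  obtain ⟨e⟩ := e
  exact tits_C_congr e

theorem tits_TT : NC 5 ↥Cfsg.Agent.TitsK.TT :=
  tits_TT_aux (Cfsg.Lie.twistedF4 (ZMod 2) 1) Cfsg.Agent.ChevalleyStructure.Tits.Main.T0_eq_H0
    Cfsg.Agent.TitsK.exists_equiv

theorem tits_5 {X : Type u} [Group X] [Finite X] (h : Cfsg.Lie.IsoTits X) : NC 5 X := by
  obtain ⟨e⟩ := Cfsg.Agent.CpAutTits.Row.exists_equiv h
  have : Finite ↥Cfsg.Agent.TitsK.TT := Finite.of_equiv _ e.toEquiv
  exact tits_TT.congr e.symm

/-! ### 7 -/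

theorem co1_7 {G : Type*} [Group G] (h : Cfsg.Spor.IsoCo1 G) : NC 7 G := by
  have hfin : Finite Cfsg.Spor.Co1 := BpSevenCo.Conj.finite_co1
  refine NC.congr (nc_of_pair (a := BpSevenCo.Conj.y) (b := BpSevenCo.Conj.x)
    (orderOf_eq_prime BpSevenCo.Conj.y_pow BpSevenCo.Conj.y_ne) BpSevenCo.Conj.x_pow BpSevenCo.Conj.comm_xy.symm ?_)
    h.some.symm
  intro hx
  obtain ⟨k, hk⟩ := (isOfFinOrder_of_finite BpSevenCo.Conj.y).mem_powers_iff_mem_zpowers.2 hx
  have hk' : BpSevenCo.Conj.y ^ k = BpSevenCo.Conj.x := hk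
  refine BpSevenCo.Conj.not_nf BpSevenCo.Conj.fr_x ?_
  rw [← hk']
  exact BpSevenCo.Conj.nf_y.pow k

section

open Cfsg.Agent.Th.Gen248 Cfsg.Agent.Th.Hom248 Cfsg.Agent.ThType.SevenBase
  Cfsg.Agent.ThType.SevenGY Cfsg.Agent.ThType.SevenG2 Cfsg.Agent.ThType.SevenG6 Cfsg.Agent.ThType.SevenAbstract
  Cfsg.Agent.ThType.Seven

theorem th_7' : NC 7 Cfsg.Spor.Th := by
  have h : Cfsg.IsTh Cfsg.Spor.Th := Cfsg.Agent.Th.Main1700.isTh
  have : Finite Cfsg.Spor.Th := Nat.finite_of_card_ne_zero (by rw [h.2]; norm_num)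
  have rs : W w15 = 1 := Th.rel (by simp [ws])
  have rsa : W w16 = 1 := Th.rel (by simp [ws])
  have hcomm : ∀ p q : Cfsg.Spor.Th, p⁻¹ * q⁻¹ * p * q = 1 → p * q = q * p := by
    intro p q hpq
    have h1 : q * p * (p⁻¹ * q⁻¹ * p * q) = p * q := by group
    rw [← h1, hpq, mul_one]
  have hsa : W (.g .s) * W (.g .a) = W (.g .a) * W (.g .s) := by
    apply hcomm
    rw [← rsa]
    simp only [w16, W_mul, W_inv]
  have hs : W (.g .s) ^ 7 = 1 := by rw [← W_pow]; exact rs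
  have hs1 : W (.g .s) ≠ 1 := by rw [← W_one]; exact W_ne (evG_ne ck_s)
  refine nc_of_pair (a := W (.g .s)) (b := W wy) (orderOf_eq_prime hs hs1)
    (by rw [← W_pow, ← W_one]; exact W_eq h y7) (by rw [← W_mul, ← W_mul]; exact W_eq h sy) ?_
  rintro ⟨k, hk⟩
  have hk' : W (.g .s) ^ k = W wy := hk
  have hay : W (.g .a) * W wy ≠ W wy * W (.g .a) := by rw [← W_mul, ← W_mul]; exact W_ne ay
  apply hay
  rw [← hk']
  exact ((show Commute (W (.g .a)) (W (.g .s)) from hsa.symm).zpow_right k).eq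

theorem th_7 {G : Type*} [Group G] (h : Cfsg.Spor.IsoTh G) : NC 7 G := by
  have h1 : Cfsg.IsTh Cfsg.Spor.Th := Cfsg.Agent.Th.Main1700.isTh
  have : Finite Cfsg.Spor.Th := Nat.finite_of_card_ne_zero (by rw [h1.2]; norm_num)
  exact th_7'.congr h.some.symm

end

theorem b_7 {G : Type*} [Group G] (h : Cfsg.Spor.IsoB G) : NC 7 G := by
  have hfin : Finite Cfsg.Spor.BabyMonster :=
    Nat.finite_of_card_ne_zero (by rw [Cfsg.Agent.S1704.result.2]; norm_num)
  obtain ⟨T, hT⟩ := B.exists_th_B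
  exact (nc_of_sub (th_7 hT)).congr h.some.symm

/-! ### `(M, 11)` -/

section

open Cfsg.Agent.BpSpor.MBigModel Cfsg.Agent.BpSpor.MBigEleven

instance instFactEleven : Fact (Nat.Prime 11) := ⟨prime11⟩

theorem m_11' : NC 11 MG := by
  have hfin : Finite MG := finite
  obtain ⟨x', hx', hpx'⟩ := Cfsg.Agent.MFive.KPair.exists_order chart prime11 (by decide)
    Cfsg.Agent.BpSpor.MBigCo.orderOf_s11
  refine nc_of_involution (x := (x' : MG)) (z := zz) (by norm_num) (by rw [Subgroup.orderOf_coe, hx']) orderOf_zz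
    (mem_centralizer_singleton_iff.1 x'.2).symm (by rw [card_M]; norm_num) (fun v hv => not_sq (Or.inl rfl) hv)
    (N := 4224) (card_inf hx') ?_
  intro m hm hd
  have h1 : 10 ≤ m := by
    by_contra hcon
    push Not at hcon
    have hm' : 1 ≤ m := Nat.one_le_iff_ne_zero.2 hm
    clear hm
    interval_cases m <;> revert hd <;> decide
  have h2 : 2 ^ 10 ≤ 2 ^ m := Nat.pow_le_pow_right (by norm_num) h1
  omega

end

theorem m_11 {G : Type*} [Group G] (h : Cfsg.Spor.IsoM G) : NC 11 G := by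
  have hfin : Finite Cfsg.Agent.BpSpor.MBigModel.MG := Cfsg.Agent.BpSpor.MBigModel.finite
  obtain ⟨e⟩ := Cfsg.Agent.MonsterP.Equiv.equiv
  exact m_11'.congr (e.symm.trans h.some.symm)

end Cfsg.Agent.H123.SpNC
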