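import Cfsg.Agent.H123.CycTI
import Cfsg.Agent.H216.CyclicSylow

/-!
# Cyclic Sylow subgroups: trivial intersection in arbitrary finite groups (S2349)

`main` : S2349 from S2348 for the simple groups `H / O_{p'}(H)`, `H = O^{p'}(G)`.
-/

set_option autoImplicit false
set_option linter.unusedSectionVars false

namespace Cfsg.Agent.H123.TIRed

open Subgroup Cfsg

universe u

variable {p : ℕ} [hp : Fact p.Prime]

/-- S2348 for a group `K`. -/
def TI (p : ℕ) (K : Type*) [Group K] : Prop :=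
  ∀ P : Sylow p K, IsCyclic ↥(P : Subgroup K) → ∀ g : K,
    (P : Subgroup K).map (MulAut.conj g).toMonoidHom = (P : Subgroup K) ∨
      (P : Subgroup K).map (MulAut.conj g).toMonoidHom ⊓ (P : Subgroup K) = ⊥

variable {G : Type u} [Group G] [Finite G]

/-- the subgroup generated by the `p`-elements is generated by its `p`-elements -/
theorem gen : pElementClosure p (⊤ : Subgroup ↥(pElementClosure p (⊤ : Subgroup G))) = ⊤ := by
  have h1 := Subgroup.closure_closure_coe_preimage (k := {x : G | x ∈ (⊤ : Subgroup G) ∧ ∃ k : ℕ, orderOf x = p ^ k})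
  rw [eq_top_iff]
  refine h1.ge.trans (closure_mono ?_)
  rintro ⟨x, hx⟩ ⟨-, k, hk⟩
  exact ⟨mem_top _, k, by rw [← hk]; exact Subgroup.orderOf_mk x hx⟩

theorem normal : (pElementClosure p (⊤ : Subgroup G)).Normal := by
  refine ⟨fun x hx c => ?_⟩
  have h1 : pElementClosure p (⊤ : Subgroup G) ≤ (pElementClosure p (⊤ : Subgroup G)).comap
      (MulAut.conj c).toMonoidHom := by
    rw [pElementClosure, closure_le]
    rintro y ⟨-, k, hk⟩
    refine subset_closure ⟨mem_top _, k, ?_⟩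
    rw [← hk]
    exact orderOf_injective (MulAut.conj c).toMonoidHom (MulAut.conj c).injective y
  exact h1 hx

theorem sylow_le (P : Sylow p G) : (P : Subgroup G) ≤ pElementClosure p (⊤ : Subgroup G) := by
  intro y hy
  obtain ⟨k, hk⟩ := (IsPGroup.iff_orderOf.1 P.2) ⟨y, hy⟩
  rw [Subgroup.orderOf_mk] at hk
  exact subset_closure ⟨mem_top _, k, hk⟩

/-- `C_G(s)` normalises `P O_{p'}(G)`. -/
theorem conj_mem_sup (hS : ∀ (K : Type u) [Group K] [Finite K] [IsSimpleGroup K], ¬ IsMulCommutative K → TI p K)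
    (P : Sylow p G) (hP : IsCyclic ↥(P : Subgroup G)) {s : G} (hs : s ∈ P) (hs1 : s ≠ 1) {c : G} (hc : c * s = s * c)
    {y : G} (hy : y ∈ P) : c * y * c⁻¹ ∈ (P : Subgroup G) ⊔ pPrimeCore p G := by
  have hHn := normal (p := p) (G := G)
  have hPH := sylow_le P
  have hcore : ∀ z : ↥(pElementClosure p (⊤ : Subgroup G)), z ∈ pPrimeCore p ↥(pElementClosure p (⊤ : Subgroup G)) →
      (z : G) ∈ pPrimeCore p G := by
    intro z hz
    have h1 := Lib.Cores.map_subtype_pPrimeCore p hHn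
    have h2 : (z : G) ∈ (pPrimeCore p ↥(pElementClosure p (⊤ : Subgroup G))).map
      (pElementClosure p (⊤ : Subgroup G)).subtype := ⟨z, hz, rfl⟩
    rw [h1] at h2
    exact h2.2
  have hcy : c * y * c⁻¹ ∈ pElementClosure p (⊤ : Subgroup G) := hHn.conj_mem y (hPH hy) c
  obtain ⟨P', hP'⟩ : ∃ P' : Sylow p ↥(pElementClosure p (⊤ : Subgroup G)), ∀ z, z ∈ P' ↔ (z : G) ∈ P :=
    ⟨P.subtype hPH, fun _ => Iff.rfl⟩
  have hcyc : IsCyclic ↥(P' : Subgroup ↥(pElementClosure p (⊤ : Subgroup G))) := by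
    let f : ↥(P' : Subgroup ↥(pElementClosure p (⊤ : Subgroup G))) →* ↥(P : Subgroup G) :=
      { toFun := fun y => ⟨y.1.1, (hP' _).1 y.2⟩
        map_one' := rfl
        map_mul' := fun _ _ => rfl }
    exact isCyclic_of_injective f fun a b hab =>
      Subtype.ext (Subtype.ext (congrArg (fun z : ↥(P : Subgroup G) => (z : G)) hab))
  rcases H216.CyclicSylow.dichotomy (gen (p := p) (G := G)) P' with h1 | ⟨-, h1, h2⟩
  · have h2 : (⟨c * y * c⁻¹, hcy⟩ : ↥(pElementClosure p (⊤ : Subgroup G))) ∈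
        (P' : Subgroup ↥(pElementClosure p (⊤ : Subgroup G))) ⊔
          pPrimeCore p ↥(pElementClosure p (⊤ : Subgroup G)) := by rw [h1]; exact mem_top _
    have := Lib.Cores.pPrimeCore_normal (G := ↥(pElementClosure p (⊤ : Subgroup G))) p
    obtain ⟨a, ha, b, hb, hab⟩ := mem_sup_of_normal_right.1 h2
    have h3 : (a : G) * b = c * y * c⁻¹ := congrArg Subtype.val hab
    rw [← h3]
    exact mul_mem (mem_sup_left ((hP' a).1 ha)) (mem_sup_right (hcore b hb))
  · -- the simple quotient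
    have hn := Lib.Cores.pPrimeCore_normal (G := ↥(pElementClosure p (⊤ : Subgroup G))) p
    have hTI := hS _ h2
    obtain ⟨π, hπs, hπk⟩ : ∃ π : ↥(pElementClosure p (⊤ : Subgroup G)) →*
        (↥(pElementClosure p (⊤ : Subgroup G)) ⧸ pPrimeCore p ↥(pElementClosure p (⊤ : Subgroup G))),
        Function.Surjective π ∧ ∀ z, π z = 1 ↔ z ∈ pPrimeCore p ↥(pElementClosure p (⊤ : Subgroup G)) :=
      ⟨QuotientGroup.mk' _, QuotientGroup.mk'_surjective _, fun z => QuotientGroup.eq_one_iff z⟩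
    obtain ⟨Q, hQ⟩ : ∃ Q : Sylow p (↥(pElementClosure p (⊤ : Subgroup G)) ⧸
        pPrimeCore p ↥(pElementClosure p (⊤ : Subgroup G))), ∀ w, w ∈ Q ↔ ∃ z ∈ P', π z = w :=
      ⟨P'.mapSurjective hπs, fun _ => Iff.rfl⟩
    have hQc : IsCyclic ↥(Q : Subgroup (↥(pElementClosure p (⊤ : Subgroup G)) ⧸
        pPrimeCore p ↥(pElementClosure p (⊤ : Subgroup G)))) := by
      let f : ↥(P' : Subgroup ↥(pElementClosure p (⊤ : Subgroup G))) →*
          ↥(Q : Subgroup (↥(pElementClosure p (⊤ : Subgroup G)) ⧸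
            pPrimeCore p ↥(pElementClosure p (⊤ : Subgroup G)))) :=
        { toFun := fun z => ⟨π z, (hQ _).2 ⟨z, z.2, rfl⟩⟩
          map_one' := Subtype.ext (map_one π)
          map_mul' := fun a b => Subtype.ext (map_mul π _ _) }
      refine isCyclic_of_surjective f ?_
      rintro ⟨w, hw⟩
      obtain ⟨z, hz, e⟩ := (hQ w).1 hw
      exact ⟨⟨z, hz⟩, Subtype.ext e⟩
    -- `c P c⁻¹` is conjugate to `P` in `H`
    obtain ⟨P₂, hP₂⟩ : ∃ P₂ : Sylow p ↥(pElementClosure p (⊤ : Subgroup G)), ∀ z, z ∈ P₂ ↔ c⁻¹ * (z : G) * c ∈ P := by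
      have h3 : ((c • P : Sylow p G) : Subgroup G) ≤ pElementClosure p (⊤ : Subgroup G) := sylow_le _
      refine ⟨(c • P : Sylow p G).subtype h3, fun z => ?_⟩
      show (z : G) ∈ ((c • P : Sylow p G) : Subgroup G) ↔ _
      rw [Sylow.coe_subgroup_smul, Subgroup.mem_pointwise_smul_iff_inv_smul_mem, ← map_inv, MulAut.smul_def,
        MulAut.conj_apply, inv_inv]
      rfl
    obtain ⟨h, hh⟩ := MulAction.exists_smul_eq ↥(pElementClosure p (⊤ : Subgroup G)) P' P₂
    have hh' : ∀ z ∈ P₂, h⁻¹ * z * h ∈ P' := by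
      intro z hz
      rw [← hh] at hz
      have hz' : z ∈ ((h • P' : Sylow p _) : Subgroup ↥(pElementClosure p (⊤ : Subgroup G))) := hz
      rw [Sylow.coe_subgroup_smul, Subgroup.mem_pointwise_smul_iff_inv_smul_mem, ← map_inv, MulAut.smul_def,
        MulAut.conj_apply, inv_inv] at hz'
      exact hz'
    have hs2 : (⟨s, hPH hs⟩ : ↥(pElementClosure p (⊤ : Subgroup G))) ∈ P₂ := by
      rw [hP₂]
      show c⁻¹ * s * c ∈ P
      have h3 : c⁻¹ * s * c = s := by rw [mul_assoc, ← hc, inv_mul_cancel_left]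
      rwa [h3]
    have hπs1 : π ⟨s, hPH hs⟩ ≠ 1 := by
      intro h3
      have h4 := hcore _ ((hπk _).1 h3)
      apply hs1
      have h5 : orderOf (⟨s, h4⟩ : ↥(pPrimeCore p G)) ∣ Nat.card ↥(pPrimeCore p G) := orderOf_dvd_natCard _
      rw [Subgroup.orderOf_mk] at h5
      obtain ⟨k, hk⟩ := (IsPGroup.iff_orderOf.1 P.2) ⟨s, hs⟩
      rw [Subgroup.orderOf_mk] at hk
      have h6 : (p ^ k).Coprime (Nat.card ↥(pPrimeCore p G)) :=
        Nat.Coprime.pow_left k (Lib.Cores.pPrimeCore_coprime (G := G) p).symm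
      rw [hk] at h5
      have h7 := Nat.dvd_gcd (dvd_refl (p ^ k)) h5
      rw [h6] at h7
      rw [← orderOf_eq_one_iff, hk]
      exact Nat.dvd_one.1 h7
    have h4 := hTI Q hQc (π h)
    have h5 : (Q : Subgroup _).map (MulAut.conj (π h)).toMonoidHom ⊓ (Q : Subgroup _) ≠ ⊥ := by
      intro h6
      apply hπs1
      rw [← mem_bot, ← h6]
      refine ⟨⟨π (h⁻¹ * ⟨s, hPH hs⟩ * h), (hQ _).2 ⟨_, hh' _ hs2, rfl⟩, ?_⟩, (hQ _).2 ⟨_, (hP' _).2 hs, rfl⟩⟩
      show π h * π (h⁻¹ * ⟨s, hPH hs⟩ * h) * (π h)⁻¹ = _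
      rw [map_mul, map_mul, map_inv]
      group
    have h6 := h4.resolve_right h5
    have hy2 : (⟨c * y * c⁻¹, hcy⟩ : ↥(pElementClosure p (⊤ : Subgroup G))) ∈ P₂ := by
      rw [hP₂]
      show c⁻¹ * (c * y * c⁻¹) * c ∈ P
      have h7 : c⁻¹ * (c * y * c⁻¹) * c = y := by group
      rwa [h7]
    have h7 : π ⟨c * y * c⁻¹, hcy⟩ ∈ (Q : Subgroup _) := by
      rw [← h6]
      refine ⟨π (h⁻¹ * ⟨c * y * c⁻¹, hcy⟩ * h), (hQ _).2 ⟨_, hh' _ hy2, rfl⟩, ?_⟩
      show π h * π (h⁻¹ * ⟨c * y * c⁻¹, hcy⟩ * h) * (π h)⁻¹ = _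
      rw [map_mul, map_mul, map_inv]
      group
    obtain ⟨z, hz, hzw⟩ := (hQ _).1 h7
    have h8 : z⁻¹ * ⟨c * y * c⁻¹, hcy⟩ ∈ pPrimeCore p ↥(pElementClosure p (⊤ : Subgroup G)) := by
      rw [← hπk, map_mul, map_inv, hzw, inv_mul_cancel]
    have h9 := hcore _ h8
    have h10 : c * y * c⁻¹ = (z : G) * ((z⁻¹ * ⟨c * y * c⁻¹, hcy⟩ : ↥(pElementClosure p (⊤ : Subgroup G))) : G) := by
      push_cast
      group
    rw [h10]
    exact mul_mem (mem_sup_left ((hP' z).1 hz)) (mem_sup_right h9)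

/-- **S2349 from S2348.** -/
theorem main (hS : ∀ (K : Type u) [Group K] [Finite K] [IsSimpleGroup K], ¬ IsMulCommutative K → TI p K)
    (P : Sylow p G) (hP : IsCyclic P) (P₁ : Subgroup G) (hP₁ : P₁ ≤ P) (hcard : Nat.card P₁ = p) :
    (∀ g : G, (P : Subgroup G).map (MulAut.conj g).toMonoidHom = (P : Subgroup G) ∨
        (P : Subgroup G).map (MulAut.conj g).toMonoidHom ⊓ (P : Subgroup G) = ⊥) ↔
      Subgroup.centralizer (P : Set G) ⊓ Cfsg.pPrimeCore p G =
        Subgroup.centralizer (P₁ : Set G) ⊓ Cfsg.pPrimeCore p G := by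
  have hPc : IsCyclic ↥(P : Subgroup G) := hP
  have hUn := Lib.Cores.pPrimeCore_normal (G := G) p
  obtain ⟨⟨s, hs⟩, hso⟩ := exists_prime_orderOf_dvd_card' (G := ↥P₁) p (dvd_of_eq hcard.symm)
  rw [Subgroup.orderOf_mk] at hso
  have hsp : s ^ p = 1 := by rw [← hso]; exact pow_orderOf_eq_one s
  have hs1 : s ≠ 1 := by
    rintro rfl
    rw [orderOf_one] at hso
    exact hp.out.one_lt.ne hso
  have hsP : s ∈ (P : Subgroup G) := hP₁ hs
  have hle : centralizer (P : Set G) ⊓ pPrimeCore p G ≤ centralizer (P₁ : Set G) ⊓ pPrimeCore p G :=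
    inf_le_inf_right _ (centralizer_le (fun x hx => hP₁ hx))
  have hcop : ∀ u ∈ pPrimeCore p G, ∀ k : ℕ, u ^ p ^ k = 1 → u = 1 := by
    intro u hu k hk
    have h5 : orderOf (⟨u, hu⟩ : ↥(pPrimeCore p G)) ∣ Nat.card ↥(pPrimeCore p G) := orderOf_dvd_natCard _
    rw [Subgroup.orderOf_mk] at h5
    have h6 : (p ^ k).Coprime (Nat.card ↥(pPrimeCore p G)) :=
      Nat.Coprime.pow_left k (Lib.Cores.pPrimeCore_coprime (G := G) p).symm
    have h7 := Nat.dvd_gcd (orderOf_dvd_of_pow_eq_one hk) h5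
    rw [h6] at h7
    exact orderOf_eq_one_iff.1 (Nat.dvd_one.1 h7)
  have hpow : ∀ y ∈ (P : Subgroup G), ∃ k : ℕ, y ^ p ^ k = 1 := by
    intro y hy
    obtain ⟨k, hk⟩ := P.2 ⟨y, hy⟩
    exact ⟨k, congrArg Subtype.val hk⟩
  constructor
  · intro hTI
    refine le_antisymm hle ?_
    rintro u ⟨hu, huU⟩
    refine ⟨?_, huU⟩
    have hus : u * s = s * u := (mem_centralizer_iff.1 hu s hs).symm
    refine mem_centralizer_iff.2 ?_
    intro y hy
    have h1 : u * y * u⁻¹ ∈ P := mem_of_ti P hTI hsP hs1 hus hy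
    -- the commutator lies in `P ∩ U`
    have h2 : u * y * u⁻¹ * y⁻¹ ∈ pPrimeCore p G := by
      have h3 : u * y * u⁻¹ * y⁻¹ = u * (y * u⁻¹ * y⁻¹) := by group
      rw [h3]
      exact mul_mem huU (hUn.conj_mem _ (inv_mem huU) y)
    have h3 : u * y * u⁻¹ * y⁻¹ ∈ (P : Subgroup G) := mul_mem h1 (inv_mem hy)
    obtain ⟨k, hk⟩ := hpow _ h3
    have h4 := hcop _ h2 k hk
    have h5 : u * y * u⁻¹ = y := mul_inv_eq_one.1 h4
    calc y * u = u * y * u⁻¹ * u := by rw [h5]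
      _ = u * y := by group
  · intro heq
    refine ti_of P hPc fun s' hs' hsp' hs1' c hc y hy => ?_
    -- `s` is a power of `s'`
    have hcs : c * s = s * c := by
      have h1 : s ∈ zpowers s' := by
        refine mem_of_cyclic P.2 hPc (Q := zpowers s') ?_ ?_ hsP hsp
        · rw [zpowers_le]; exact hs'
        · rwa [Ne, zpowers_eq_bot]
      obtain ⟨i, rfl⟩ := h1
      have h3 : Commute c s' := hc
      exact h3.zpow_right i
    have hsup := conj_mem_sup hS P hPc hsP hs1 hcs hy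
    obtain ⟨a, ha, u, hu, hau⟩ := mem_sup_of_normal_right.1 hsup
    have hcomm : IsMulCommutative ↥(P : Subgroup G) := inferInstance
    have hPs : ∀ z ∈ (P : Subgroup G), z * s = s * z := fun z hz =>
      congrArg Subtype.val (mul_comm' (⟨z, hz⟩ : ↥(P : Subgroup G)) ⟨s, hsP⟩)
    have hcys : c * y * c⁻¹ * s = s * (c * y * c⁻¹) := by
      have h1 : c⁻¹ * s = s * c⁻¹ := by
        have h3 : Commute c s := hcs
        exact h3.inv_left
      calc c * y * c⁻¹ * s = c * y * (c⁻¹ * s) := by group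
        _ = c * (y * s) * c⁻¹ := by rw [h1]; group
        _ = (c * s) * (y * c⁻¹) := by rw [hPs y hy]; group
        _ = s * (c * y * c⁻¹) := by rw [hcs]; group
    have hus : u * s = s * u := by
      have h1 : u = a⁻¹ * (c * y * c⁻¹) := by rw [← hau]; group
      have h2 : a⁻¹ * s = s * a⁻¹ := hPs _ (inv_mem ha)
      rw [h1, mul_assoc, hcys, ← mul_assoc, h2, mul_assoc]
    have hu1 : u ∈ centralizer (P : Set G) ⊓ pPrimeCore p G := by
      rw [heq]
      refine ⟨mem_centralizer_iff.2 ?_, hu⟩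
      intro z hz
      have h1 : z ∈ zpowers s := by
        refine mem_of_cyclic P.2 hPc (Q := zpowers s) ?_ ?_ (hP₁ hz) ?_
        · rw [zpowers_le]; exact hsP
        · rwa [Ne, zpowers_eq_bot]
        · have h2 := pow_card_eq_one' (G := ↥P₁) (x := ⟨z, hz⟩)
          rw [hcard] at h2
          exact congrArg Subtype.val h2
      obtain ⟨i, rfl⟩ := h1
      have h3 : Commute u s := hus
      exact (h3.zpow_right i).symm
    have hua : a * u = u * a := mem_centralizer_iff.1 hu1.1 a ha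
    obtain ⟨k, hk⟩ := hpow y hy
    obtain ⟨j, hj⟩ := hpow a ha
    have h1 : (c * y * c⁻¹) ^ p ^ (k + j) = 1 := by
      rw [conj_pow, pow_add, pow_mul, hk, one_pow, mul_one, mul_inv_cancel]
    have h2 : u ^ p ^ (k + j) = 1 := by
      have h3 : Commute a u := hua
      rw [← hau, h3.mul_pow] at h1
      have h4 : a ^ p ^ (k + j) = 1 := by rw [pow_add, mul_comm, pow_mul, hj, one_pow]
      rwa [h4, one_mul] at h1
    have h3 := hcop u hu _ h2
    rw [← hau, h3, mul_one]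
    exact ha

end Cfsg.Agent.H123.TIRed
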